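import Groth.Agent.Lib.Grass.RegSeq
import Groth.Agent.Lib.Depth.CM
import Groth.Agent.Lib.Excellent.Transport
import Mathlib.RingTheory.Regular.Flat
import Mathlib.RingTheory.Flat.Localization
import Mathlib.RingTheory.Localization.LocalizationLocalization
import Mathlib.RingTheory.MvPolynomial.Homogeneous
import Mathlib.RingTheory.Jacobson.Ring
import Mathlib.FieldTheory.IsAlgClosed.Basic
import Mathlib.RingTheory.Ideal.Height

/-!
# Cohen–Macaulay criterion through a linear regular sequence of parameters
-/

set_option linter.unusedSectionVars false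

namespace Groth.Agent.Lib.Grass.FreeCM

open RingTheory.Sequence MvPolynomial

universe u v

/-- A Noetherian ring is Cohen–Macaulay as soon as its localisations at maximal ideals are. -/
theorem isCohenMacaulayRing_of_forall_isMaximal (R : Type u) [CommRing R] [IsNoetherianRing R]
    (h : ∀ (m : Ideal R) [m.IsMaximal], LocCoh.IsCohenMacaulayLocalRing (Localization.AtPrime m)) :
    LocCoh.IsCohenMacaulayRing R := by
  refine { isCohenMacaulayLocalRing_localization := fun p _ => ?_ }
  obtain ⟨m, hm, hpm⟩ := p.exists_le_maximal (Ideal.IsPrime.ne_top ‹_›)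
  have := h m
  set p' : Ideal (Localization.AtPrime m) := p.map (algebraMap R (Localization.AtPrime m))
  have hd : Disjoint (m.primeCompl : Set R) (p : Set R) :=
    Set.disjoint_left.2 fun x hx hx' => hx (hpm hx')
  have hp' : p'.IsPrime := IsLocalization.isPrime_of_isPrime_disjoint m.primeCompl _ p ‹_› hd
  have hcomap : p'.comap (algebraMap R (Localization.AtPrime m)) = p :=
    IsLocalization.under_map_of_isPrime_disjoint m.primeCompl _ ‹_› hd
  set T := Localization.AtPrime p'
  have hloc : IsLocalization.AtPrime T (p'.comap (algebraMap R (Localization.AtPrime m))) :=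
    IsLocalization.isLocalization_isLocalization_atPrime_isLocalization m.primeCompl T p'
  haveI : IsLocalization p.primeCompl T := by
    have : (p'.comap (algebraMap R (Localization.AtPrime m))).primeCompl = p.primeCompl := by
      ext x; exact not_congr (SetLike.ext_iff.1 hcomap x)
    rw [← this]; exact hloc
  have hcm := Groth.Agent.Lib.Depth.CM.isCohenMacaulayLocalRing_localization p'
  exact Groth.Agent.Lib.Excellent.Transport.isCohenMacaulayLocalRing_of_ringEquiv
    (IsLocalization.algEquiv p.primeCompl T (Localization.AtPrime p)).toRingEquiv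

variable {F : Type u} [Field F] {σ : Type v} [Finite σ]

lemma homogeneousComponent_mul_linear {θ g : MvPolynomial σ F} (hθ : θ.IsHomogeneous 1) (m : ℕ) :
    homogeneousComponent (m + 1) (g * θ) = homogeneousComponent m g * θ ∧
      homogeneousComponent 0 (g * θ) = 0 := by
  have hterm : ∀ j, (homogeneousComponent j g * θ).IsHomogeneous (j + 1) := fun j =>
    (homogeneousComponent_isHomogeneous j g).mul hθ
  constructor
  · conv_lhs => rw [← sum_homogeneousComponent g, Finset.sum_mul, map_sum]
    rw [Finset.sum_eq_single m]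
    · exact homogeneousComponent_eq_self (hterm m)
    · intro j _ hj
      rw [homogeneousComponent_of_mem (hterm j), if_neg (by omega)]
    · intro hm
      have hm' : g.totalDegree < m := by simp at hm; omega
      rw [homogeneousComponent_eq_zero m g hm', zero_mul, map_zero]
  · conv_lhs => rw [← sum_homogeneousComponent g, Finset.sum_mul, map_sum]
    exact Finset.sum_eq_zero fun j _ => by
      rw [homogeneousComponent_of_mem (hterm j), if_neg (by omega)]

variable {k : ℕ} (θ : Fin k → MvPolynomial σ F) (I : Ideal (MvPolynomial σ F))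

/-- Generation of the quotient over the polynomial subring, degree by degree. -/
theorem exists_coords (hI : ∀ f ∈ I, ∀ m, homogeneousComponent m f ∈ I)
    (hθ : ∀ i, (θ i).IsHomogeneous 1) {B : Type*} [Fintype B] (e : B → (σ →₀ ℕ))
    (hspan : ∀ f : MvPolynomial σ F, ∃ c : B → F,
      f - ∑ b, C (c b) * monomial (e b) 1 ∈ I ⊔ Ideal.span (Set.range θ))
    (f : MvPolynomial σ F) :
    ∃ p : B → MvPolynomial (Fin k) F, f - ∑ b, aeval θ (p b) * monomial (e b) 1 ∈ I := by
  classical
  suffices H : ∀ (m : ℕ) (f : MvPolynomial σ F), f.IsHomogeneous m →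
      ∃ p : B → MvPolynomial (Fin k) F, f - ∑ b, aeval θ (p b) * monomial (e b) 1 ∈ I by
    choose! p hp using fun j => H j (homogeneousComponent j f) (homogeneousComponent_isHomogeneous j f)
    refine ⟨fun b => ∑ j ∈ Finset.range (f.totalDegree + 1), p j b, ?_⟩
    have := sum_mem (t := Finset.range (f.totalDegree + 1)) fun j _ => hp j
    convert this using 1
    rw [Finset.sum_sub_distrib, sum_homogeneousComponent, Finset.sum_comm]
    simp [map_sum, Finset.sum_mul]
  intro m
  induction m using Nat.strong_induction_on with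
  | _ m ih =>
    intro f hf
    obtain ⟨c, hc⟩ := hspan f
    obtain ⟨i, hi, y, hy, hiy⟩ := Submodule.mem_sup.1 hc
    obtain ⟨g, hg⟩ := Ideal.mem_span_range_iff_exists_fun.1 hy
    set c' : B → F := fun b => if (e b).degree = m then c b else 0
    have hcomp : f = homogeneousComponent m i + ∑ b, C (c' b) * monomial (e b) 1 +
        ∑ j, homogeneousComponent m (g j * θ j) := by
      have hfe : f = i + ∑ j, g j * θ j + ∑ b, C (c b) * monomial (e b) 1 := by
        rw [hg, hiy, sub_add_cancel]
      conv_lhs => rw [← homogeneousComponent_eq_self hf, hfe, map_add, map_add, map_sum, map_sum]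
      rw [add_right_comm]
      congr 2
      refine Finset.sum_congr rfl fun b _ => ?_
      rw [C_mul_monomial, mul_one, homogeneousComponent_of_mem (isHomogeneous_monomial _ rfl)]
      simp only [c']
      by_cases h : m = (e b).degree
      · rw [if_pos h, if_pos h.symm, C_mul_monomial, mul_one]
      · rw [if_neg h, if_neg (fun h' => h h'.symm), map_zero, zero_mul]
    rcases m with _ | m
    · refine ⟨fun b => C (c' b), ?_⟩
      have h0 : ∑ j, homogeneousComponent 0 (g j * θ j) = 0 :=
        Finset.sum_eq_zero fun j _ => (homogeneousComponent_mul_linear (hθ j) 0).2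
      rw [h0, add_zero] at hcomp
      simp only [aeval_C, algebraMap_eq]
      rw [hcomp, add_sub_cancel_right]
      exact hI i hi 0
    · choose! p hp using fun j => ih m (Nat.lt_succ_self m) (homogeneousComponent m (g j))
        (homogeneousComponent_isHomogeneous m (g j))
      refine ⟨fun b => C (c' b) + ∑ j, X j * p j b, ?_⟩
      have h1 : ∑ j, homogeneousComponent (m + 1) (g j * θ j) =
          ∑ j, θ j * homogeneousComponent m (g j) :=
        Finset.sum_congr rfl fun j _ => by rw [(homogeneousComponent_mul_linear (hθ j) m).1, mul_comm]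
      rw [h1] at hcomp
      simp only [map_add, map_sum, map_mul, aeval_C, algebraMap_eq, aeval_X, add_mul, Finset.sum_mul,
        Finset.sum_add_distrib]
      rw [Finset.sum_comm, hcomp]
      have h2 := sum_mem (t := Finset.univ) fun j _ => I.mul_mem_left (θ j) (hp j)
      have h3 := add_mem (hI i hi (m + 1)) h2
      convert h3 using 1
      simp only [mul_sub, Finset.sum_sub_distrib, Finset.mul_sum, mul_assoc]
      ring

/-- A graded quotient of a polynomial ring over an algebraically closed field with a linear regular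
sequence of parameters is Cohen–Macaulay. -/
theorem isCohenMacaulayRing [IsAlgClosed F] (hI : ∀ f ∈ I, ∀ m, homogeneousComponent m f ∈ I)
    (hθ : ∀ i, (θ i).IsHomogeneous 1)
    (hreg : IsWeaklyRegular (MvPolynomial σ F ⧸ I) (List.ofFn θ))
    (hrad : ∀ s, X s ∈ (I ⊔ Ideal.span (Set.range θ)).radical)
    (hdim : ringKrullDim (MvPolynomial σ F ⧸ I) ≤ (k : WithBot ℕ∞)) :
    LocCoh.IsCohenMacaulayRing (MvPolynomial σ F ⧸ I) := by
  classical
  cases nonempty_fintype σ
  set J := I ⊔ Ideal.span (Set.range θ) with hJ
  choose N hN using hrad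
  set S : Set (σ →₀ ℕ) := {e | ∀ s, e s < N s}
  have hS : S.Finite := by
    refine Set.Finite.subset (Set.finite_range
      (fun a : (s : σ) → Fin (N s) => Finsupp.equivFunOnFinite.symm fun s => (a s).val)) fun e he => ?_
    exact ⟨fun s => ⟨e s, he s⟩, Finsupp.ext fun s => by simp⟩
  set mon : (σ →₀ ℕ) → MvPolynomial σ F ⧸ J := fun e => Ideal.Quotient.mk J (monomial e 1)
  have htop : Submodule.span F (mon '' S) = ⊤ := by
    rw [eq_top_iff]
    rintro x -
    obtain ⟨p, rfl⟩ := Ideal.Quotient.mk_surjective x
    induction p using MvPolynomial.induction_on' with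
    | add p q hp hq => rw [map_add]; exact add_mem hp hq
    | monomial e a =>
      by_cases he : e ∈ S
      · have : Ideal.Quotient.mk J (monomial e a) = a • mon e := by
          simp only [mon]
          rw [← Ideal.Quotient.mkₐ_eq_mk F, ← map_smul, smul_monomial, smul_eq_mul, mul_one]
        rw [this]
        exact Submodule.smul_mem _ _ (Submodule.subset_span ⟨e, he, rfl⟩)
      · obtain ⟨s, hs⟩ : ∃ s, N s ≤ e s := by
          by_contra hc
          simp only [not_exists, not_le] at hc
          exact he hc
        have : monomial e a ∈ J := by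
          have e2 : e = (e - Finsupp.single s (N s)) + Finsupp.single s (N s) :=
            (tsub_add_cancel_of_le (Finsupp.single_le_iff.2 hs)).symm
          rw [e2, monomial_add_single]
          exact J.mul_mem_left _ (hN s)
        rw [Ideal.Quotient.eq_zero_iff_mem.2 this]
        exact zero_mem _
  obtain ⟨b, hb, hbspan, hbind⟩ := exists_linearIndependent F (mon '' S)
  have hbfin : b.Finite := (hS.image mon).subset hb
  haveI : Fintype b := hbfin.fintype
  choose e he hee using fun x : b => hb x.2
  have hspan : ∀ f : MvPolynomial σ F, ∃ c : b → F, f - ∑ x, C (c x) * monomial (e x) 1 ∈ J := by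
    intro f
    have hm : Ideal.Quotient.mk J f ∈ Submodule.span F (Set.range ((↑) : b → MvPolynomial σ F ⧸ J)) := by
      rw [Subtype.range_coe, hbspan, htop]; trivial
    obtain ⟨c, hc⟩ := (Submodule.mem_span_range_iff_exists_fun F).1 hm
    refine ⟨c, ?_⟩
    rw [← Ideal.Quotient.eq_zero_iff_mem, map_sub, sub_eq_zero, map_sum, ← hc]
    refine Finset.sum_congr rfl fun x _ => ?_
    rw [← smul_eq_C_mul, ← Ideal.Quotient.mkₐ_eq_mk F, map_smul, Ideal.Quotient.mkₐ_eq_mk]
    exact congrArg _ (hee x).symm
  set R := MvPolynomial σ F ⧸ I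
  let P := MvPolynomial (Fin k) F
  let φ : P →ₐ[F] R := (Ideal.Quotient.mkₐ F I).comp (aeval θ)
  letI : Algebra P R := φ.toRingHom.toAlgebra
  have hsmul : ∀ (p : P) (f : MvPolynomial σ F),
      p • Ideal.Quotient.mk I f = Ideal.Quotient.mk I (aeval θ p * f) := fun p f => by
    rw [map_mul]; rfl
  let v : b → R := fun x => Ideal.Quotient.mk I (monomial (e x) 1)
  have hsum : ∀ p : b → P, ∑ x, p x • v x =
      Ideal.Quotient.mk I (∑ x, aeval θ (p x) * monomial (e x) 1) := fun p => by
    rw [map_sum]; exact Finset.sum_congr rfl fun x _ => hsmul _ _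
  have hgen : ⊤ ≤ Submodule.span P (Set.range v) := by
    rintro x -
    obtain ⟨f, rfl⟩ := Ideal.Quotient.mk_surjective x
    obtain ⟨p, hp⟩ := exists_coords θ I hI hθ e hspan f
    refine (Submodule.mem_span_range_iff_exists_fun P).2 ⟨p, ?_⟩
    rw [hsum]
    exact (Ideal.Quotient.eq.2 (by simpa [neg_sub] using I.neg_mem hp))
  have hind : LinearIndependent P v := by
    rw [Fintype.linearIndependent_iff]
    intro p hp x
    refine RegSeq.eq_zero_of_sum_aeval_smul (A := MvPolynomial σ F) (K := F) k θ Finset.univ v hreg
      (fun c hc => ?_) p ?_ x (Finset.mem_univ x)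
    · intro y _
      have hc' : Ideal.Quotient.mk I (∑ x, C (c x) * monomial (e x) 1) ∈
          Ideal.ofList (List.ofFn θ) • (⊤ : Submodule (MvPolynomial σ F) R) := by
        convert hc using 1
        rw [map_sum]
        exact Finset.sum_congr rfl fun x _ => rfl
      have hJ' : Ideal.ofList (List.ofFn θ) • (⊤ : Submodule (MvPolynomial σ F) R) ≤
          Submodule.map (Submodule.mkQ I) J := by
        rw [← Submodule.range_mkQ I, ← Submodule.map_top, ← Submodule.map_smul'']
        refine Submodule.map_mono ?_
        rw [smul_eq_mul, Ideal.mul_top]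
        refine le_trans (Ideal.span_le.2 ?_) le_sup_right
        intro r hr
        simp only [Set.mem_setOf_eq, List.mem_ofFn] at hr
        obtain ⟨i, rfl⟩ := hr
        exact Ideal.subset_span ⟨i, rfl⟩
      obtain ⟨z, hz, hz'⟩ := hJ' hc'
      have hzJ : ∑ x, C (c x) * monomial (e x) 1 ∈ J := by
        have : z - ∑ x, C (c x) * monomial (e x) 1 ∈ I := Ideal.Quotient.eq.1 hz'
        have h4 := J.sub_mem hz (Ideal.mem_sup_left this)
        rwa [sub_sub_cancel] at h4
      refine Fintype.linearIndependent_iff.1 hbind c ?_ y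
      rw [← Ideal.Quotient.eq_zero_iff_mem.2 hzJ, map_sum]
      refine Finset.sum_congr rfl fun x _ => ?_
      rw [← smul_eq_C_mul, ← Ideal.Quotient.mkₐ_eq_mk F, map_smul, Ideal.Quotient.mkₐ_eq_mk]
      exact congrArg _ (hee x).symm
    · rw [← hp]
      exact Finset.sum_congr rfl fun x _ => rfl
  haveI : Module.Free P R := Module.Free.of_basis (Module.Basis.mk hind hgen)
  haveI : Module.Flat P R := inferInstance
  refine isCohenMacaulayRing_of_forall_isMaximal R fun n hn => ?_
  letI : Field (R ⧸ n) := Ideal.Quotient.field n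
  haveI : Algebra.FiniteType F (R ⧸ n) :=
    Algebra.FiniteType.of_surjective (Ideal.Quotient.mkₐ F n) Ideal.Quotient.mk_surjective
  haveI : Module.Finite F (R ⧸ n) := finite_of_finite_type_of_isJacobsonRing F (R ⧸ n)
  have hbij := IsAlgClosed.algebraMap_bijective_of_isIntegral (k := F) (K := R ⧸ n)
  choose c hc using fun i => hbij.2 (Ideal.Quotient.mk n (Ideal.Quotient.mk I (θ i)))
  have hseq := RegSeq.isWeaklyRegular_X_sub_C (F := F) k c
  have hR := hseq.of_flat (S := R)
  have hn' := hR.of_flat (S := Localization.AtPrime n)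
  set L := Localization.AtPrime n
  haveI : Module.Flat R L := IsLocalization.flat L n.primeCompl
  refine Groth.Agent.Lib.Depth.CM.isCohenMacaulayLocalRing_of_isRegular
    (rs := (List.map (algebraMap P R) (List.ofFn fun i => X i - C (c i))).map (algebraMap R L)) ?_ ?_
  · refine IsRegular.of_isWeaklyRegular_of_mem_maximalIdeal (mem := fun r hr => ?_) (reg := hn')
    simp only [List.mem_map, List.mem_ofFn] at hr
    obtain ⟨r, ⟨q, ⟨i, rfl⟩, rfl⟩, rfl⟩ := hr
    rw [IsLocalization.AtPrime.to_map_mem_maximal_iff L n, ← Ideal.Quotient.eq_zero_iff_mem]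
    show Ideal.Quotient.mk n (φ (X i - C (c i))) = 0
    rw [map_sub, AlgHom.comp_apply, aeval_X, ← algebraMap_eq, AlgHom.commutes, map_sub]
    simp only [Ideal.Quotient.mkₐ_eq_mk]
    rw [← hc i, sub_eq_zero]
    rfl
  · simp only [List.length_map, List.length_ofFn]
    rw [IsLocalization.AtPrime.ringKrullDim_eq_height n L]
    exact (Ideal.height_le_ringKrullDim_of_ne_top hn.ne_top).trans hdim

end Groth.Agent.Lib.Grass.FreeCM
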