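import Mathlib.RingTheory.Regular.RegularSequence
import Mathlib.Algebra.MvPolynomial.Equiv
import Mathlib.Algebra.MvPolynomial.Eval
import Mathlib.Algebra.MvPolynomial.NoZeroDivisors
import Mathlib.LinearAlgebra.Finsupp.LinearCombination

/-!
# Weakly regular sequences: exact sequences, and algebraic independence of regular sequences
-/

set_option linter.unusedSectionVars false

namespace Groth.Agent.Lib.Grass.RegSeq

open RingTheory.Sequence
open scoped Pointwise

universe u v w

variable {A : Type u} [CommRing A] {L M Q : Type v} [AddCommGroup L] [Module A L] [AddCommGroup M]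
  [Module A M] [AddCommGroup Q] [Module A Q] {f : L →ₗ[A] M} {g : M →ₗ[A] Q}

lemma mem_smul_top_iff {N : Type*} [AddCommGroup N] [Module A N] {x : A} {y : N} :
    y ∈ x • (⊤ : Submodule A N) ↔ ∃ z, x • z = y := by
  simp [Submodule.mem_smul_pointwise_iff_exists]

lemma mk_eq_zero_iff {N : Type*} [AddCommGroup N] [Module A N] {x : A} {y : N} :
    (Submodule.Quotient.mk y : QuotSMulTop x N) = 0 ↔ ∃ z, x • z = y := by
  rw [Submodule.Quotient.mk_eq_zero, mem_smul_top_iff]

/-- If `x` is regular on the cokernel, reduction modulo `x` keeps a short exact sequence short exact. -/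
lemma map_injective_of_isSMulRegular (hf : Function.Injective f) (hfg : Function.Exact f g) {x : A}
    (hx : IsSMulRegular Q x) : Function.Injective (QuotSMulTop.map x f) := by
  rw [injective_iff_map_eq_zero]
  intro l hl
  obtain ⟨l, rfl⟩ := Submodule.Quotient.mk_surjective _ l
  rw [QuotSMulTop.map_apply_mk, mk_eq_zero_iff] at hl
  obtain ⟨m, hm⟩ := hl
  have h0 : g m = 0 := hx (by simp only [smul_zero, ← map_smul, hm, hfg.apply_apply_eq_zero])
  obtain ⟨l', rfl⟩ := (hfg m).1 h0
  exact mk_eq_zero_iff.2 ⟨l', hf (by rw [map_smul, hm])⟩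

lemma regular_middle (hfg : Function.Exact f g) (hf : Function.Injective f) {x : A}
    (hL : IsSMulRegular L x) (hQ : IsSMulRegular Q x) : IsSMulRegular M x := by
  refine isSMulRegular_iff_right_eq_zero_of_smul.2 fun m hm => ?_
  have h0 : g m = 0 := hQ (by simp only [smul_zero, ← map_smul, hm, map_zero])
  obtain ⟨l, rfl⟩ := (hfg m).1 h0
  have hl : x • l = 0 := hf (by rw [map_smul, hm, map_zero])
  rw [hL.right_eq_zero_of_smul hl, map_zero]

variable (A) in
/-- Weak regularity passes to the kernel. -/
theorem weaklyRegular_kernel : ∀ (xs : List A) {L M Q : Type v} [AddCommGroup L] [Module A L]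
    [AddCommGroup M] [Module A M] [AddCommGroup Q] [Module A Q] (f : L →ₗ[A] M) (g : M →ₗ[A] Q),
    Function.Injective f → Function.Exact f g → Function.Surjective g →
    IsWeaklyRegular M xs → IsWeaklyRegular Q xs → IsWeaklyRegular L xs := by
  intro xs
  induction xs with
  | nil => intros; exact IsWeaklyRegular.nil _ _
  | cons x xs ih =>
    intro L M Q _ _ _ _ _ _ f g hf hfg hg hM hQ
    rw [isWeaklyRegular_cons_iff] at hM hQ ⊢
    exact ⟨hM.1.of_injective f hf, ih (QuotSMulTop.map x f) (QuotSMulTop.map x g)
      (map_injective_of_isSMulRegular hf hfg hQ.1) (QuotSMulTop.map_exact x hfg hg)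
      (QuotSMulTop.map_surjective x hg) hM.2 hQ.2⟩

variable (A) in
/-- Weak regularity is closed under extensions. -/
theorem weaklyRegular_middle : ∀ (xs : List A) {L M Q : Type v} [AddCommGroup L] [Module A L]
    [AddCommGroup M] [Module A M] [AddCommGroup Q] [Module A Q] (f : L →ₗ[A] M) (g : M →ₗ[A] Q),
    Function.Injective f → Function.Exact f g → Function.Surjective g →
    IsWeaklyRegular L xs → IsWeaklyRegular Q xs → IsWeaklyRegular M xs := by
  intro xs
  induction xs with
  | nil => intros; exact IsWeaklyRegular.nil _ _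
  | cons x xs ih =>
    intro L M Q _ _ _ _ _ _ f g hf hfg hg hL hQ
    rw [isWeaklyRegular_cons_iff] at hL hQ ⊢
    exact ⟨regular_middle hfg hf hL.1 hQ.1, ih (QuotSMulTop.map x f) (QuotSMulTop.map x g)
      (map_injective_of_isSMulRegular hf hfg hQ.1) (QuotSMulTop.map_exact x hfg hg)
      (QuotSMulTop.map_surjective x hg) hL.2 hQ.2⟩

/-- If `x :: xs` is regular on the middle term, `x` kills the last and `xs` is regular on it, then
`x :: xs` is regular on the first term. -/
theorem weaklyRegular_first (hf : Function.Injective f) (hfg : Function.Exact f g)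
    (hg : Function.Surjective g) {x : A} {xs : List A} (hx : ∀ q : Q, x • q = 0)
    (hM : IsWeaklyRegular M (x :: xs)) (hQ : IsWeaklyRegular Q xs) :
    IsWeaklyRegular L (x :: xs) := by
  rw [isWeaklyRegular_cons_iff] at hM ⊢
  refine ⟨hM.1.of_injective f hf, ?_⟩
  let F := QuotSMulTop.map x f
  let G := QuotSMulTop.map x g
  have hQ' : IsWeaklyRegular (QuotSMulTop x Q) xs := by
    refine (LinearEquiv.isWeaklyRegular_congr ?_ xs).1 hQ
    refine LinearEquiv.ofBijective (Submodule.mkQ _) ⟨?_, Submodule.mkQ_surjective _⟩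
    rw [injective_iff_map_eq_zero]
    intro q hq
    obtain ⟨z, hz⟩ := mk_eq_zero_iff.1 hq
    rw [← hz, hx]
  have hK : IsWeaklyRegular (LinearMap.ker G) xs :=
    weaklyRegular_kernel A xs (LinearMap.ker G).subtype G (Submodule.subtype_injective _)
      (LinearMap.exact_subtype_ker_map G) (QuotSMulTop.map_surjective x hg) hM.2 hQ'
  have hFG : ∀ l, F l ∈ LinearMap.ker G := fun l =>
    (QuotSMulTop.map_exact x hfg hg).apply_apply_eq_zero l
  let F' : QuotSMulTop x L →ₗ[A] LinearMap.ker G := F.codRestrict _ hFG
  have hF' : Function.Surjective F' := by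
    rintro ⟨m, hm⟩
    obtain ⟨l, hl⟩ := (QuotSMulTop.map_exact x hfg hg m).1 hm
    exact ⟨l, Subtype.ext hl⟩
  have hker : IsWeaklyRegular (LinearMap.ker F') xs := by
    have hpre : ∀ q : Q, ∃ l : L, ∃ m : M, g m = q ∧ f l = x • m := fun q => by
      obtain ⟨m, rfl⟩ := hg q
      obtain ⟨l, hl⟩ := (hfg (x • m)).1 (by rw [map_smul, hx])
      exact ⟨l, m, rfl, hl⟩
    choose pl pm hpm hpl using hpre
    have hwd : ∀ (l : L) (m : M), f l = x • m →
        (Submodule.Quotient.mk l : QuotSMulTop x L) = Submodule.Quotient.mk (pl (g m)) := by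
      intro l m h
      obtain ⟨l₀, hl₀⟩ := (hfg (m - pm (g m))).1 (by rw [map_sub, hpm, sub_self])
      rw [Submodule.Quotient.eq, mem_smul_top_iff]
      exact ⟨l₀, hf (by rw [map_smul, map_sub, hl₀, h, hpl, smul_sub])⟩
    let j : Q →ₗ[A] QuotSMulTop x L :=
      { toFun := fun q => Submodule.Quotient.mk (pl q)
        map_add' := fun a b => by
          have := hwd (pl a + pl b) (pm a + pm b) (by rw [map_add, hpl, hpl, smul_add])
          rw [map_add, hpm, hpm, Submodule.Quotient.mk_add] at this
          exact this.symm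
        map_smul' := fun c a => by
          have := hwd (c • pl a) (c • pm a) (by rw [map_smul, hpl, smul_comm])
          rw [map_smul, hpm, Submodule.Quotient.mk_smul] at this
          exact this.symm }
    have hj : ∀ q, j q ∈ LinearMap.ker F' := fun q => by
      refine LinearMap.mem_ker.2 (Subtype.ext ?_)
      show F (Submodule.Quotient.mk (pl q)) = 0
      rw [show F (Submodule.Quotient.mk (pl q)) = Submodule.Quotient.mk (f (pl q)) from rfl,
        mk_eq_zero_iff]
      exact ⟨pm q, (hpl q).symm⟩
    refine (LinearEquiv.isWeaklyRegular_congr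
      (LinearEquiv.ofBijective (j.codRestrict _ hj) ⟨?_, ?_⟩) xs).1 hQ
    · rw [injective_iff_map_eq_zero]
      intro q hq
      have h0 : (Submodule.Quotient.mk (pl q) : QuotSMulTop x L) = 0 := congrArg Subtype.val hq
      obtain ⟨l', hl'⟩ := mk_eq_zero_iff.1 h0
      have : f l' = pm q := hM.1 (by simp only [← map_smul, hl', hpl])
      rw [← hpm q, ← this, hfg.apply_apply_eq_zero]
    · rintro ⟨l, hl⟩
      obtain ⟨l, rfl⟩ := Submodule.Quotient.mk_surjective _ l
      have hl' : F (Submodule.Quotient.mk l) = 0 := congrArg Subtype.val (LinearMap.mem_ker.1 hl)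
      rw [show F (Submodule.Quotient.mk l) = Submodule.Quotient.mk (f l) from rfl, mk_eq_zero_iff] at hl'
      obtain ⟨m, hm⟩ := hl'
      exact ⟨g m, Subtype.ext (hwd l m hm.symm).symm⟩
  exact weaklyRegular_middle A xs (LinearMap.ker F').subtype F' (Submodule.subtype_injective _)
    (LinearMap.exact_subtype_ker_map F') hF' hker hK

variable {K : Type w} [CommRing K] [Algebra K A]

/-- Elements independent modulo a weakly regular sequence are independent over the polynomial ring
in the sequence. -/
theorem eq_zero_of_sum_aeval_smul : ∀ (k : ℕ) {M : Type v} [AddCommGroup M] [Module A M]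
    (θ : Fin k → A) {ι : Type*} (s : Finset ι) (b : ι → M),
    IsWeaklyRegular M (List.ofFn θ) →
    (∀ c : ι → K, ∑ i ∈ s, algebraMap K A (c i) • b i ∈
      Ideal.ofList (List.ofFn θ) • (⊤ : Submodule A M) → ∀ i ∈ s, c i = 0) →
    ∀ p : ι → MvPolynomial (Fin k) K, ∑ i ∈ s, MvPolynomial.aeval θ (p i) • b i = 0 →
      ∀ i ∈ s, p i = 0 := by
  intro k
  induction k with
  | zero =>
    intro M _ _ θ ι s b _ hind p hp i hi
    have h := hind (fun i => MvPolynomial.isEmptyAlgEquiv K (Fin 0) (p i)) ?_ i hi
    · exact (MvPolynomial.isEmptyAlgEquiv K (Fin 0)).injective (by rw [h, map_zero])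
    · have e : ∀ i, algebraMap K A (MvPolynomial.isEmptyAlgEquiv K (Fin 0) (p i)) =
          MvPolynomial.aeval θ (p i) := fun i => by
        have h : (Algebra.ofId K A).comp (MvPolynomial.isEmptyAlgEquiv K (Fin 0)).toAlgHom =
            MvPolynomial.aeval θ := MvPolynomial.algHom_ext fun j => j.elim0
        exact AlgHom.congr_fun h (p i)
      simp only [e, hp]
      exact zero_mem _
  | succ k ih =>
    intro M _ _ θ ι s b hreg hind p hp
    set x := θ 0
    set θ' : Fin k → A := fun i => θ i.succ
    have hlist : List.ofFn θ = x :: List.ofFn θ' := List.ofFn_succ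
    rw [hlist, isWeaklyRegular_cons_iff] at hreg
    set ev : Polynomial (MvPolynomial (Fin k) K) →+* A :=
      Polynomial.eval₂RingHom (MvPolynomial.aeval θ').toRingHom x
    have hev : ∀ q : MvPolynomial (Fin (k + 1)) K,
        MvPolynomial.aeval θ q = ev (MvPolynomial.finSuccEquiv K k q) := by
      intro q
      have e : (MvPolynomial.aeval θ).toRingHom =
          ev.comp (MvPolynomial.finSuccEquiv K k).toAlgHom.toRingHom := by
        refine MvPolynomial.ringHom_ext (fun c => ?_) (fun i => ?_)
        · simp [ev, MvPolynomial.finSuccEquiv_apply]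
        · refine Fin.cases ?_ (fun j => ?_) i
          · simp [ev, MvPolynomial.finSuccEquiv_X_zero, x]
          · simp [ev, MvPolynomial.finSuccEquiv_X_succ, θ']
      exact congrFun (congrArg DFunLike.coe e) q
    suffices H : ∀ (N : ℕ) (P : ι → Polynomial (MvPolynomial (Fin k) K)),
        (∀ i ∈ s, (P i).natDegree < N ∨ P i = 0) → ∑ i ∈ s, ev (P i) • b i = 0 →
        ∀ i ∈ s, P i = 0 by
      intro i hi
      refine (MvPolynomial.finSuccEquiv K k).injective (Eq.trans ?_ (map_zero _).symm)
      refine H (s.sup (fun i => (MvPolynomial.finSuccEquiv K k (p i)).natDegree) + 1)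
        (fun i => MvPolynomial.finSuccEquiv K k (p i)) (fun j hj => Or.inl ?_) ?_ i hi
      · exact Nat.lt_succ_of_le (Finset.le_sup (f := fun i => (MvPolynomial.finSuccEquiv K k (p i)).natDegree) hj)
      · simpa only [← hev] using hp
    intro N
    induction N with
    | zero => intro P hP _ i hi; exact (hP i hi).resolve_left (Nat.not_lt_zero _)
    | succ N ihN =>
      intro P hP h
      have hsplit : ∀ i, ev (P i) = x * ev (P i).divX + MvPolynomial.aeval θ' ((P i).coeff 0) := by
        intro i
        conv_lhs => rw [← Polynomial.X_mul_divX_add (P i)]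
        rw [map_add, map_mul]
        simp [ev]
      have h0 : ∀ i ∈ s, (P i).coeff 0 = 0 := by
        refine ih θ' s (fun i => (Submodule.Quotient.mk (b i) : QuotSMulTop x M)) hreg.2 ?_ _ ?_
        · intro c hc
          refine hind c ?_
          rw [hlist, Ideal.ofList_cons_smul]
          simp only [← Submodule.mkQ_apply, ← map_smul, ← map_sum] at hc
          have hmap : Ideal.ofList (List.ofFn θ') • (⊤ : Submodule A (QuotSMulTop x M)) =
              (Ideal.ofList (List.ofFn θ') • (⊤ : Submodule A M)).map (Submodule.mkQ _) := by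
            rw [Submodule.map_smul'', Submodule.map_top, Submodule.range_mkQ]
          rw [hmap] at hc
          obtain ⟨y, hy, hy'⟩ := hc
          rw [Submodule.mkQ_apply, Submodule.mkQ_apply, Submodule.Quotient.eq] at hy'
          have := Submodule.add_mem_sup ((Submodule.neg_mem_iff _).2 hy') hy
          simpa using this
        · simp only [← Submodule.mkQ_apply, ← map_smul, ← map_sum]
          rw [Submodule.mkQ_apply, mk_eq_zero_iff]
          refine ⟨-∑ i ∈ s, ev (P i).divX • b i, ?_⟩
          rw [smul_neg, neg_eq_iff_add_eq_zero, Finset.smul_sum, ← Finset.sum_add_distrib]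
          refine Eq.trans (Finset.sum_congr rfl fun i _ => ?_) h
          rw [hsplit, add_smul, mul_smul]
      have hdiv : ∑ i ∈ s, ev (P i).divX • b i = 0 := by
        refine hreg.1.right_eq_zero_of_smul (r := x) ?_
        rw [Finset.smul_sum]
        refine Eq.trans (Finset.sum_congr rfl fun i hi => ?_) h
        rw [hsplit, h0 i hi, map_zero, add_zero, mul_smul]
      have hdeg : ∀ i ∈ s, ((P i).divX).natDegree < N ∨ (P i).divX = 0 := by
        intro i hi
        rcases hP i hi with hlt | h'
        · rw [or_iff_not_imp_right]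
          intro hne
          have hpos : 0 < (P i).natDegree := by
            by_contra hc
            exact hne (Polynomial.divX_eq_zero_iff.2 (Polynomial.eq_C_of_natDegree_eq_zero (by omega)))
          rw [Polynomial.natDegree_divX_eq_natDegree_tsub_one]
          omega
        · exact Or.inr (by simp [h'])
      intro i hi
      rw [← Polynomial.X_mul_divX_add (P i), ihN _ hdeg hdiv i hi, h0 i hi]
      simp

/-- The shifted variables form a weakly regular sequence on a polynomial ring. -/
theorem isWeaklyRegular_X_sub_C {F : Type u} [CommRing F] [IsDomain F] (k : ℕ) (c : Fin k → F) :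
    IsWeaklyRegular (MvPolynomial (Fin k) F)
      (List.ofFn fun i => MvPolynomial.X i - MvPolynomial.C (c i)) := by
  classical
  rw [isWeaklyRegular_iff_Fin]
  intro i
  have hi : i.val < k := lt_of_lt_of_eq i.isLt (List.length_ofFn)
  set φ : MvPolynomial (Fin k) F →ₐ[F] MvPolynomial (Fin k) F :=
    MvPolynomial.aeval fun j => if j.val < i.val then MvPolynomial.C (c j) else MvPolynomial.X j
  set I : Ideal (MvPolynomial (Fin k) F) :=
    Ideal.ofList ((List.ofFn fun j => MvPolynomial.X j - MvPolynomial.C (c j)).take i.val)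
  have hmem : ∀ j : Fin k, j.val < i.val → MvPolynomial.X j - MvPolynomial.C (c j) ∈ I := by
    intro j hj
    refine Ideal.subset_span ?_
    simp only [Set.mem_setOf_eq]
    rw [List.mem_take_iff_getElem]
    exact ⟨j.val, by simp [hj], by simp⟩
  have hker : ∀ p ∈ I, φ p = 0 := by
    intro p hp
    suffices I ≤ RingHom.ker φ.toRingHom from this hp
    rw [Ideal.span_le]
    intro r hr
    simp only [Set.mem_setOf_eq] at hr
    rw [List.mem_take_iff_getElem] at hr
    obtain ⟨j, hj, rfl⟩ := hr
    simp only [List.length_ofFn, lt_min_iff] at hj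
    simp [φ, hj.1]
  have hmod : ∀ p, p - φ p ∈ I := by
    intro p
    induction p using MvPolynomial.induction_on with
    | C a => simp [φ]
    | add p q hp hq =>
      rw [map_add, add_sub_add_comm]; exact add_mem hp hq
    | mul_X p j hp =>
      rw [map_mul]
      have hX : MvPolynomial.X j - φ (MvPolynomial.X j) ∈ I := by
        simp only [φ, MvPolynomial.aeval_X]
        split_ifs with h
        · exact hmem j h
        · simp
      have := add_mem (I.mul_mem_right (MvPolynomial.X j) hp) (I.mul_mem_left (φ p) hX)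
      convert this using 1
      ring
  rw [isSMulRegular_iff_right_eq_zero_of_smul]
  intro q hq
  obtain ⟨q, rfl⟩ := Submodule.Quotient.mk_surjective _ q
  have hI : (I • ⊤ : Submodule (MvPolynomial (Fin k) F) (MvPolynomial (Fin k) F)) = I := by
    rw [smul_eq_mul, Ideal.mul_top]
  rw [← Submodule.Quotient.mk_smul, Submodule.Quotient.mk_eq_zero, hI] at hq
  rw [Submodule.Quotient.mk_eq_zero, hI]
  have h0 := hker _ hq
  simp only [smul_eq_mul, Fin.getElem_fin, List.getElem_ofFn, map_mul, map_sub, φ,
    MvPolynomial.aeval_X, MvPolynomial.aeval_C, lt_irrefl, if_false] at h0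
  have hne : (MvPolynomial.X ⟨i.val, hi⟩ : MvPolynomial (Fin k) F) -
      algebraMap F _ (c ⟨i.val, hi⟩) ≠ 0 := by
    intro he
    have := congrArg MvPolynomial.totalDegree (sub_eq_zero.1 he)
    simp [MvPolynomial.algebraMap_eq] at this
  have := hmod q
  rw [(mul_eq_zero.1 h0).resolve_left hne, sub_zero] at this
  exact this

end Groth.Agent.Lib.Grass.RegSeq
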