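import Groth.Agent.Lib.Grass.RegSeq
import Mathlib.RingTheory.Ideal.Quotient.Operations
import Mathlib.RingTheory.Nakayama

/-!
# Regular sequences on the quotient by an intersection of two ideals
-/

namespace Groth.Agent.Lib.Grass.RegInf

open RingTheory.Sequence Groth.Agent.Lib.Grass.RegSeq

universe u v

variable {A : Type u} [CommRing A]

/-- Weak regularity on the kernel of one more element than on the cokernel. -/
theorem weaklyRegular_kernel_snoc (x : A) : ∀ (xs : List A) {L M Q : Type v} [AddCommGroup L] [Module A L]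
    [AddCommGroup M] [Module A M] [AddCommGroup Q] [Module A Q] (f : L →ₗ[A] M) (g : M →ₗ[A] Q),
    Function.Injective f → Function.Exact f g → Function.Surjective g →
    IsWeaklyRegular M (xs ++ [x]) → IsWeaklyRegular Q xs → IsWeaklyRegular L (xs ++ [x]) := by
  intro xs
  induction xs with
  | nil =>
    intro L M Q _ _ _ _ _ _ f g hf _ _ hM _
    rw [List.nil_append, isWeaklyRegular_singleton_iff] at hM ⊢
    exact hM.of_injective f hf
  | cons y xs ih =>
    intro L M Q _ _ _ _ _ _ f g hf hfg hg hM hQ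
    rw [List.cons_append, isWeaklyRegular_cons_iff] at hM ⊢
    rw [isWeaklyRegular_cons_iff] at hQ
    exact ⟨hM.1.of_injective f hf, ih (QuotSMulTop.map y f) (QuotSMulTop.map y g)
      (map_injective_of_isSMulRegular hf hfg hQ.1) (QuotSMulTop.map_exact y hfg hg)
      (QuotSMulTop.map_surjective y hg) hM.2 hQ.2⟩

variable (I J : Ideal A)

/-- The diagonal into the product of the two quotients. -/
def diag : (A ⧸ (I ⊓ J)) →ₗ[A] (A ⧸ I) × (A ⧸ J) :=
  Submodule.liftQ (I ⊓ J) (LinearMap.prod (Submodule.mkQ I) (Submodule.mkQ J)) (by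
    rw [LinearMap.ker_prod, Submodule.ker_mkQ, Submodule.ker_mkQ])

/-- The difference to the quotient by the sum. -/
def diff : (A ⧸ I) × (A ⧸ J) →ₗ[A] A ⧸ (I ⊔ J) :=
  (Submodule.mapQ I (I ⊔ J) LinearMap.id (fun _ h => Submodule.mem_sup_left h)).comp (LinearMap.fst A _ _) -
    (Submodule.mapQ J (I ⊔ J) LinearMap.id (fun _ h => Submodule.mem_sup_right h)).comp (LinearMap.snd A _ _)

lemma diag_injective : Function.Injective (diag I J) := by
  rw [← LinearMap.ker_eq_bot, diag, Submodule.ker_liftQ, LinearMap.ker_prod, Submodule.ker_mkQ,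
    Submodule.ker_mkQ, Submodule.mkQ_map_self]

lemma diff_mk (a b : A) : diff I J (Submodule.Quotient.mk a, Submodule.Quotient.mk b) =
    (Submodule.Quotient.mk a : A ⧸ (I ⊔ J)) - Submodule.Quotient.mk b := rfl

lemma diag_mk (a : A) : diag I J (Submodule.Quotient.mk a) = (Submodule.Quotient.mk a, Submodule.Quotient.mk a) := rfl

lemma diff_surjective : Function.Surjective (diff I J) := fun z => by
  obtain ⟨a, rfl⟩ := Submodule.Quotient.mk_surjective _ z
  exact ⟨(Submodule.Quotient.mk a, Submodule.Quotient.mk 0), by rw [diff_mk, Submodule.Quotient.mk_zero, sub_zero]⟩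

lemma exact_diag_diff : Function.Exact (diag I J) (diff I J) := by
  intro z
  constructor
  · intro hz
    obtain ⟨a, b⟩ := z
    obtain ⟨a, rfl⟩ := Submodule.Quotient.mk_surjective _ a
    obtain ⟨b, rfl⟩ := Submodule.Quotient.mk_surjective _ b
    have : a - b ∈ I ⊔ J := by
      rw [← Submodule.Quotient.mk_eq_zero, Submodule.Quotient.mk_sub]
      rwa [diff_mk] at hz
    obtain ⟨i, hi, j, hj, hij⟩ := Submodule.mem_sup.1 this
    refine ⟨Submodule.Quotient.mk (a - i), ?_⟩
    refine Prod.ext ?_ ?_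
    · show (Submodule.Quotient.mk (a - i) : A ⧸ I) = _
      rw [Submodule.Quotient.eq, sub_sub_cancel_left]
      exact I.neg_mem hi
    · show (Submodule.Quotient.mk (a - i) : A ⧸ J) = _
      rw [Submodule.Quotient.eq]
      have : a - i - b = j := by rw [eq_comm, ← sub_eq_iff_eq_add'.2 hij.symm]; ring
      rw [this]
      exact hj
  · rintro ⟨y, rfl⟩
    obtain ⟨a, rfl⟩ := Submodule.Quotient.mk_surjective _ y
    rw [diag_mk, diff_mk, sub_self]

theorem isRegular_inf [IsLocalRing A] (d : ℕ) (f : Fin d → A) (hd : 0 < d)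
    (hf : ∀ k, f k ∈ IsLocalRing.maximalIdeal A)
    (hI : IsRegular (A ⧸ I) (List.ofFn f)) (hJ : IsRegular (A ⧸ J) (List.ofFn f))
    (hIJ : IsRegular (A ⧸ (I ⊔ J)) ((List.ofFn f).take (d - 1))) :
    IsRegular (A ⧸ (I ⊓ J)) (List.ofFn f) := by
  have hM : IsWeaklyRegular ((A ⧸ I) × (A ⧸ J)) (List.ofFn f) :=
    weaklyRegular_middle A (List.ofFn f) (LinearMap.inl A (A ⧸ I) (A ⧸ J)) (LinearMap.snd A _ _)
      LinearMap.inl_injective (Function.Exact.inl_snd) LinearMap.snd_surjective
      hI.toIsWeaklyRegular hJ.toIsWeaklyRegular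
  have hne : (List.ofFn f) ≠ [] := by
    intro h; have := congrArg List.length h; simp at this; omega
  have hsplit : (List.ofFn f).take (d - 1) ++ [(List.ofFn f).getLast hne] = List.ofFn f := by
    rw [show (List.ofFn f).take (d - 1) = (List.ofFn f).dropLast by rw [List.dropLast_eq_take]; simp]
    exact List.dropLast_append_getLast hne
  have hw : IsWeaklyRegular (A ⧸ (I ⊓ J)) (List.ofFn f) := by
    rw [← hsplit]
    exact weaklyRegular_kernel_snoc _ _ (diag I J) (diff I J) (diag_injective I J) (exact_diag_diff I J)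
      (diff_surjective I J) (hsplit.symm ▸ hM) hIJ.toIsWeaklyRegular
  have hIt : I ≠ ⊤ := by
    intro h
    refine hI.top_ne_smul ?_
    have : Subsingleton (A ⧸ I) := Ideal.Quotient.subsingleton_iff.2 h
    exact Subsingleton.elim _ _
  have : Nontrivial (A ⧸ (I ⊓ J)) := Ideal.Quotient.nontrivial_iff.2 fun h => hIt (top_le_iff.1 (h ▸ inf_le_left))
  refine ⟨hw, fun h => ?_⟩
  refine top_ne_bot (α := Submodule A (A ⧸ (I ⊓ J))) (Submodule.eq_bot_of_le_smul_of_le_jacobson_bot
    (Ideal.ofList (List.ofFn f)) ⊤ Module.Finite.fg_top h.le ?_)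
  rw [IsLocalRing.jacobson_eq_maximalIdeal ⊥ bot_ne_top]
  refine Ideal.span_le.2 fun r hr => ?_
  obtain ⟨k, rfl⟩ := List.mem_ofFn.1 hr
  exact hf k

end Groth.Agent.Lib.Grass.RegInf
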