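import Groth.Agent.Lib.Depth.CM
import Groth.Agent.Lib.Dim.Local
import Groth.Agent.Lib.Excellent.Transport
import Groth.Agent.Lib.Grass.RegInf
import Mathlib.RingTheory.GradedAlgebra.Radical
import Mathlib.RingTheory.Localization.Ideal
import Mathlib.RingTheory.FiniteType

/-!
# Graded algebras at the vertex
-/

set_option linter.unusedSectionVars false

namespace Groth.Agent.Lib.Grass.GradedVertex

open LocCoh

universe u v

section loc

variable {R : Type v} [CommRing R]

lemma quotLocEquiv (J m : Ideal R) [m.IsPrime] (hJ : J ≤ m) [hn : (m.map (Ideal.Quotient.mk J)).IsPrime] :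
    Nonempty ((Localization.AtPrime m ⧸ J.map (algebraMap R (Localization.AtPrime m))) ≃+*
      Localization.AtPrime (m.map (Ideal.Quotient.mk J))) := by
  set n := m.map (Ideal.Quotient.mk J)
  have hcomap : m = n.comap (Ideal.Quotient.mk J) := by
    rw [Ideal.comap_map_of_surjective _ Ideal.Quotient.mk_surjective]
    exact (sup_eq_left.2 ((Ideal.mk_ker (I := J)).le.trans hJ)).symm
  let φ := Localization.localRingHom m n (Ideal.Quotient.mk J) hcomap
  have hmem : ∀ s : m.primeCompl, Ideal.Quotient.mk J s ∈ n.primeCompl := fun s h => s.2 (by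
    have : (s : R) ∈ n.comap (Ideal.Quotient.mk J) := h
    rwa [← hcomap] at this)
  have hφ : ∀ (a : R) (s : m.primeCompl), φ (IsLocalization.mk' _ a s) =
      IsLocalization.mk' _ (Ideal.Quotient.mk J a) (⟨Ideal.Quotient.mk J s, hmem s⟩ : n.primeCompl) :=
    fun a s => Localization.localRingHom_mk' _ _ _ _ a s
  have hsurj : Function.Surjective φ := by
    intro z
    obtain ⟨⟨a, ⟨s, hs⟩⟩, rfl⟩ := IsLocalization.mk'_surjective (S := Localization.AtPrime n) n.primeCompl z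
    obtain ⟨a, rfl⟩ := Ideal.Quotient.mk_surjective a
    obtain ⟨s, rfl⟩ := Ideal.Quotient.mk_surjective s
    exact ⟨IsLocalization.mk' _ a (⟨s, fun h => hs (Ideal.mem_map_of_mem _ h)⟩ : m.primeCompl), hφ a _⟩
  have hker : RingHom.ker φ = J.map (algebraMap R (Localization.AtPrime m)) := by
    refine le_antisymm (fun z hz => ?_) ?_
    · obtain ⟨⟨a, s⟩, rfl⟩ := IsLocalization.mk'_surjective (S := Localization.AtPrime m) m.primeCompl z
      rw [RingHom.mem_ker, hφ, IsLocalization.mk'_eq_zero_iff] at hz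
      obtain ⟨⟨t, ht⟩, hta⟩ := hz
      obtain ⟨t, rfl⟩ := Ideal.Quotient.mk_surjective t
      rw [← map_mul, Ideal.Quotient.eq_zero_iff_mem] at hta
      rw [IsLocalization.mk'_mem_map_algebraMap_iff]
      exact ⟨t, fun h => ht (Ideal.mem_map_of_mem _ h), hta⟩
    · rw [Ideal.map_le_iff_le_comap]
      intro x hx
      show φ (algebraMap R _ x) = 0
      rw [Localization.localRingHom_to_map, Ideal.Quotient.eq_zero_iff_mem.2 hx, map_zero]
  exact ⟨(Ideal.quotEquivOfEq hker.symm).trans (RingHom.quotientKerEquivOfSurjective hsurj)⟩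

end loc

variable (K : Type u) [Field K] {A : Type v} [CommRing A] [Algebra K A]
  (𝒜 : ℕ → Submodule K A) [GradedAlgebra 𝒜] (h0 : ∀ a ∈ 𝒜 0, ∃ c : K, algebraMap K A c = a)

include h0

theorem finiteType [IsNoetherianRing A] : Algebra.FiniteType K A := by
  classical
  set S := {a : A | ∃ k, 0 < k ∧ a ∈ 𝒜 k}
  obtain ⟨s, hsS, hspan⟩ := (Submodule.fg_span_iff_fg_span_finset_subset S).1 (IsNoetherian.noetherian (Ideal.span S))
  refine ⟨⟨s, ?_⟩⟩
  suffices H : ∀ n, ∀ a ∈ 𝒜 n, a ∈ Algebra.adjoin K (s : Set A) by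
    rw [eq_top_iff]
    rintro a -
    rw [← DirectSum.sum_support_decompose 𝒜 a]
    exact sum_mem fun n _ => H n _ (SetLike.coe_mem _)
  intro n
  induction n using Nat.strong_induction_on with
  | _ n ih =>
    intro a ha
    rcases Nat.eq_zero_or_pos n with rfl | hn
    · obtain ⟨c, rfl⟩ := h0 a ha
      exact Subalgebra.algebraMap_mem _ c
    have hspan' : Ideal.span S = Ideal.span (s : Set A) := hspan
    have hmem : a ∈ Ideal.span (s : Set A) := hspan' ▸ Ideal.subset_span ⟨n, hn, ha⟩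
    obtain ⟨f, -, hf⟩ := Submodule.mem_span_finset.1 hmem
    rw [← DirectSum.decompose_of_mem_same 𝒜 ha, ← hf, DirectSum.decompose_sum,
      DFinsupp.finsetSum_apply, AddSubmonoidClass.coe_finsetSum]
    refine sum_mem fun x hx => ?_
    obtain ⟨k, hk, hxk⟩ := hsS hx
    rw [smul_eq_mul]
    by_cases hkn : k ≤ n
    · rw [DirectSum.coe_decompose_mul_of_right_mem_of_le 𝒜 hxk hkn]
      exact mul_mem (ih (n - k) (by omega) _ (SetLike.coe_mem _)) (Algebra.subset_adjoin hx)
    · rw [DirectSum.coe_decompose_mul_of_right_mem_of_not_le 𝒜 hxk hkn]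
      exact zero_mem _

lemma le_irrelevant {Q : Ideal A} (hQ : Q.IsHomogeneous 𝒜) (hne : Q ≠ ⊤) :
    Q ≤ (HomogeneousIdeal.irrelevant 𝒜).toIdeal := by
  intro a ha
  rw [HomogeneousIdeal.mem_iff, HomogeneousIdeal.mem_irrelevant_iff, GradedRing.proj_apply]
  obtain ⟨c, hc⟩ := h0 _ (SetLike.coe_mem (DirectSum.decompose 𝒜 a 0))
  by_contra hne0
  refine hne (Ideal.eq_top_of_isUnit_mem _ (hQ 0 ha) ?_)
  rw [← hc]
  exact (IsUnit.mk0 c fun h => hne0 (by rw [← hc, h, map_zero])).map _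

lemma isMaximal_irrelevant [Nontrivial A] : (HomogeneousIdeal.irrelevant 𝒜).toIdeal.IsMaximal := by
  rw [Ideal.isMaximal_iff]
  refine ⟨fun h => ?_, fun J a hJ ha haJ => ?_⟩
  · rw [HomogeneousIdeal.mem_iff, HomogeneousIdeal.mem_irrelevant_iff, GradedRing.proj_apply,
      DirectSum.decompose_of_mem_same 𝒜 SetLike.GradedOne.one_mem] at h
    exact one_ne_zero h
  · rw [HomogeneousIdeal.mem_iff, HomogeneousIdeal.mem_irrelevant_iff, GradedRing.proj_apply] at ha
    obtain ⟨c, hc⟩ := h0 _ (SetLike.coe_mem (DirectSum.decompose 𝒜 a 0))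
    have hd : a - algebraMap K A c ∈ (HomogeneousIdeal.irrelevant 𝒜).toIdeal := by
      rw [HomogeneousIdeal.mem_iff, HomogeneousIdeal.mem_irrelevant_iff, map_sub, GradedRing.proj_apply,
        GradedRing.proj_apply, hc, DirectSum.decompose_of_mem_same 𝒜 (SetLike.coe_mem (DirectSum.decompose 𝒜 a 0)), sub_self]
    have hu : algebraMap K A c ∈ J := by
      have := J.sub_mem haJ (hJ hd)
      rwa [sub_sub_cancel] at this
    have : IsUnit (algebraMap K A c) := (IsUnit.mk0 c fun h => ha (by rw [← hc, h, map_zero])).map _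
    rw [Ideal.eq_top_of_isUnit_mem _ hu this]
    exact Submodule.mem_top

variable [IsNoetherianRing A]

/-- The dimension of a graded quotient is attained at the vertex. -/
theorem ringKrullDim_vertex {J : Ideal A} (hJ : J.IsHomogeneous 𝒜) (hne : J ≠ ⊤)
    [hn : ((HomogeneousIdeal.irrelevant 𝒜).toIdeal.map (Ideal.Quotient.mk J)).IsPrime] :
    ringKrullDim (Localization.AtPrime ((HomogeneousIdeal.irrelevant 𝒜).toIdeal.map (Ideal.Quotient.mk J))) =
      ringKrullDim (A ⧸ J) := by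
  have hA : Nontrivial A := ⟨⟨1, 0, fun h => hne ((Ideal.eq_top_iff_one J).2 (h ▸ J.zero_mem))⟩⟩
  have := finiteType K 𝒜 h0
  have : Algebra.FiniteType K (A ⧸ J) :=
    Algebra.FiniteType.of_surjective (Ideal.Quotient.mkₐ K J) Ideal.Quotient.mk_surjective
  have : Nontrivial (A ⧸ J) := Ideal.Quotient.nontrivial_iff.2 hne
  set n := (HomogeneousIdeal.irrelevant 𝒜).toIdeal.map (Ideal.Quotient.mk J)
  have hm := isMaximal_irrelevant K 𝒜 h0
  have : n.IsMaximal := (Ideal.map_eq_top_or_isMaximal_of_surjective _ Ideal.Quotient.mk_surjective hm).resolve_left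
    hn.ne_top
  have h1 := Dim.Local.ringKrullDim_localization K n
  rw [Dim.Basic.dimQ_eq_zero_of_isMaximal K n, Nat.cast_zero, add_zero] at h1
  rw [h1]
  refine le_antisymm ?_ ?_
  · rw [← h1, IsLocalization.AtPrime.ringKrullDim_eq_height n]
    exact Ideal.height_le_ringKrullDim_of_ne_top hn.ne_top
  · rw [Dim.Local.ringKrullDim_le_iff K]
    intro q hq
    have hqp : q.IsPrime := hq.1.1
    refine Dim.Local.dimQ_le_dimAt_of_le K ?_
    set Q := q.comap (Ideal.Quotient.mk J)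
    have hQp : Q.IsPrime := Ideal.IsPrime.comap _
    have hJQ : J ≤ Q := fun x hx => by
      show Ideal.Quotient.mk J x ∈ q
      rw [Ideal.Quotient.eq_zero_iff_mem.2 hx]
      exact q.zero_mem
    set C := (Q.homogeneousCore 𝒜).toIdeal
    have hCp : C.IsPrime := hQp.homogeneousCore
    have hJC : J ≤ C := hJ.toIdeal_homogeneousCore_eq_self.symm.trans_le (Ideal.homogeneousCore_mono _ hJQ)
    have hq' : (C.map (Ideal.Quotient.mk J)).IsPrime :=
      Ideal.map_isPrime_of_surjective Ideal.Quotient.mk_surjective (Ideal.mk_ker.le.trans hJC)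
    have hle : C.map (Ideal.Quotient.mk J) ≤ q :=
      Ideal.map_le_iff_le_comap.2 (Ideal.toIdeal_homogeneousCore_le 𝒜 Q)
    rw [← (hle.antisymm (hq.2 ⟨hq', bot_le⟩ hle))]
    exact Ideal.map_mono (le_irrelevant K 𝒜 h0 (Q.homogeneousCore 𝒜).isHomogeneous hCp.ne_top)

omit h0 in
lemma ne_top_of_ringKrullDim {J : Ideal A} {e : ℕ} (h : ringKrullDim (A ⧸ J) = (e : WithBot ℕ∞)) :
    J ≠ ⊤ := by
  intro hJ
  have : Subsingleton (A ⧸ J) := Ideal.Quotient.subsingleton_iff.2 hJ
  rw [ringKrullDim_eq_bot_of_subsingleton] at h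
  exact WithBot.bot_ne_coe h

omit h0 in
lemma ringKrullDim_quotient_inf [Algebra.FiniteType K A] {I J : Ideal A} {e : ℕ}
    (hI : ringKrullDim (A ⧸ I) = (e : WithBot ℕ∞)) (hJ : ringKrullDim (A ⧸ J) = (e : WithBot ℕ∞)) :
    ringKrullDim (A ⧸ (I ⊓ J)) = (e : WithBot ℕ∞) := by
  refine le_antisymm ?_ (hI ▸ ringKrullDim_le_of_surjective (Ideal.Quotient.factor inf_le_left)
    (Ideal.Quotient.factor_surjective inf_le_left))
  have : Algebra.FiniteType K (A ⧸ (I ⊓ J)) :=
    Algebra.FiniteType.of_surjective (Ideal.Quotient.mkₐ K _) Ideal.Quotient.mk_surjective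
  rw [Dim.Local.ringKrullDim_le_iff K]
  intro q hq
  have hqp : q.IsPrime := hq.1.1
  set Q := q.comap (Ideal.Quotient.mk (I ⊓ J))
  have hQp : Q.IsPrime := Ideal.IsPrime.comap _
  have hle : I ⊓ J ≤ Q := fun x hx => by
    show Ideal.Quotient.mk (I ⊓ J) x ∈ q
    rw [Ideal.Quotient.eq_zero_iff_mem.2 hx]
    exact q.zero_mem
  have key : ∀ T : Ideal A, ringKrullDim (A ⧸ T) = (e : WithBot ℕ∞) → T ≤ Q → Dim.Basic.dimQ K q ≤ e := by
    intro T hT hTQ
    let f := Ideal.Quotient.lift T ((Ideal.Quotient.mk q).comp (Ideal.Quotient.mk (I ⊓ J)))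
      fun x hx => Ideal.Quotient.eq_zero_iff_mem.2 (hTQ hx)
    have hf : Function.Surjective f := Ideal.Quotient.lift_surjective_of_surjective T _
      (Ideal.Quotient.mk_surjective.comp Ideal.Quotient.mk_surjective)
    have := hT ▸ ringKrullDim_le_of_surjective f hf
    rw [Dim.Basic.ringKrullDim_quotient_prime K] at this
    exact_mod_cast this
  rcases hQp.inf_le.1 hle with h | h
  · exact key I hI h
  · exact key J hJ h

/-- Cohen–Macaulayness at the vertex of the union of two cones. -/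
theorem isCohenMacaulay_inf {I J : Ideal A} (hI : I.IsHomogeneous 𝒜) (hJ : J.IsHomogeneous 𝒜) {e : ℕ}
    (hIcm : IsCohenMacaulayRing (A ⧸ I)) (hJcm : IsCohenMacaulayRing (A ⧸ J))
    (hIJcm : IsCohenMacaulayRing (A ⧸ (I ⊔ J)))
    (hIdim : ringKrullDim (A ⧸ I) = (e : WithBot ℕ∞)) (hJdim : ringKrullDim (A ⧸ J) = (e : WithBot ℕ∞))
    (hIJdim : ringKrullDim (A ⧸ (I ⊔ J)) = ((e - 1 : ℕ) : WithBot ℕ∞))
    [hm : ((HomogeneousIdeal.irrelevant 𝒜).toIdeal.map (Ideal.Quotient.mk (I ⊓ J))).IsPrime] :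
    IsCohenMacaulayLocalRing (Localization.AtPrime
        ((HomogeneousIdeal.irrelevant 𝒜).toIdeal.map (Ideal.Quotient.mk (I ⊓ J)))) ∧
      ringKrullDim (Localization.AtPrime
        ((HomogeneousIdeal.irrelevant 𝒜).toIdeal.map (Ideal.Quotient.mk (I ⊓ J)))) = (e : WithBot ℕ∞) := by
  classical
  have := finiteType K 𝒜 h0
  have hIt := ne_top_of_ringKrullDim hIdim
  have hJt := ne_top_of_ringKrullDim hJdim
  have hIJt := ne_top_of_ringKrullDim hIJdim
  have hA : Nontrivial A := ⟨⟨1, 0, fun h => hIt ((Ideal.eq_top_iff_one I).2 (h ▸ I.zero_mem))⟩⟩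
  set m := (HomogeneousIdeal.irrelevant 𝒜).toIdeal with hmdef
  have hmax : m.IsMaximal := isMaximal_irrelevant K 𝒜 h0
  have hp : ∀ T : Ideal A, T.IsHomogeneous 𝒜 → T ≠ ⊤ → (m.map (Ideal.Quotient.mk T)).IsPrime := fun T h1 h2 =>
    Ideal.map_isPrime_of_surjective Ideal.Quotient.mk_surjective (Ideal.mk_ker.le.trans (le_irrelevant K 𝒜 h0 h1 h2))
  set S := Localization.AtPrime m
  have : IsNoetherianRing S := IsLocalization.isNoetherianRing m.primeCompl S inferInstance
  have depth_ge : ∀ (T : Ideal A), T.IsHomogeneous 𝒜 → IsCohenMacaulayRing (A ⧸ T) → ∀ k : ℕ,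
      ringKrullDim (A ⧸ T) = (k : WithBot ℕ∞) →
      (k : ℕ∞) ≤ depth S (S ⧸ T.map (algebraMap A S)) := by
    intro T hT hcm k hk
    have hTt := ne_top_of_ringKrullDim hk
    have hpr := hp T hT hTt
    obtain ⟨eq⟩ := quotLocEquiv T m (le_irrelevant K 𝒜 h0 hT hTt)
    have := hcm.isCohenMacaulayLocalRing_localization (m.map (Ideal.Quotient.mk T))
    have : IsCohenMacaulayLocalRing (S ⧸ T.map (algebraMap A S)) :=
      Excellent.Transport.isCohenMacaulayLocalRing_of_ringEquiv eq.symm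
    have hd := Depth.CM.ringKrullDim_eq_depth (R := S ⧸ T.map (algebraMap A S))
    rw [ringKrullDim_eq_of_ringEquiv eq, ringKrullDim_vertex K 𝒜 h0 hT hTt, hk] at hd
    rw [Depth.CM.depth_quotient_eq]
    exact (WithBot.coe_le_coe.1 hd.le)
  set I' := I.map (algebraMap A S)
  set J' := J.map (algebraMap A S)
  have hmap : (I ⊔ J).map (algebraMap A S) = I' ⊔ J' := Ideal.map_sup _ _ _
  have h1 : (e : ℕ∞) ≤ depth S (S ⧸ I') := depth_ge I hI hIcm e hIdim
  have h2 : (e : ℕ∞) ≤ depth S (S ⧸ J') := depth_ge J hJ hJcm e hJdim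
  have h3 : ((e - 1 : ℕ) : ℕ∞) ≤ depth S (S ⧸ (I' ⊔ J')) := hmap ▸ depth_ge _ (hI.sup hJ) hIJcm _ hIJdim
  have hM : (e : ℕ∞) ≤ depth S ((S ⧸ I') × (S ⧸ J')) :=
    Depth.SES.le_idealDepth_middle _ (f := LinearMap.inl S (S ⧸ I') (S ⧸ J'))
      (g := LinearMap.snd S (S ⧸ I') (S ⧸ J')) LinearMap.inl_injective Function.Exact.inl_snd
      LinearMap.snd_surjective h1 h2
  have hL : (e : ℕ∞) ≤ depth S (S ⧸ (I' ⊓ J')) :=
    Depth.SES.le_idealDepth_left _ (RegInf.diag_injective I' J') (RegInf.exact_diag_diff I' J')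
      (RegInf.diff_surjective I' J') hM h3
  have hle : I ⊓ J ≤ m := inf_le_left.trans (le_irrelevant K 𝒜 h0 hI hIt)
  obtain ⟨eq⟩ := quotLocEquiv (I ⊓ J) m hle
  have hdim : ringKrullDim (Localization.AtPrime (m.map (Ideal.Quotient.mk (I ⊓ J)))) = (e : WithBot ℕ∞) :=
    (ringKrullDim_vertex K 𝒜 h0 (hI.inf hJ) (fun h => hIt (top_le_iff.1 (h ▸ inf_le_left)))).trans
      (ringKrullDim_quotient_inf K hIdim hJdim)
  refine ⟨?_, hdim⟩
  have hinf : (I ⊓ J).map (algebraMap A S) = I' ⊓ J' := IsLocalization.map_inf m.primeCompl S I J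
  set eq' := (Ideal.quotEquivOfEq hinf.symm).trans eq
  have : IsLocalRing (S ⧸ (I' ⊓ J')) := eq'.symm.isLocalRing
  have hcm : IsCohenMacaulayLocalRing (S ⧸ (I' ⊓ J')) := by
    rw [Depth.CM.isCohenMacaulayLocalRing_iff, ringKrullDim_eq_of_ringEquiv eq', hdim, ← Depth.CM.depth_quotient_eq]
    exact WithBot.coe_le_coe.2 hL
  exact Excellent.Transport.isCohenMacaulayLocalRing_of_ringEquiv eq'

end Groth.Agent.Lib.Grass.GradedVertex
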