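import Groth.Agent.Lib.Grass.Minors
import Mathlib.Data.Fin.Tuple.Sort
import Mathlib.LinearAlgebra.Span.Basic
import Mathlib.RingTheory.Ideal.Quotient.Operations
import Mathlib.Tactic.LinearCombination

/-!
# Straightening: standard monomials span modulo the shuffle relations
-/

set_option linter.unusedSectionVars false

namespace Groth.Agent.Lib.Grass.Straighten

open W4bk4grassmannian MvPolynomial Finset Minors

universe u

variable {K : Type u} [CommRing K] {d n : ℕ}

/-- The sum of the entries of an index. -/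
def wt (a : Fin d → Fin n) : ℕ := ∑ t, (a t).val

lemma wt_le (a : Fin d → Fin n) : wt a ≤ d * n := by
  refine (Finset.sum_le_card_nsmul _ _ n fun t _ => (a t).isLt.le).trans ?_
  simp

lemma wt_strictMono {i j : Idx d n} (h : i < j) : wt i.1 < wt j.1 := by
  have hle : ∀ t, i.1 t ≤ j.1 t := fun t => h.le t
  obtain ⟨t, ht⟩ : ∃ t, i.1 t < j.1 t := by
    by_contra hc
    simp only [not_exists, not_lt] at hc
    exact h.ne (Subtype.ext (funext fun t => le_antisymm (hle t) (hc t)))
  exact Finset.sum_lt_sum (fun t _ => hle t) ⟨t, mem_univ _, ht⟩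

lemma sortIdx_self (i : Idx d n) (h : (univ.image i.1).card = d) : sortIdx d n i.1 h = i := by
  apply Subtype.ext
  funext t
  exact congrFun (Finset.orderEmbOfFin_unique h (fun x => mem_image_of_mem _ (mem_univ x)) i.2).symm t

lemma coord_of_idx (i : Idx d n) : coord K d n i.1 = X i := by
  have h : (univ.image i.1).card = d := by
    rw [card_image_of_injective _ i.2.injective, card_univ, Fintype.card_fin]
  have h0 : invCount d n i.1 = 0 := by
    rw [invCount, card_eq_zero, filter_eq_empty_iff]
    rintro ⟨a, b⟩ _ ⟨h1, h2⟩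
    exact lt_asymm (i.2 h1) h2
  rw [coord, dif_pos h, h0, pow_zero, one_mul, sortIdx_self]

lemma coord_cases (a : Fin d → Fin n) :
    coord K d n a = 0 ∨ ∃ (I : Idx d n) (c : K), wt I.1 = wt a ∧ coord K d n a = C c * X I := by
  unfold coord
  split_ifs with h
  · obtain ⟨σ, hσ, -⟩ := exists_sort a h
    refine Or.inr ⟨sortIdx d n a h, (-1) ^ invCount d n a, ?_, by simp⟩
    conv_rhs => rw [← hσ]
    exact (Equiv.sum_comp σ fun t => ((sortIdx d n a h).1 t).val).symm
  · exact Or.inl rfl

lemma exists_pivot {i j : Idx d n} (h : ¬ j ≤ i) : ∃ r, IsPivot i j r := by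
  have hne : ∃ t, i.1 t < j.1 t := by
    by_contra hc
    simp only [not_exists, not_lt] at hc
    exact h hc
  let s := univ.filter fun t => i.1 t < j.1 t
  have hs : s.Nonempty := ⟨hne.choose, by simp [s, hne.choose_spec]⟩
  refine ⟨s.min' hs, fun t ht => ?_, by simpa [s] using s.min'_mem hs⟩
  by_contra hc
  exact not_le.2 ht (s.min'_le t (by simp [s, not_le.1 hc]))

variable {i j : Idx d n} {r : Fin d}

lemma movingRows_strictMono (hp : i.1 r < j.1 r) : StrictMono (movingRows i j r) := by
  intro k l hkl
  rw [Fin.lt_def] at hkl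
  unfold movingRows
  split_ifs with hk hl hl
  · exact i.2 hkl
  · refine lt_of_le_of_lt (i.2.monotone (show (⟨k.val, _⟩ : Fin d) ≤ r from hk)) (hp.trans_le ?_)
    exact j.2.monotone (show r.val ≤ l.val - 1 by omega)
  · omega
  · exact j.2 (show k.val - 1 < l.val - 1 by omega)

/-- The positions of the identity shuffle. -/
def frontSet (r : Fin d) : Finset (Fin (d + 1)) := univ.filter fun k => k.val ≤ r.val

lemma frontSet_card (r : Fin d) : (frontSet r).card = r.val + 1 := by
  rw [← Finset.card_range (r.val + 1)]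
  refine Finset.card_nbij (fun k => k.val) (fun k hk => ?_) Fin.val_injective.injOn ?_
  · simp [frontSet] at hk ⊢; omega
  · intro b hb; simp at hb; exact ⟨⟨b, by omega⟩, by simp [frontSet]; omega, rfl⟩

lemma shufflePerm_frontSet (k : Fin (d + 1)) :
    shufflePerm r (frontSet r) (frontSet_card r) k = k := by
  let σ := shuffleEquiv r (frontSet r) (frontSet_card r)
  have hmono : StrictMono σ := by
    intro a b hab
    by_cases hb : b.val ≤ r.val
    · exact shufflePerm_lt hab (by rw [Fin.lt_def] at hab; simp [hb]; omega)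
    · by_cases ha : a.val ≤ r.val
      · have h1 : σ a ∈ frontSet r := (shufflePerm_mem_iff a).2 ha
        have h2 : σ b ∉ frontSet r := fun h => hb ((shufflePerm_mem_iff b).1 h)
        simp [frontSet] at h1 h2
        rw [Fin.lt_def]; omega
      · exact shufflePerm_lt hab (by simp [ha, hb])
  have : (σ : Fin (d + 1) → Fin (d + 1)) = id := hmono.eq_id
  exact congrFun this k

lemma shuffleI_eq (A : Finset (Fin (d + 1))) (hA : A.card = r.val + 1) (t : Fin d) :
    shuffleI i j r A hA t =
      if t.val ≤ r.val then movingRows i j r (shufflePerm r A hA t.castSucc) else i.1 t := by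
  simp only [shuffleI, shufflePerm, Fin.val_castSucc]
  by_cases h : t.val ≤ r.val
  · rw [dif_pos h, if_pos h, dif_pos h]
  · rw [dif_neg h, if_neg h]

lemma shuffleJ_eq (A : Finset (Fin (d + 1))) (hA : A.card = r.val + 1) (t : Fin d) :
    shuffleJ i j r A hA t =
      if t.val < r.val then j.1 t else movingRows i j r (shufflePerm r A hA t.succ) := by
  simp only [shuffleJ, shufflePerm, Fin.val_succ]
  by_cases h : t.val < r.val
  · rw [dif_pos h, if_pos h]
  · rw [dif_neg h, if_neg h, dif_neg (by omega)]
    congr 3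
    omega

lemma shuffleI_front : shuffleI i j r (frontSet r) (frontSet_card r) = i.1 := by
  funext t
  rw [shuffleI_eq, shufflePerm_frontSet]
  split_ifs with h
  · simp [movingRows, h]
  · rfl

lemma shuffleJ_front : shuffleJ i j r (frontSet r) (frontSet_card r) = j.1 := by
  funext t
  rw [shuffleJ_eq, shufflePerm_frontSet]
  split_ifs with h
  · rfl
  · simp [movingRows, show ¬ (t.val + 1 ≤ r.val) by omega]

lemma shuffleTerm_front : shuffleTerm K i j r (frontSet r) = X i * X j := by
  have hs : shuffleSign r (frontSet r) = 0 := by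
    have := invCount_shuffle r (frontSet r) (frontSet_card r)
    have h0 : invCount (d + 1) (d + 1) (shuffleEquiv r (frontSet r) (frontSet_card r)) = 0 := by
      rw [invCount, card_eq_zero, filter_eq_empty_iff]
      rintro ⟨a, b⟩ _ ⟨h1, h2⟩
      simp only [shuffleEquiv_apply, shufflePerm_frontSet] at h2
      exact lt_asymm h1 h2
    unfold shuffleSign; omega
  rw [shuffleTerm, dif_pos (frontSet_card r), hs, pow_zero, one_mul, shuffleI_front, shuffleJ_front,
    coord_of_idx, coord_of_idx]

lemma sum_split (f : Fin (d + 1) → ℕ) (r : Fin d) :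
    ∑ k, f k = (∑ t : Fin d, if t.val ≤ r.val then f t.castSucc else 0) +
      ∑ t : Fin d, if t.val < r.val then 0 else f t.succ := by
  have h1 : ∑ k, f k = (∑ k, if k.val ≤ r.val then f k else 0) +
      ∑ k, if k.val ≤ r.val then 0 else f k := by
    rw [← Finset.sum_add_distrib]
    exact Finset.sum_congr rfl fun k _ => by split_ifs <;> simp
  rw [h1]
  congr 1
  · rw [Fin.sum_univ_castSucc]
    simp [show ¬ d ≤ r.val by omega]
  · rw [Fin.sum_univ_succ]
    simp only [Fin.val_zero, zero_le, if_true, Fin.val_succ, zero_add]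
    exact Finset.sum_congr rfl fun t _ => by
      simp [show (t.val + 1 ≤ r.val) ↔ t.val < r.val by omega]

lemma wt_shuffle_add (A : Finset (Fin (d + 1))) (hA : A.card = r.val + 1) :
    wt (shuffleI i j r A hA) + wt (shuffleJ i j r A hA) = wt i.1 + wt j.1 := by
  have key : ∀ (B : Finset (Fin (d + 1))) (hB : B.card = r.val + 1),
      wt (shuffleI i j r B hB) + wt (shuffleJ i j r B hB) =
        (∑ t : Fin d, if t.val ≤ r.val then 0 else (i.1 t).val) +
          (∑ t : Fin d, if t.val < r.val then (j.1 t).val else 0) +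
          ∑ k, (movingRows i j r k).val := by
    intro B hB
    rw [← Equiv.sum_comp (shuffleEquiv r B hB) (fun k => (movingRows i j r k).val),
      sum_split _ r]
    unfold wt
    simp only [← Finset.sum_add_distrib]
    refine Finset.sum_congr rfl fun t _ => ?_
    rw [shuffleI_eq, shuffleJ_eq, shuffleEquiv_apply, shuffleEquiv_apply]
    split_ifs <;> omega
  rw [key A hA, ← key (frontSet r) (frontSet_card r), shuffleI_front, shuffleJ_front]

lemma wt_shuffleI_gt (hp : i.1 r < j.1 r) (A : Finset (Fin (d + 1))) (hA : A.card = r.val + 1)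
    (hne : A ≠ frontSet r) : wt i.1 < wt (shuffleI i j r A hA) := by
  have hm := movingRows_strictMono hp
  have hle : ∀ t : Fin d, t.val ≤ r.val → t.castSucc ≤ shufflePerm r A hA t.castSucc := by
    intro t ht
    rw [Fin.le_def]
    simp only [shufflePerm, Fin.val_castSucc, dif_pos ht]
    have : ∀ a (ha : a < r.val + 1), a ≤ (A.orderEmbOfFin hA ⟨a, ha⟩).val := by
      intro a
      induction a with
      | zero => simp
      | succ a ih =>
        intro ha
        have := ih (by omega)
        have h2 : A.orderEmbOfFin hA ⟨a, by omega⟩ < A.orderEmbOfFin hA ⟨a + 1, ha⟩ :=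
          (A.orderEmbOfFin hA).strictMono (by simp)
        rw [Fin.lt_def] at h2; omega
    exact this _ _
  have hi : ∀ t : Fin d, t.val ≤ r.val → movingRows i j r t.castSucc = i.1 t := fun t ht => by
    simp [movingRows, ht]
  refine Finset.sum_lt_sum (fun t _ => ?_) ?_
  · rw [shuffleI_eq]
    split_ifs with h
    · conv_lhs => rw [← hi t h]
      exact hm.monotone (hle t h)
    · exact le_rfl
  · by_contra hc
    simp only [not_exists, not_and, not_lt] at hc
    apply hne
    rw [← image_front r A hA]
    ext k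
    simp only [mem_image, mem_filter, mem_univ, true_and]
    have hfix : ∀ k : Fin (d + 1), k.val ≤ r.val → shuffleEquiv r A hA k = k := by
      intro k hk
      obtain ⟨t, rfl⟩ : ∃ t : Fin d, t.castSucc = k := ⟨⟨k.val, by omega⟩, rfl⟩
      have h1 := hc t (mem_univ _)
      rw [shuffleI_eq, if_pos (by simpa using hk)] at h1
      refine le_antisymm ?_ (hle t (by simpa using hk))
      rw [← hi t (by simpa using hk)] at h1
      exact hm.le_iff_le.1 h1
    constructor
    · rintro ⟨a, ha, rfl⟩; rw [hfix a ha]; simp [frontSet, ha]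
    · intro hk; simp only [frontSet, mem_filter, mem_univ, true_and] at hk
      exact ⟨k, hk, hfix k hk⟩

lemma shuffleTerm_cases (hp : i.1 r < j.1 r) (A : Finset (Fin (d + 1))) (hne : A ≠ frontSet r) :
    shuffleTerm K i j r A = 0 ∨ ∃ (I J : Idx d n) (c : K), wt i.1 < wt I.1 ∧
      wt I.1 + wt J.1 = wt i.1 + wt j.1 ∧ shuffleTerm K i j r A = C c * (X I * X J) := by
  unfold shuffleTerm
  split_ifs with hA
  · rcases coord_cases (K := K) (shuffleI i j r A hA) with h1 | ⟨I, a, hI, h1⟩
    · exact Or.inl (by rw [h1]; ring)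
    rcases coord_cases (K := K) (shuffleJ i j r A hA) with h2 | ⟨J, b, hJ, h2⟩
    · exact Or.inl (by rw [h2]; ring)
    refine Or.inr ⟨I, J, (-1) ^ shuffleSign r A * a * b, hI ▸ wt_shuffleI_gt hp A hA hne,
      by rw [hI, hJ, wt_shuffle_add], ?_⟩
    rw [h1, h2]; simp only [map_mul, map_pow, map_neg, map_one]; ring
  · exact Or.inl rfl

lemma chainMon_comp_perm {m : ℕ} (c : Fin m → Idx d n) (σ : Equiv.Perm (Fin m)) :
    chainMon K (c ∘ σ) = chainMon K c := Equiv.prod_comp σ fun k => X (c k)

lemma exists_antitone_perm {m : ℕ} (c : Fin m → Idx d n) (h : ∀ k l, c k ≤ c l ∨ c l ≤ c k) :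
    ∃ σ : Equiv.Perm (Fin m), Antitone (c ∘ σ) := by
  let f : Fin m → ℕ := fun k => d * n - wt (c k).1
  refine ⟨Tuple.sort f, fun a b hab => ?_⟩
  have hf : f (Tuple.sort f a) ≤ f (Tuple.sort f b) := Tuple.monotone_sort f hab
  rcases h (Tuple.sort f b) (Tuple.sort f a) with h' | h'
  · exact h'
  · rcases eq_or_lt_of_le h' with e | e
    · exact e.ge
    · have := wt_strictMono e
      have := wt_le (c (Tuple.sort f b)).1
      change d * n - _ ≤ d * n - _ at hf
      omega

variable (I : Ideal (PlRing K d n)) (P : Idx d n → Prop)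

/-- The span of the standard monomials supported on `P`, in a quotient. -/
noncomputable def stdSpan : Submodule K (PlRing K d n ⧸ I) :=
  Submodule.span K (Set.range fun c : (Σ m : ℕ, {c : Fin m → Idx d n // Antitone c ∧ ∀ k, P (c k)}) =>
    Ideal.Quotient.mk I (chainMon K c.2.1))

variable {I P}

theorem mk_chainMon_mem_stdSpan
    (hrel : ∀ i j r, IsPivot i j r → shuffleRel K i j r ∈ I) (hX : ∀ φ, ¬ P φ → X φ ∈ I)
    {m : ℕ} : ∀ (c : Fin m → Idx d n), Ideal.Quotient.mk I (chainMon K c) ∈ stdSpan I P := by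
  suffices H : ∀ (N : ℕ) (c : Fin m → Idx d n), m * (d * n) ^ 2 - ∑ k, wt (c k).1 ^ 2 = N →
      Ideal.Quotient.mk I (chainMon K c) ∈ stdSpan I P from fun c => H _ c rfl
  intro N
  induction N using Nat.strong_induction_on with
  | _ N IH =>
    intro c hc
    by_cases hP : ∀ k, P (c k)
    swap
    · obtain ⟨k, hk⟩ := not_forall.1 hP
      have : chainMon K c ∈ I := by
        rw [chainMon, ← Finset.mul_prod_erase univ _ (mem_univ k)]
        exact I.mul_mem_right _ (hX _ hk)
      rw [Ideal.Quotient.eq_zero_iff_mem.2 this]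
      exact zero_mem _
    by_cases hcomp : ∀ k l, c k ≤ c l ∨ c l ≤ c k
    · obtain ⟨σ, hσ⟩ := exists_antitone_perm c hcomp
      rw [← chainMon_comp_perm c σ]
      exact Submodule.subset_span ⟨⟨m, c ∘ σ, hσ, fun k => hP _⟩, rfl⟩
    obtain ⟨k, l, hkl, hlk, hw⟩ : ∃ k l, ¬ c k ≤ c l ∧ ¬ c l ≤ c k ∧ wt (c l).1 ≤ wt (c k).1 := by
      simp only [not_forall, not_or] at hcomp
      obtain ⟨k, l, h1, h2⟩ := hcomp
      rcases le_total (wt (c l).1) (wt (c k).1) with h | h
      · exact ⟨k, l, h1, h2, h⟩
      · exact ⟨l, k, h2, h1, h⟩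
    have hne : k ≠ l := fun h => hkl (h ▸ le_rfl)
    obtain ⟨r, hr⟩ := exists_pivot hlk
    set rest : PlRing K d n := ∏ q ∈ (univ.erase k).erase l, X (c q)
    have hl : l ∈ univ.erase k := by simp [hne.symm]
    have hsplit : chainMon K c = X (c k) * X (c l) * rest := by
      rw [chainMon, ← Finset.mul_prod_erase univ _ (mem_univ k), ← Finset.mul_prod_erase _ _ hl,
        mul_assoc]
    have hterms : ∀ A ∈ univ.erase (frontSet r),
        Ideal.Quotient.mk I (shuffleTerm K (c k) (c l) r A * rest) ∈ stdSpan I P := by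
      intro A hA
      rcases shuffleTerm_cases (K := K) hr.2 A (ne_of_mem_erase hA) with
        h | ⟨I', J', a, hI', hsum, h⟩
      · rw [h, zero_mul, map_zero]; exact zero_mem _
      set c' := Function.update (Function.update c k I') l J'
      have ek : c' k = I' := by
        simp [c', Function.update_of_ne hne]
      have el : c' l = J' := by simp [c']
      have eo : ∀ q ∈ (univ.erase k).erase l, c' q = c q := fun q hq => by
        simp only [mem_erase] at hq
        simp [c', Function.update_of_ne hq.1, Function.update_of_ne hq.2.1]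
      have hsplit' : chainMon K c' = X I' * X J' * rest := by
        rw [chainMon, ← Finset.mul_prod_erase univ _ (mem_univ k),
          ← Finset.mul_prod_erase _ _ hl, mul_assoc, ek, el]
        congr 2
        exact Finset.prod_congr rfl fun q hq => by rw [eo q hq]
      have hmem := IH _ (?_ : m * (d * n) ^ 2 - ∑ q, wt (c' q).1 ^ 2 < N) c' rfl
      · rw [h, mul_assoc, ← hsplit', ← smul_eq_C_mul, ← Ideal.Quotient.mkₐ_eq_mk K, map_smul]
        exact Submodule.smul_mem _ _ hmem
      · have s1 : ∀ b : Fin m → Idx d n, ∑ q, wt (b q).1 ^ 2 =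
            wt (b k).1 ^ 2 + (wt (b l).1 ^ 2 + ∑ q ∈ (univ.erase k).erase l, wt (b q).1 ^ 2) :=
          fun b => by
            rw [← Finset.add_sum_erase univ _ (mem_univ k), ← Finset.add_sum_erase _ _ hl]
        have hbound : ∑ q, wt (c' q).1 ^ 2 ≤ m * (d * n) ^ 2 := by
          refine (Finset.sum_le_card_nsmul _ _ ((d * n) ^ 2)
            fun q _ => Nat.pow_le_pow_left (wt_le _) 2).trans (by simp)
        have hlt : ∑ q, wt (c q).1 ^ 2 < ∑ q, wt (c' q).1 ^ 2 := by
          rw [s1 c, s1 c', ek, el, Finset.sum_congr rfl (fun q hq => by rw [eo q hq] :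
            ∀ q ∈ (univ.erase k).erase l, wt (c' q).1 ^ 2 = wt (c q).1 ^ 2)]
          nlinarith
        omega
    have hrelk : Ideal.Quotient.mk I (shuffleRel K (c k) (c l) r * rest) = 0 :=
      Ideal.Quotient.eq_zero_iff_mem.2 (I.mul_mem_right _ (hrel _ _ _ hr))
    rw [shuffleRel, ← Finset.add_sum_erase univ _ (mem_univ (frontSet r)), shuffleTerm_front,
      add_mul, ← hsplit, map_add, Finset.sum_mul, map_sum] at hrelk
    rw [eq_neg_of_add_eq_zero_left hrelk]
    exact neg_mem (sum_mem hterms)

theorem stdSpan_eq_top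
    (hrel : ∀ i j r, IsPivot i j r → shuffleRel K i j r ∈ I) (hX : ∀ φ, ¬ P φ → X φ ∈ I) :
    stdSpan I P = ⊤ := by
  rw [eq_top_iff]
  rintro x -
  obtain ⟨p, rfl⟩ := Ideal.Quotient.mk_surjective x
  suffices H : p ∈ Submodule.span K
      (Set.range fun c : (Σ m : ℕ, Fin m → Idx d n) => chainMon K c.2) by
    induction H using Submodule.span_induction with
    | mem y hy => obtain ⟨c, rfl⟩ := hy; exact mk_chainMon_mem_stdSpan hrel hX c.2
    | zero => simp
    | add y z _ _ hy hz => rw [map_add]; exact add_mem hy hz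
    | smul a y _ hy =>
      rw [← Ideal.Quotient.mkₐ_eq_mk K, map_smul]; exact Submodule.smul_mem _ _ hy
  induction p using MvPolynomial.induction_on with
  | C a =>
    rw [← mul_one (C a : PlRing K d n), ← smul_eq_C_mul]
    exact Submodule.smul_mem _ _ (Submodule.subset_span ⟨⟨0, Fin.elim0⟩, by simp [chainMon]⟩)
  | add p q hp hq => exact add_mem hp hq
  | mul_X p θ hp =>
    induction hp using Submodule.span_induction with
    | mem y hy =>
      obtain ⟨⟨m, c⟩, rfl⟩ := hy
      refine Submodule.subset_span ⟨⟨m + 1, Fin.cons θ c⟩, ?_⟩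
      simp [chainMon, Fin.prod_univ_succ, mul_comm]
    | zero => simp
    | add y z _ _ hy hz => rw [add_mul]; exact add_mem hy hz
    | smul a y _ hy => rw [smul_mul_assoc]; exact Submodule.smul_mem _ _ hy

end Groth.Agent.Lib.Grass.Straighten
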