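import Groth.Agent.Lib.Grass.Cell
import Groth.Agent.Lib.Grass.Straighten
import Mathlib.LinearAlgebra.LinearIndependent.Defs
import Mathlib.LinearAlgebra.Finsupp.LinearCombination

/-!
# The standard monomial basis
-/

set_option linter.unusedSectionVars false

namespace Groth.Agent.Lib.Grass.Basis

open W4bk4grassmannian MvPolynomial Finset Minors Cell Straighten

universe u v

variable {d n : ℕ}

/-- The exponent of a product of minors. -/
noncomputable def chainExp {m : ℕ} (c : Fin m → Idx d n) : Var d n →₀ ℕ := ∑ k, diagExp (c k).1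

lemma chainExp_apply {m : ℕ} (c : Fin m → Idx d n) (t : Fin d) (i : Fin n) :
    chainExp c (toLex (t, i)) = (univ.filter fun k => (c k).1 t = i).card := by
  rw [chainExp, Finsupp.finsetSum_apply, Finset.card_filter]
  exact Finset.sum_congr rfl fun k _ => diagExp_apply _ _ _

lemma count_ge {m : ℕ} (c : Fin m → Idx d n) (t : Fin d) (i : Fin n) :
    ∑ i' ∈ Finset.Ici i, chainExp c (toLex (t, i')) = (univ.filter fun k => i ≤ (c k).1 t).card := by
  simp only [chainExp_apply, Finset.card_filter]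
  rw [Finset.sum_comm]
  exact Finset.sum_congr rfl fun k _ => by simp [Finset.sum_ite_eq]

lemma length_eq {m : ℕ} (c : Fin m → Idx d n) (t : Fin d) :
    ∑ i, chainExp c (toLex (t, i)) = m := by
  simp only [chainExp_apply]
  rw [← Finset.card_eq_sum_card_fiberwise (fun k _ => mem_univ _), card_univ, Fintype.card_fin]

lemma antitone_eq_of_count {m : ℕ} {f g : Fin m → Fin n} (hf : Antitone f) (hg : Antitone g)
    (h : ∀ i, (univ.filter fun k => i ≤ f k).card = (univ.filter fun k => i ≤ g k).card) :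
    f = g := by
  have key : ∀ {f g : Fin m → Fin n}, Antitone f → Antitone g →
      (∀ i, (univ.filter fun k => i ≤ f k).card = (univ.filter fun k => i ≤ g k).card) →
      ∀ k, g k ≤ f k := by
    intro f g hf hg h k
    by_contra hc
    have h1 : (univ.filter fun l => g k ≤ f l) ⊆ Finset.Iio k := by
      intro l hl
      simp only [mem_filter, mem_univ, true_and] at hl
      rw [Finset.mem_Iio]
      exact lt_of_not_ge fun hkl => hc (hl.trans (hf hkl))
    have h2 : Finset.Iic k ⊆ univ.filter fun l => g k ≤ g l := by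
      intro l hl
      simpa using hg (Finset.mem_Iic.1 hl)
    have h3 := Finset.card_le_card h1
    have h4 := Finset.card_le_card h2
    rw [h] at h3
    simp at h3 h4
    omega
  funext k
  exact le_antisymm (key hg hf (fun i => (h i).symm) k) (key hf hg h k)

lemma chainExp_injective (hd : 0 < d) {m m' : ℕ} {c : Fin m → Idx d n} {c' : Fin m' → Idx d n}
    (hc : Antitone c) (hc' : Antitone c') (h : chainExp c = chainExp c') :
    (⟨m, c⟩ : Σ m, Fin m → Idx d n) = ⟨m', c'⟩ := by
  obtain rfl : m = m' := by rw [← length_eq c ⟨0, hd⟩, ← length_eq c' ⟨0, hd⟩, h]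
  congr 1
  funext k
  refine Subtype.ext (funext fun t => ?_)
  exact congrFun (antitone_eq_of_count (f := fun k => (c k).1 t) (g := fun k => (c' k).1 t)
    (fun a b hab => hc hab t) (fun a b hab => hc' hab t)
    (fun i => by rw [← count_ge, ← count_ge, h])) k

variable {K : Type u} [CommRing K]

lemma cellMap_chainMon {m : ℕ} (τ : Idx d n) (c : Fin m → Idx d n) :
    cellMap K τ (chainMon K c) = ∏ k, mdet (cellMat K τ) (c k).1 := by
  simp [chainMon, cellMap]

lemma cellMap_chainMon_eq_zero {m : ℕ} {τ : Idx d n} {c : Fin m → Idx d n}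
    (h : ¬ ∀ k, c k ≤ τ) : cellMap K τ (chainMon K c) = 0 := by
  obtain ⟨k, hk⟩ := not_forall.1 h
  rw [cellMap_chainMon]
  exact Finset.prod_eq_zero (mem_univ k) (mdet_cellMat_eq_zero τ _ hk)

variable [IsDomain K]

lemma mdet_cellMat_ne_zero {τ φ : Idx d n} (h : φ ≤ τ) : mdet (cellMat K τ) φ.1 ≠ 0 := fun h0 => by
  have := coeff_diag_cellMat (K := K) τ φ h
  simp [h0] at this

lemma cellMap_chainMon_ne_zero {m : ℕ} {τ : Idx d n} {c : Fin m → Idx d n} (h : ∀ k, c k ≤ τ) :
    cellMap K τ (chainMon K c) ≠ 0 := by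
  rw [cellMap_chainMon, Finset.prod_ne_zero_iff]
  exact fun k _ => mdet_cellMat_ne_zero (h k)

lemma degree_chainMon {m : ℕ} {τ : Idx d n} {c : Fin m → Idx d n} (h : ∀ k, c k ≤ τ) :
    ord.degree (cellMap K τ (chainMon K c)) = chainExp c := by
  rw [cellMap_chainMon, MonomialOrder.degree_prod fun k _ => mdet_cellMat_ne_zero (h k)]
  exact Finset.sum_congr rfl fun k _ => degree_mdet_cellMat τ _ (h k)

lemma leadingCoeff_chainMon {m : ℕ} {τ : Idx d n} {c : Fin m → Idx d n} (h : ∀ k, c k ≤ τ) :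
    ord.leadingCoeff (cellMap K τ (chainMon K c)) = 1 := by
  rw [cellMap_chainMon, MonomialOrder.leadingCoeff_prod_of_regular fun k _ => by
    rw [leadingCoeff_mdet_cellMat τ _ (h k)]; exact isRegular_one]
  exact Finset.prod_eq_one fun k _ => leadingCoeff_mdet_cellMat τ _ (h k)

/-- Polynomials with distinct leading exponents are linearly independent. -/
lemma eq_zero_of_degree_injOn {σ : Type*} (o : MonomialOrder σ) {ι : Type*} {s : Finset ι}
    {f : ι → MvPolynomial σ K} {g : ι → K} (hne : ∀ i ∈ s, f i ≠ 0)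
    (hinj : Set.InjOn (fun i => o.degree (f i)) s) (hsum : ∑ i ∈ s, g i • f i = 0) :
    ∀ i ∈ s, g i = 0 := by
  classical
  by_contra hc
  simp only [not_forall] at hc
  obtain ⟨i, hi, hgi⟩ := hc
  obtain ⟨j, hj, hmax⟩ := Finset.exists_max_image (s.filter fun i => g i ≠ 0)
    (fun i => o.toSyn (o.degree (f i))) ⟨i, by simp [hi, hgi]⟩
  simp only [mem_filter] at hj hmax
  have h0 := congrArg (coeff (o.degree (f j))) hsum
  rw [coeff_sum, coeff_zero, Finset.sum_eq_single j] at h0
  · rw [coeff_smul, smul_eq_mul] at h0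
    exact (mul_ne_zero hj.2 (o.coeff_degree_ne_zero_iff.2 (hne j hj.1))) h0
  · intro k hk hkj
    rw [coeff_smul, smul_eq_mul]
    rcases eq_or_ne (g k) 0 with h | h
    · simp [h]
    · rw [o.coeff_eq_zero_of_lt (lt_of_le_of_ne (hmax k ⟨hk, h⟩) fun e =>
        hkj (hinj hk hj.1 (o.toSyn.injective e))), mul_zero]
  · exact fun h => absurd hj.1 h

lemma mk_linearCombination {ι : Type*} (I : Ideal (PlRing K d n)) (p : ι → PlRing K d n)
    (s : Finset ι) (g : ι → K) :
    Ideal.Quotient.mk I (∑ i ∈ s, g i • p i) = ∑ i ∈ s, g i • Ideal.Quotient.mk I (p i) := by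
  rw [← Ideal.Quotient.mkₐ_eq_mk K, map_sum]
  simp only [map_smul]

/-- Standard monomials lying under some `τ i` are independent modulo any ideal vanishing on all
these Schubert varieties. -/
theorem linearIndependent_mk_chainMon (hd : 0 < d) {ι : Type v} (I : Ideal (PlRing K d n))
    (S : Set (Idx d n)) (hI : ∀ τ ∈ S, I ≤ RingHom.ker (cellMap K τ))
    (e : ι → Σ m, Fin m → Idx d n) (he : Function.Injective e) (hanti : ∀ x, Antitone (e x).2)
    (hS : ∀ x, ∃ τ ∈ S, ∀ k, (e x).2 k ≤ τ) :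
    LinearIndependent K fun x => Ideal.Quotient.mk I (chainMon K (e x).2) := by
  classical
  rw [linearIndependent_iff']
  intro s g hg x hx
  obtain ⟨τ, hτ, hle⟩ := hS x
  rw [← mk_linearCombination, Ideal.Quotient.eq_zero_iff_mem] at hg
  have h0 : cellMap K τ (∑ i ∈ s, g i • chainMon K (e i).2) = 0 := hI τ hτ hg
  simp only [map_sum, map_smul] at h0
  rw [← Finset.sum_filter_add_sum_filter_not s (fun i => ∀ k, (e i).2 k ≤ τ),
    Finset.sum_eq_zero (s := s.filter fun i => ¬ _) (fun i hi => by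
      rw [cellMap_chainMon_eq_zero (Finset.mem_filter.1 hi).2, smul_zero]), add_zero] at h0
  refine eq_zero_of_degree_injOn ord (fun i hi => cellMap_chainMon_ne_zero (Finset.mem_filter.1 hi).2)
    ?_ h0 x (Finset.mem_filter.2 ⟨hx, hle⟩)
  intro a ha b hb hab
  simp only [Finset.coe_filter, Set.mem_setOf_eq] at ha hb
  simp only [degree_chainMon ha.2, degree_chainMon hb.2] at hab
  exact he (chainExp_injective hd (hanti a) (hanti b) hab)

lemma shuffleRel_mem_ker (τ i j : Idx d n) (r : Fin d) :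
    shuffleRel K i j r ∈ RingHom.ker (cellMap K τ) := evalAt_shuffleRel i j r _

lemma X_mem_ker {τ φ : Idx d n} (h : ¬ φ ≤ τ) : X φ ∈ RingHom.ker (cellMap K τ) := by
  simpa [cellMap] using mdet_cellMat_eq_zero (K := K) τ φ h

lemma plIdeal_le_ker (τ : Idx d n) : plIdeal K τ ≤ RingHom.ker (cellMap K τ) := by
  rw [plIdeal, Ideal.span_le]
  rintro f (⟨i, j, r, -, rfl⟩ | ⟨φ, hφ, rfl⟩)
  · exact shuffleRel_mem_ker τ i j r
  · exact X_mem_ker hφ

lemma ker_cellMap (hd : 0 < d) (τ : Idx d n) : RingHom.ker (cellMap K τ) = plIdeal K τ := by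
  refine le_antisymm (fun f hf => ?_) (plIdeal_le_ker τ)
  set e : (Σ m : ℕ, {c : Fin m → Idx d n // Antitone c ∧ ∀ k, c k ≤ τ}) → Σ m, Fin m → Idx d n :=
    fun x => ⟨x.1, x.2.1⟩
  have he : Function.Injective e := by
    rintro ⟨m, c, h⟩ ⟨m', c', h'⟩ hh
    simp only [e, Sigma.mk.injEq] at hh
    obtain ⟨rfl, hh⟩ := hh
    obtain rfl := eq_of_heq hh
    rfl
  have hspan : Ideal.Quotient.mk (plIdeal K τ) f ∈ stdSpan (plIdeal K τ) (fun φ => φ ≤ τ) := by
    rw [stdSpan_eq_top (I := plIdeal K τ) (P := fun φ => φ ≤ τ) (fun i j r h => Ideal.subset_span (Or.inl ⟨i, j, r, h, rfl⟩))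
      (fun φ hφ => Ideal.subset_span (Or.inr ⟨φ, hφ, rfl⟩))]
    trivial
  rw [stdSpan, Finsupp.mem_span_range_iff_exists_finsupp] at hspan
  obtain ⟨g, hg⟩ := hspan
  have hind := linearIndependent_mk_chainMon hd (RingHom.ker (cellMap K τ)) {τ}
    (by rintro _ rfl; exact le_rfl) e he (fun x => x.2.2.1) (fun x => ⟨τ, rfl, x.2.2.2⟩)
  have hsub : f - ∑ x ∈ g.support, g x • chainMon K (e x).2 ∈ plIdeal K τ := by
    rw [← Ideal.Quotient.eq_zero_iff_mem, map_sub, mk_linearCombination, ← hg, sub_eq_zero]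
    rfl
  have hzero : ∀ x ∈ g.support, g x = 0 := by
    refine linearIndependent_iff'.1 hind g.support g ?_
    rw [← mk_linearCombination, Ideal.Quotient.eq_zero_iff_mem]
    have := plIdeal_le_ker τ hsub
    simpa using Ideal.sub_mem _ hf this
  rw [Finset.sum_eq_zero (fun x hx => by rw [hzero x hx, zero_smul]), sub_zero] at hsub
  exact hsub

theorem plIdeal_eq_schubertVanishing {F : Type u} [Field F] [Infinite F] (hd : 0 < d) (τ : Idx d n) :
    plIdeal F τ = schubertVanishing F d n τ := by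
  rw [schubertVanishing_eq_ker hd, ker_cellMap hd]

end Groth.Agent.Lib.Grass.Basis
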