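import Groth.Agent.Lib.Grass.Minors
import Groth.Prelude.Def_CAlgX
import Mathlib.LinearAlgebra.Matrix.Block

/-!
# The opposite big cell: minors of `[I ; Z]` and determinantal ideals
-/

set_option linter.unusedSectionVars false

namespace Groth.Agent.Lib.Grass.BigCell

open W4bk4grassmannian MvPolynomial Finset Minors

universe u

variable {K : Type u} [CommRing K] {d r : ℕ}

lemma cellMinor_eq (θ : Idx d (d + r)) : cellMinor K d r θ = mdet (cellMatrix K d r) θ.1 := rfl

/-- Restriction of Plücker polynomials to the big cell. -/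
noncomputable def cellRes (K : Type u) [CommRing K] (d r : ℕ) : PlRing K d (d + r) →ₐ[K] CellRing K d r :=
  evalAt (cellMatrix K d r)

lemma cellRes_X (θ : Idx d (d + r)) : cellRes K d r (X θ) = cellMinor K d r θ := evalAt_X _ _

/-- Number of rows taken from the generic block. -/
def zCount {k : ℕ} (a : Fin k → Fin (d + r)) : ℕ := (univ.filter fun x => d ≤ (a x).val).card

lemma cellMatrix_of_lt {i : Fin (d + r)} (h : i.val < d) (j : Fin d) :
    cellMatrix K d r i j = if i.val = j.val then 1 else 0 := by
  simp [cellMatrix, h]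

lemma cellMatrix_natAdd (i : Fin r) (j : Fin d) :
    cellMatrix K d r (Fin.natAdd d i) j = genMatrix K r d i j := by
  simp [cellMatrix, genMatrix]

lemma zCount_succAbove_le {k : ℕ} (a : Fin (k + 1) → Fin (d + r)) (i : Fin (k + 1)) :
    zCount a ≤ zCount (a ∘ i.succAbove) + if d ≤ (a i).val then 1 else 0 := by
  simp only [zCount, Finset.card_filter, Fin.sum_univ_succAbove _ i, Function.comp_apply]
  omega

lemma det_submatrix_mem (t : ℕ) : ∀ (k : ℕ) (a : Fin k → Fin (d + r)) (b : Fin k → Fin d),
    t ≤ zCount a →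
      ((cellMatrix K d r).submatrix a b).det ∈ CAlgX.minorIdeal (genMatrix K r d) t := by
  have base : ∀ (k : ℕ) (a : Fin k → Fin (d + r)) (b : Fin k → Fin d), t = k →
      (∀ x, d ≤ (a x).val) →
      ((cellMatrix K d r).submatrix a b).det ∈ CAlgX.minorIdeal (genMatrix K r d) t := by
    intro k a b htk ha
    subst htk
    refine Ideal.subset_span ⟨(fun x => ⟨(a x).val - d, by have := (a x).isLt; have := ha x; omega⟩, b), ?_⟩
    refine congrArg Matrix.det (Matrix.ext fun x y => ?_)
    simp [cellMatrix, genMatrix, not_lt.2 (ha x)]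
  intro k
  induction k with
  | zero =>
    intro a b h
    have : t = 0 := by simpa [zCount] using h
    exact base 0 a b this fun x => x.elim0
  | succ k ih =>
    intro a b h
    by_cases hall : ∀ x, d ≤ (a x).val
    · rcases (Nat.lt_or_ge t (k + 1)) with hlt | hge
      · rw [Matrix.det_succ_row _ 0]
        refine sum_mem fun j _ => Ideal.mul_mem_left _ _ ?_
        rw [Matrix.submatrix_submatrix]
        refine ih _ _ ?_
        have : zCount (a ∘ (0 : Fin (k + 1)).succAbove) = k := by
          simp [zCount, hall]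
        omega
      · refine base _ a b (le_antisymm (h.trans ?_) hge) hall
        exact (Finset.card_filter_le _ _).trans (by simp)
    · obtain ⟨i, hi⟩ := not_forall.1 hall
      rw [Matrix.det_succ_row _ i]
      refine sum_mem fun j _ => Ideal.mul_mem_left _ _ ?_
      rw [Matrix.submatrix_submatrix]
      refine ih _ _ ?_
      have := zCount_succAbove_le a i
      rw [if_neg hi] at this
      omega

lemma zCount_comp_perm {k : ℕ} (a : Fin k → Fin (d + r)) (σ : Equiv.Perm (Fin k)) :
    zCount (a ∘ σ) = zCount a := by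
  simp only [zCount, Finset.card_filter, Function.comp_apply]
  exact Equiv.sum_comp σ fun x => if d ≤ (a x).val then 1 else 0

lemma le_apply_iff_zCount (θ : Idx d (d + r)) {t : ℕ} (ht : 0 < t) (htd : t ≤ d) :
    d ≤ (θ.1 ⟨d - t, by omega⟩).val ↔ t ≤ zCount θ.1 := by
  set x₀ : Fin d := ⟨d - t, by omega⟩
  constructor
  · intro h
    have : Finset.Ici x₀ ⊆ univ.filter fun x => d ≤ (θ.1 x).val := fun x hx => by
      simp only [mem_filter, mem_univ, true_and]
      exact h.trans (θ.2.monotone (Finset.mem_Ici.1 hx))
    have h2 := Finset.card_le_card this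
    rw [Fin.card_Ici] at h2
    simp only [zCount, x₀] at h2 ⊢
    omega
  · intro h
    by_contra hc
    have : (univ.filter fun x => d ≤ (θ.1 x).val) ⊆ Finset.Ioi x₀ := fun x hx => by
      simp only [mem_filter, mem_univ, true_and] at hx
      rw [Finset.mem_Ioi]
      by_contra hle
      exact hc (hx.trans (θ.2.monotone (not_lt.1 hle)))
    have h2 := Finset.card_le_card this
    rw [Fin.card_Ioi] at h2
    simp only [zCount, x₀] at h h2
    omega

lemma mdet_coord_cases (A : Matrix (Fin (d + r)) (Fin d) (CellRing K d r)) (a : Fin d → Fin (d + r)) :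
    mdet A a = 0 ∨ ∃ (θ : Idx d (d + r)) (c : CellRing K d r), zCount θ.1 = zCount a ∧
      mdet A a = c * mdet A θ.1 := by
  by_cases hi : Function.Injective a
  · have hcard : (univ.image a).card = d := by
      rw [card_image_of_injective _ hi, card_univ, Fintype.card_fin]
    obtain ⟨σ, hσ, -⟩ := exists_sort a hcard
    exact Or.inr ⟨sortIdx d _ a hcard, ((σ.sign : ℤ) : CellRing K d r),
      by conv_rhs => rw [← hσ, zCount_comp_perm],
      by conv_lhs => rw [← hσ, mdet_comp_perm]⟩
  · simp only [Function.Injective, not_forall] at hi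
    obtain ⟨s, t, hst, hne⟩ := hi
    exact Or.inl (mdet_eq_zero_of_eq A a hne hst)

/-- A minor of `Z` is, up to sign, a maximal minor of `[I ; Z]`. -/
lemma exists_extend {t : ℕ} (f : Fin t → Fin r) (g : Fin t → Fin d) (hg : Function.Injective g) :
    ∃ a : Fin d → Fin (d + r), zCount a = t ∧
      mdet (cellMatrix K d r) a = ((genMatrix K r d).submatrix f g).det := by
  classical
  let a : Fin d → Fin (d + r) := fun j =>
    if h : ∃ k, g k = j then Fin.natAdd d (f h.choose) else Fin.castAdd r j
  have ha1 : ∀ k, a (g k) = Fin.natAdd d (f k) := fun k => by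
    have h : ∃ k', g k' = g k := ⟨k, rfl⟩
    simp only [a, dif_pos h, hg h.choose_spec]
  have ha2 : ∀ j, (¬ ∃ k, g k = j) → a j = Fin.castAdd r j := fun j h => dif_neg h
  refine ⟨a, ?_, ?_⟩
  · have : (univ.filter fun x => d ≤ (a x).val) = univ.image g := by
      ext j
      simp only [mem_filter, mem_univ, true_and, mem_image]
      by_cases h : ∃ k, g k = j
      · obtain ⟨k, rfl⟩ := h
        simp [ha1]
      · simp only [ha2 j h, Fin.val_castAdd]
        exact iff_of_false (by omega) h
    rw [zCount, this, card_image_of_injective _ hg, card_univ, Fintype.card_fin]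
  · rw [mdet, Matrix.twoBlockTriangular_det _ (fun j => ∃ k, g k = j)]
    · let e : Fin t ≃ {j : Fin d // ∃ k, g k = j} :=
        Equiv.ofBijective (fun k => ⟨g k, k, rfl⟩)
          ⟨fun k l h => hg (congrArg Subtype.val h), fun ⟨j, k, hk⟩ => ⟨k, Subtype.ext hk⟩⟩
      have h2 : Matrix.toSquareBlockProp ((cellMatrix K d r).submatrix a id)
          (fun j => ¬ ∃ k, g k = j) = 1 := by
        ext ⟨i, hi⟩ ⟨j, hj⟩
        simp only [Matrix.toSquareBlockProp_def, Matrix.of_apply, Matrix.submatrix_apply, id,
          ha2 i hi, cellMatrix_of_lt (show (Fin.castAdd r i).val < d from i.isLt), Fin.val_castAdd,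
          Matrix.one_apply, Subtype.mk.injEq, Fin.val_inj]
      rw [h2, Matrix.det_one, mul_one, ← Matrix.det_submatrix_equiv_self e]
      refine congrArg Matrix.det (Matrix.ext fun k l => ?_)
      change cellMatrix K d r (a (g k)) (g l) = genMatrix K r d (f k) (g l)
      rw [ha1, cellMatrix_natAdd]
    · intro i hi j hj
      have hne : i.val ≠ j.val := fun e => hi (by rwa [Fin.ext e])
      simp [ha2 i hi, cellMatrix_of_lt (show (Fin.castAdd r i).val < d from i.isLt), hne]

/-- The Schubert generators restrict to the determinantal ideal. -/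
theorem span_cellMinor_eq {t : ℕ} (ht : 0 < t) (htd : t ≤ d) :
    Ideal.span {f : CellRing K d r | ∃ θ : Idx d (d + r),
        d ≤ (θ.1 ⟨d - t, by omega⟩).val ∧ f = cellMinor K d r θ} =
      CAlgX.minorIdeal (genMatrix K r d) t := by
  refine le_antisymm (Ideal.span_le.2 ?_) (Ideal.span_le.2 ?_)
  · rintro _ ⟨θ, hθ, rfl⟩
    exact det_submatrix_mem t d θ.1 id ((le_apply_iff_zCount θ ht htd).1 hθ)
  · rintro _ ⟨⟨f, g⟩, rfl⟩
    by_cases hg : Function.Injective g
    · obtain ⟨a, ha, he⟩ := exists_extend (K := K) f g hg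
      show ((genMatrix K r d).submatrix f g).det ∈ _
      rw [← he]
      rcases mdet_coord_cases (cellMatrix K d r) a with h | ⟨θ, c, hθ, h⟩
      · rw [h]; exact zero_mem _
      · rw [h, ← cellMinor_eq]
        exact Ideal.mul_mem_left _ _ (Ideal.subset_span
          ⟨θ, (le_apply_iff_zCount θ ht htd).2 (by omega), rfl⟩)
    · simp only [Function.Injective, not_forall] at hg
      obtain ⟨k, l, hkl, hne⟩ := hg
      show ((genMatrix K r d).submatrix f g).det ∈ _
      rw [Matrix.det_zero_of_column_eq hne fun i => by simp [hkl]]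
      exact zero_mem _

end Groth.Agent.Lib.Grass.BigCell
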