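import Groth.Agent.Lib.Grass.Ideals

/-!
# The shape of the straightening relation of a pair
-/

set_option linter.unusedSectionVars false

namespace Groth.Agent.Lib.Grass.StraightenShape

open W4bk4grassmannian MvPolynomial Finset Minors Cell Straighten Basis Semigroup Invariant Ideals

universe u

variable {d n : ℕ} {K : Type u}

/-- The sum of a function over the entries of an index. -/
def cont (g : Fin n → ℕ) (a : Fin d → Fin n) : ℕ := ∑ t, g (a t)

lemma cont_shuffle_add {i j : Idx d n} {r : Fin d} (g : Fin n → ℕ) (A : Finset (Fin (d + 1)))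
    (hA : A.card = r.val + 1) :
    cont g (shuffleI i j r A hA) + cont g (shuffleJ i j r A hA) = cont g i.1 + cont g j.1 := by
  have key : ∀ (B : Finset (Fin (d + 1))) (hB : B.card = r.val + 1),
      cont g (shuffleI i j r B hB) + cont g (shuffleJ i j r B hB) =
        (∑ t : Fin d, if t.val ≤ r.val then 0 else g (i.1 t)) +
          (∑ t : Fin d, if t.val < r.val then g (j.1 t) else 0) +
          ∑ k, g (movingRows i j r k) := by
    intro B hB
    rw [← Equiv.sum_comp (shuffleEquiv r B hB) (fun k => g (movingRows i j r k)),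
      sum_split _ r]
    unfold cont
    simp only [← Finset.sum_add_distrib]
    refine Finset.sum_congr rfl fun t _ => ?_
    rw [shuffleI_eq, shuffleJ_eq, shuffleEquiv_apply, shuffleEquiv_apply]
    split_ifs <;> omega
  rw [key A hA, ← key (frontSet r) (frontSet_card r), shuffleI_front, shuffleJ_front]

lemma coord_cases' [CommRing K] (a : Fin d → Fin n) :
    coord K d n a = 0 ∨ ∃ (I : Idx d n) (c : K), (∀ g, cont g I.1 = cont g a) ∧
      coord K d n a = C c * X I := by
  unfold coord
  split_ifs with h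
  · obtain ⟨σ, hσ, -⟩ := exists_sort a h
    refine Or.inr ⟨sortIdx d n a h, (-1) ^ invCount d n a, fun g => ?_, by simp⟩
    conv_rhs => rw [← hσ]
    exact (Equiv.sum_comp σ fun t => g ((sortIdx d n a h).1 t)).symm
  · exact Or.inl rfl

lemma shuffleTerm_cases' [CommRing K] {i j : Idx d n} {r : Fin d} (hp : i.1 r < j.1 r)
    (A : Finset (Fin (d + 1))) (hne : A ≠ frontSet r) :
    shuffleTerm K i j r A = 0 ∨ ∃ (I J : Idx d n) (c : K), wt i.1 < wt I.1 ∧
      (∀ g, cont g I.1 + cont g J.1 = cont g i.1 + cont g j.1) ∧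
      shuffleTerm K i j r A = C c * (X I * X J) := by
  unfold shuffleTerm
  split_ifs with hA
  · rcases coord_cases' (K := K) (shuffleI i j r A hA) with h1 | ⟨I, a, hI, h1⟩
    · exact Or.inl (by rw [h1]; ring)
    rcases coord_cases' (K := K) (shuffleJ i j r A hA) with h2 | ⟨J, b, hJ, h2⟩
    · exact Or.inl (by rw [h2]; ring)
    refine Or.inr ⟨I, J, (-1) ^ shuffleSign r A * a * b, ?_,
      fun g => by rw [hI, hJ, cont_shuffle_add], ?_⟩
    · have : wt I.1 = wt (shuffleI i j r A hA) := hI (fun x => x.val)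
      exact this ▸ wt_shuffleI_gt hp A hA hne
    · rw [h1, h2]; simp only [map_mul, map_pow, map_neg, map_one]; ring
  · exact Or.inl rfl

/-- Standard chains of degree two with prescribed content. -/
def pairChains (i j : Idx d n) : Set (Chains d n) :=
  {x | x.1 = 2 ∧ ∀ g, ∑ k, cont g (x.2.1 k).1 = cont g i.1 + cont g j.1}

theorem mul_mem_span [CommRing K] : ∀ i j : Idx d n, X i * X j ∈
    Submodule.span K ((fun x : Chains d n => chainMon K x.2.1) '' pairChains i j) ⊔
      (plIdealTop (d := d) (n := n) K).restrictScalars K := by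
  suffices H : ∀ (N : ℕ) (i j : Idx d n), 2 * (d * n) ^ 2 - (wt i.1 ^ 2 + wt j.1 ^ 2) = N → X i * X j ∈
      Submodule.span K ((fun x : Chains d n => chainMon K x.2.1) '' pairChains i j) ⊔
      (plIdealTop (d := d) (n := n) K).restrictScalars K from fun i j => H _ i j rfl
  intro N
  induction N using Nat.strong_induction_on with
  | _ N IH =>
    intro i j hN
    by_cases hji : j ≤ i
    · refine Submodule.mem_sup_left (Submodule.subset_span ⟨⟨2, ![i, j], ?_⟩, ⟨rfl, ?_⟩, ?_⟩)
      · intro a b hab
        fin_cases a <;> fin_cases b <;> simp_all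
      · intro g; simp [Fin.sum_univ_two]
      · simp [chainMon, Fin.prod_univ_two]
    by_cases hij : i ≤ j
    · refine Submodule.mem_sup_left (Submodule.subset_span ⟨⟨2, ![j, i], ?_⟩, ⟨rfl, ?_⟩, ?_⟩)
      · intro a b hab
        fin_cases a <;> fin_cases b <;> simp_all
      · intro g; simp [Fin.sum_univ_two, add_comm]
      · simp [chainMon, Fin.prod_univ_two, mul_comm]
    have main : ∀ i j : Idx d n, ¬ j ≤ i → wt j.1 ≤ wt i.1 →
        2 * (d * n) ^ 2 - (wt i.1 ^ 2 + wt j.1 ^ 2) = N → X i * X j ∈
        Submodule.span K ((fun x : Chains d n => chainMon K x.2.1) '' pairChains i j) ⊔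
        (plIdealTop (d := d) (n := n) K).restrictScalars K := by
      intro i j hji hw hN
      obtain ⟨r, hr⟩ := exists_pivot hji
      have hterms : ∀ A ∈ univ.erase (frontSet r), shuffleTerm K i j r A ∈
          Submodule.span K ((fun x : Chains d n => chainMon K x.2.1) '' pairChains i j) ⊔
          (plIdealTop (d := d) (n := n) K).restrictScalars K := by
        intro A hA
        rcases shuffleTerm_cases' (K := K) hr.2 A (ne_of_mem_erase hA) with h | ⟨I, J, c, hI, hsum, h⟩
        · rw [h]; exact zero_mem _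
        have hs : wt I.1 + wt J.1 = wt i.1 + wt j.1 := hsum fun x => x.val
        have b1 := Nat.pow_le_pow_left (wt_le I.1) 2
        have b2 := Nat.pow_le_pow_left (wt_le J.1) 2
        have hmem := IH _ (by
          have : wt i.1 ^ 2 + wt j.1 ^ 2 < wt I.1 ^ 2 + wt J.1 ^ 2 := by nlinarith
          omega) I J rfl
        rw [h, ← smul_eq_C_mul]
        refine Submodule.smul_mem _ _ ?_
        rwa [show pairChains I J = pairChains i j by
          ext x; simp only [pairChains, hsum]] at hmem
      have hrel : shuffleRel K i j r ∈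
          Submodule.span K ((fun x : Chains d n => chainMon K x.2.1) '' pairChains i j) ⊔
          (plIdealTop (d := d) (n := n) K).restrictScalars K :=
        Submodule.mem_sup_right (Ideal.subset_span ⟨i, j, r, hr, rfl⟩)
      rw [shuffleRel, ← Finset.add_sum_erase univ _ (mem_univ (frontSet r)), shuffleTerm_front] at hrel
      simpa using sub_mem hrel (sum_mem hterms)
    rcases le_total (wt j.1) (wt i.1) with h | h
    · exact main i j hji h hN
    · have := main j i hij h (by rw [← hN, add_comm])
      rw [mul_comm]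
      rwa [show pairChains i j = pairChains j i by ext x; simp only [pairChains, add_comm]]

/-- The number of entries at most `i`. -/
def numLE (a : Fin d → Fin n) (i : Fin n) : ℕ := (univ.filter fun t => a t ≤ i).card

lemma numLE_eq_cont (a : Fin d → Fin n) (i : Fin n) :
    numLE a i = cont (fun x => if x ≤ i then 1 else 0) a := by
  simp only [numLE, cont, card_filter]

lemma numLE_anti {a b : Idx d n} (h : a ≤ b) (i : Fin n) : numLE b.1 i ≤ numLE a.1 i := by
  refine card_le_card fun t ht => ?_
  simp only [mem_filter, mem_univ, true_and] at ht ⊢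
  exact (h t).trans ht

lemma le_of_numLE {a b : Idx d n} (h : ∀ i, numLE b.1 i ≤ numLE a.1 i) : a ≤ b := by
  intro t
  by_contra hc
  have h1 : Finset.Iic t ⊆ univ.filter fun s => b.1 s ≤ b.1 t := fun s hs => by
    simpa using b.2.monotone (mem_Iic.1 hs)
  have h2 : (univ.filter fun s => a.1 s ≤ b.1 t) ⊆ Finset.Iio t := fun s hs => by
    simp only [mem_filter, mem_univ, true_and] at hs
    rw [mem_Iio]
    by_contra hts
    exact hc ((a.2.monotone (not_lt.1 hts)).trans hs)
  have := card_le_card h1
  have := card_le_card h2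
  have := h (b.1 t)
  simp [numLE] at *
  omega

lemma cont_sup_add_inf (g : Fin n → ℕ) (τ φ : Idx d n) :
    cont g (W4bk4grassmannian.sup τ φ).1 + cont g (W4bk4grassmannian.inf τ φ).1 =
      cont g τ.1 + cont g φ.1 := by
  simp only [cont, ← sum_add_distrib]
  refine sum_congr rfl fun t _ => ?_
  show g (max (τ.1 t) (φ.1 t)) + g (min (τ.1 t) (φ.1 t)) = _
  rcases le_total (τ.1 t) (φ.1 t) with h | h <;> simp [h, add_comm]

lemma diagExp_sup_add_inf (τ φ : Idx d n) :
    diagExp (W4bk4grassmannian.sup τ φ).1 + diagExp (W4bk4grassmannian.inf τ φ).1 =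
      diagExp τ.1 + diagExp φ.1 := by
  ext v
  obtain ⟨⟨t, i⟩, rfl⟩ := toLex.surjective v
  simp only [Finsupp.add_apply, diagExp_apply]
  show (if max (τ.1 t) (φ.1 t) = i then 1 else 0) + (if min (τ.1 t) (φ.1 t) = i then 1 else 0) = _
  rcases le_total (τ.1 t) (φ.1 t) with h | h <;> simp [h, add_comm]

theorem straighten_shape_content [Field K] [Infinite K] (hd : 0 < d) (τ φ : Idx d n) :
    ∃ g ∈ Submodule.span K {f : PlRing K d n | ∃ α β : Idx d n,
        β ≤ α ∧ W4bk4grassmannian.sup τ φ < α ∧ β < W4bk4grassmannian.inf τ φ ∧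
        (∀ g, cont g α.1 + cont g β.1 = cont g τ.1 + cont g φ.1) ∧ f = X α * X β},
      X τ * X φ - X (W4bk4grassmannian.sup τ φ) * X (W4bk4grassmannian.inf τ φ) - g ∈
        vanishing K d n := by
  classical
  have hdn : d ≤ n := by simpa using Fintype.card_le_of_injective _ τ.2.injective
  obtain ⟨f, hf, p, hp, hfp⟩ := Submodule.mem_sup.1 (mul_mem_span (K := K) τ φ)
  rw [Finsupp.mem_span_image_iff_linearCombination] at hf
  obtain ⟨g, hgT, rfl⟩ := hf
  rw [Finsupp.linearCombination_apply, Finsupp.sum] at hfp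
  have hg : X τ * X φ - ∑ x ∈ g.support, g x • chainMon K x.2.1 ∈ plIdealTop (d := d) (n := n) K := by
    rw [← hfp, add_sub_cancel_left]; exact hp
  set S := W4bk4grassmannian.sup τ φ
  set I := W4bk4grassmannian.inf τ φ
  have hSI : I ≤ S := fun t => min_le_max
  let x0 : Chains d n := ⟨2, ![S, I], by
    intro a b hab
    fin_cases a <;> fin_cases b <;> simp_all⟩
  have hexpand : ∀ x ∈ g.support, ∃ α β : Idx d n, β ≤ α ∧ S ≤ α ∧ β ≤ I ∧ (α = S ↔ β = I) ∧
      (α = S → x = x0) ∧ (∀ g, cont g α.1 + cont g β.1 = cont g τ.1 + cont g φ.1) ∧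
      chainMon K x.2.1 = X α * X β := by
    rintro ⟨m, c, hc⟩ hx
    obtain ⟨h2, hcont⟩ : m = 2 ∧ ∀ g, ∑ k, cont g (c k).1 = cont g τ.1 + cont g φ.1 := hgT hx
    subst h2
    simp only [Fin.sum_univ_two] at hcont
    have hba : c 1 ≤ c 0 := hc (by decide)
    have hle : ∀ θ : Idx d n, θ = τ ∨ θ = φ → θ ≤ c 0 := by
      intro θ hθ
      by_contra hn
      have hmem : (X τ * X φ : PlRing K d n) ∈ schubertVanishing K d n (c 0) := by
        rcases hθ with rfl | rfl
        · exact Ideal.mul_mem_right _ _ ((X_mem_schubert_iff hd).2 hn)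
        · exact Ideal.mul_mem_left _ _ ((X_mem_schubert_iff hd).2 hn)
      exact Finsupp.mem_support_iff.1 hx ((mem_schubert_iff_coords hd _ hg).1 hmem _ hx
        fun k => hc (Fin.zero_le k))
    have hSa : S ≤ c 0 := fun t => max_le (hle τ (.inl rfl) t) (hle φ (.inr rfl) t)
    have hn : ∀ i, numLE (c 0).1 i + numLE (c 1).1 i = numLE S.1 i + numLE I.1 i := fun i => by
      simp only [numLE_eq_cont, S, I, cont_sup_add_inf, hcont]
    have hbI : c 1 ≤ I := le_of_numLE fun i => by have := numLE_anti hSa i; have := hn i; omega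
    refine ⟨c 0, c 1, hba, hSa, hbI, ⟨fun h => le_antisymm hbI (le_of_numLE fun i => ?_),
      fun h => le_antisymm (le_of_numLE fun i => ?_) hSa⟩, fun h => ?_, hcont, ?_⟩
    · have := hn i; rw [h] at this; omega
    · have := hn i; rw [h] at this; omega
    · have h' : c 1 = I := le_antisymm hbI (le_of_numLE fun i => by
        have := hn i; rw [h] at this; omega)
      have hc0 : c = ![S, I] := by funext k; fin_cases k <;> simp [h, h']
      subst hc0
      rfl
    · simp [chainMon, Fin.prod_univ_two]
  -- the coefficient of the join-meet monomial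
  set T := top (d := d) hdn
  have hker : cellMap K T (X τ * X φ) = ∑ x ∈ g.support, g x • cellMap K T (chainMon K x.2.1) := by
    have := plIdealTop_le (K := K) hd T hg
    rw [schubertVanishing_eq_ker hd, RingHom.mem_ker, map_sub, sub_eq_zero, map_sum] at this
    simpa only [map_smul] using this
  have hpair : ∀ x : Chains d n, ∀ k, x.2.1 k ≤ T := fun x k => le_top hdn _
  have hdeg0 : ord.degree (cellMap K T (chainMon K x0.2.1)) = diagExp τ.1 + diagExp φ.1 := by
    rw [degree_chainMon (hpair x0), chainExp]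
    simp [x0, Fin.sum_univ_two, S, I, diagExp_sup_add_inf]
  have hprod : cellMap K T (X τ * X φ) = cellMap K T (chainMon K ![τ, φ]) := by
    simp [chainMon, Fin.prod_univ_two]
  have hdegr : ord.degree (cellMap K T (X τ * X φ)) = diagExp τ.1 + diagExp φ.1 := by
    rw [hprod, degree_chainMon (fun k => le_top hdn _), chainExp]
    simp [Fin.sum_univ_two]
  have hlcr : coeff (diagExp τ.1 + diagExp φ.1) (cellMap K T (X τ * X φ)) = 1 := by
    rw [← hdegr, hprod]; exact leadingCoeff_chainMon (fun k => le_top hdn _)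
  have hinj : ∀ a b : Chains d n, ord.degree (cellMap K T (chainMon K a.2.1)) =
      ord.degree (cellMap K T (chainMon K b.2.1)) → a = b := fun a b h => by
    rw [degree_chainMon (hpair a), degree_chainMon (hpair b)] at h
    exact chains_inj (chainExp_injective hd a.2.2 b.2.2 h)
  have hsmall : ∀ x ∈ g.support, x ≠ x0 → ord.toSyn (ord.degree (cellMap K T (chainMon K x.2.1))) <
      ord.toSyn (diagExp τ.1 + diagExp φ.1) := by
    intro x hx hne
    obtain ⟨m, hm, hmax⟩ := Finset.exists_max_image g.support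
      (fun x => ord.toSyn (ord.degree (cellMap K T (chainMon K x.2.1)))) ⟨x, hx⟩
    refine lt_of_le_of_ne ((hmax x hx).trans (not_lt.1 fun hlt => ?_)) fun e => hne
      (hinj x x0 (by rw [hdeg0]; exact ord.toSyn.injective e))
    have h0 := congrArg (coeff (ord.degree (cellMap K T (chainMon K m.2.1)))) hker
    rw [ord.coeff_eq_zero_of_lt (hdegr.symm ▸ hlt), coeff_sum,
      Finset.sum_eq_single_of_mem m hm fun b hb hbm => ?_, coeff_smul, smul_eq_mul] at h0
    · exact mul_ne_zero (Finsupp.mem_support_iff.1 hm)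
        (ord.coeff_degree_ne_zero_iff.2 (cellMap_chainMon_ne_zero (hpair m))) h0.symm
    · rw [coeff_smul, ord.coeff_eq_zero_of_lt (lt_of_le_of_ne (hmax b hb)
        fun e => hbm (hinj b m (ord.toSyn.injective e))), smul_zero]
  have hx0 : g x0 = 1 := by
    have h0 := congrArg (coeff (diagExp τ.1 + diagExp φ.1)) hker
    rw [hlcr, coeff_sum, Finset.sum_eq_single x0 (fun b hb hb0 => by
      rw [coeff_smul, ord.coeff_eq_zero_of_lt (hsmall b hb hb0), smul_zero])
      (fun h => by simp [Finsupp.notMem_support_iff.1 h]), coeff_smul, ← hdeg0,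
      show coeff (ord.degree _) (cellMap K T (chainMon K x0.2.1)) = 1 from
        leadingCoeff_chainMon (hpair x0), smul_eq_mul, mul_one] at h0
    exact h0.symm
  refine ⟨∑ x ∈ g.support.erase x0, g x • chainMon K x.2.1, Submodule.sum_mem _ fun x hx => ?_, ?_⟩
  · obtain ⟨α, β, hba, hSa, hbI, hiff, hx0', hct, heq⟩ := hexpand x (Finset.mem_of_mem_erase hx)
    have hne : α ≠ S := fun h => Finset.ne_of_mem_erase hx (hx0' h)
    exact Submodule.smul_mem _ _ (Submodule.subset_span ⟨α, β, hba, lt_of_le_of_ne hSa hne.symm,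
      lt_of_le_of_ne hbI (fun h => hne (hiff.2 h)), hct, heq⟩)
  · rw [sub_sub, ← show ∑ x ∈ g.support, g x • chainMon K x.2.1 = X S * X I +
      ∑ x ∈ g.support.erase x0, g x • chainMon K x.2.1 by
        rw [← Finset.add_sum_erase g.support _ (show x0 ∈ g.support by simp [hx0]), hx0]
        simp [x0, chainMon, Fin.prod_univ_two]]
    simp only [vanishing, Submodule.mem_iInf, RingHom.mem_ker]
    intro A
    exact mem_schubertVanishing.1 (plIdealTop_le hd T hg) A fun φ' h => absurd (le_top hdn φ') h

theorem straighten_shape [Field K] [Infinite K] (hd : 0 < d) (τ φ : Idx d n) :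
    ∃ g ∈ Submodule.span K {f : PlRing K d n | ∃ α β : Idx d n,
        β ≤ α ∧ W4bk4grassmannian.sup τ φ < α ∧ β < W4bk4grassmannian.inf τ φ ∧ f = X α * X β},
      X τ * X φ - X (W4bk4grassmannian.sup τ φ) * X (W4bk4grassmannian.inf τ φ) - g ∈
        vanishing K d n := by
  obtain ⟨g, hg, h⟩ := straighten_shape_content (K := K) hd τ φ
  refine ⟨g, Submodule.span_mono ?_ hg, h⟩
  rintro f ⟨α, β, h1, h2, h3, -, h4⟩
  exact ⟨α, β, h1, h2, h3, h4⟩

end Groth.Agent.Lib.Grass.StraightenShape
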