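import Groth.Agent.Lib.Grass.DetRing
import Groth.Agent.Lib.Grass.StraightenShape

/-!
# The standard bitableaux basis of determinantal rings
-/

set_option linter.unusedSectionVars false

namespace Groth.Agent.Lib.Grass.Bitableaux

open W4bk4grassmannian MvPolynomial Finset Minors Cell Straighten Basis Ideals BigCell Invariant Determinantal
open StraightenShape

universe u

/-! ### Counting entries below a bound -/

/-- The number of entries of value `< v`. -/
def cntLT {k N : ℕ} (a : Fin k → Fin N) (v : ℕ) : ℕ := (univ.filter fun x => (a x).val < v).card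

lemma cntLT_top {k N : ℕ} (a : Fin k → Fin N) : cntLT a N = k := by
  rw [cntLT, filter_true_of_mem fun x _ => (a x).isLt, card_univ, Fintype.card_fin]

lemma cntLT_le_iff {k k' N : ℕ} (a : Idx k N) (a' : Idx k' N) :
    (∀ v ≤ N, cntLT a.1 v ≤ cntLT a'.1 v) ↔
      k ≤ k' ∧ ∀ (j : Fin k) (j' : Fin k'), j.val = j'.val → a'.1 j' ≤ a.1 j := by
  constructor
  · intro h
    have hk : k ≤ k' := by simpa [cntLT_top] using h N le_rfl
    refine ⟨hk, fun j j' hjj => not_lt.1 fun hlt => ?_⟩
    have h1 : (Finset.Iic j) ⊆ univ.filter fun x => (a.1 x).val < (a.1 j).val + 1 := fun x hx => by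
      have : (a.1 x).val ≤ (a.1 j).val := a.2.monotone (mem_Iic.1 hx)
      simp; omega
    have h2 : (univ.filter fun x => (a'.1 x).val < (a.1 j).val + 1) ⊆ Finset.Iio j' := fun x hx => by
      simp only [mem_filter, mem_univ, true_and] at hx
      rw [mem_Iio]
      by_contra hc
      have : (a'.1 j').val ≤ (a'.1 x).val := a'.2.monotone (not_lt.1 hc)
      rw [Fin.lt_def] at hlt
      omega
    have h3 := card_le_card h1
    have h4 := card_le_card h2
    have h5 := h ((a.1 j).val + 1) (a.1 j).isLt
    simp only [cntLT] at h5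
    rw [Fin.card_Iic] at h3
    rw [Fin.card_Iio] at h4
    omega
  · rintro ⟨hk, h⟩ v -
    refine card_le_card_of_injOn (Fin.castLE hk) (fun x hx => ?_) (Fin.castLE_injective hk).injOn
    simp only [coe_filter, mem_univ, true_and, Set.mem_setOf_eq] at hx ⊢
    have : (a'.1 (Fin.castLE hk x)).val ≤ (a.1 x).val := h x (Fin.castLE hk x) (by simp)
    omega

variable {m n : ℕ}

lemma minorGE_iff (M M' : MinorIdx m n) : MinorGE M M' ↔
    (∀ v ≤ m, cntLT M.2.1.1 v ≤ cntLT M'.2.1.1 v) ∧ (∀ v ≤ n, cntLT M.2.2.1 v ≤ cntLT M'.2.2.1 v) := by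
  rw [cntLT_le_iff, cntLT_le_iff]
  constructor
  · rintro ⟨h, h'⟩
    exact ⟨⟨by omega, fun j j' e => (h' j j' e).1⟩, ⟨by omega, fun j j' e => (h' j j' e).2⟩⟩
  · rintro ⟨⟨h, h1⟩, ⟨-, h2⟩⟩
    exact ⟨by omega, fun j j' e => ⟨h1 j j' e, h2 j j' e⟩⟩

lemma minorGE_antisymm {M M' : MinorIdx m n} (h : MinorGE M M') (h' : MinorGE M' M) : M = M' := by
  obtain ⟨s, A, B⟩ := M
  obtain ⟨s', A', B'⟩ := M'
  obtain rfl : s = s' := le_antisymm h.1 h'.1
  have hA : A = A' := Subtype.ext (funext fun j => le_antisymm (h'.2 j j rfl).1 (h.2 j j rfl).1)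
  have hB : B = B' := Subtype.ext (funext fun j => le_antisymm (h'.2 j j rfl).2 (h.2 j j rfl).2)
  rw [hA, hB]

/-! ### The index of a minor -/

/-- A row of the generic block, in reversed order. -/
def zRow (n : ℕ) (a : Fin m) : Fin (n + m) := Fin.natAdd n a.rev

lemma zRow_injective : Function.Injective (zRow n : Fin m → Fin (n + m)) := fun a b h => by
  simpa [zRow] using h

/-- The row set of the maximal minor of `[I ; Z]` attached to a minor of `Z`. -/
def thetaSet (M : MinorIdx m n) : Finset (Fin (n + m)) :=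
  ((univ \ univ.image M.2.2.1).image (Fin.castAdd m)) ∪ univ.image (zRow n ∘ M.2.1.1)

lemma thetaSet_disjoint (M : MinorIdx m n) :
    Disjoint ((univ \ univ.image M.2.2.1).image (Fin.castAdd m)) (univ.image (zRow n ∘ M.2.1.1)) := by
  rw [disjoint_left]
  rintro x hx hx'
  obtain ⟨b, -, rfl⟩ := mem_image.1 hx
  obtain ⟨a, -, ha⟩ := mem_image.1 hx'
  have := congrArg Fin.val ha
  simp only [Function.comp_apply, zRow, Fin.val_natAdd, Fin.val_castAdd] at this
  omega

lemma thetaSet_card (M : MinorIdx m n) : (thetaSet M).card = n := by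
  have hs : M.1 + 1 ≤ n := by simpa using Fintype.card_le_of_injective _ M.2.2.2.injective
  rw [thetaSet, card_union_of_disjoint (thetaSet_disjoint M),
    card_image_of_injective _ (Fin.castAdd_injective _ _), card_univ_diff,
    card_image_of_injective _ M.2.2.2.injective,
    card_image_of_injective _ (zRow_injective.comp M.2.1.2.injective)]
  simp
  omega

/-- The Plücker index of a minor. -/
def theta (M : MinorIdx m n) : Idx n (n + m) :=
  ⟨fun t => (thetaSet M).orderEmbOfFin (thetaSet_card M) t, OrderEmbedding.strictMono _⟩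

lemma image_theta (M : MinorIdx m n) : univ.image (theta M).1 = thetaSet M :=
  Finset.image_orderEmbOfFin_univ _ _

lemma numLE_eq_card {d N : ℕ} (θ : Idx d N) (i : Fin N) :
    numLE θ.1 i = ((univ.image θ.1).filter fun x => x ≤ i).card := by
  rw [filter_image, card_image_of_injective _ θ.2.injective]
  rfl

lemma numLE_theta_castAdd (M : MinorIdx m n) (i : Fin n) :
    numLE (theta M).1 (Fin.castAdd m i) + cntLT M.2.2.1 (i.val + 1) = i.val + 1 := by
  rw [numLE_eq_card, image_theta, thetaSet, filter_union,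
    card_union_of_disjoint ((thetaSet_disjoint M).mono (filter_subset _ _) (filter_subset _ _)),
    filter_image, card_image_of_injective _ (Fin.castAdd_injective _ _)]
  have h0 : ((univ.image (zRow n ∘ M.2.1.1)).filter fun x => x ≤ Fin.castAdd m i) = ∅ := by
    rw [filter_eq_empty_iff]
    intro x hx
    obtain ⟨a, -, rfl⟩ := mem_image.1 hx
    rw [Fin.le_def]
    simp only [Function.comp_apply, zRow, Fin.val_natAdd, Fin.val_castAdd]
    omega
  have h1 : cntLT M.2.2.1 (i.val + 1) = ((univ.image M.2.2.1).filter fun b => b ≤ i).card := by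
    rw [filter_image, card_image_of_injective _ M.2.2.2.injective, cntLT]
    congr 1
    ext x
    simp only [mem_filter, mem_univ, true_and, Fin.le_def]
    omega
  have h2 : ((univ \ univ.image M.2.2.1).filter fun a => Fin.castAdd m a ≤ Fin.castAdd m i) =
      (univ.filter fun a => a ≤ i) \ ((univ.image M.2.2.1).filter fun b => b ≤ i) := by
    ext x
    simp only [mem_filter, mem_univ, true_and, mem_sdiff, Fin.le_def, Fin.val_castAdd]
    tauto
  rw [h0, h1, h2, card_empty, add_zero, card_sdiff_add_card_eq_card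
    (filter_subset_filter _ (subset_univ _)), show (univ.filter fun a => a ≤ i) = Finset.Iic i by ext; simp,
    Fin.card_Iic]

lemma numLE_theta_natAdd (M : MinorIdx m n) (k : Fin m) :
    numLE (theta M).1 (Fin.natAdd n k) + cntLT M.2.1.1 k.rev.val = n := by
  rw [numLE_eq_card, image_theta, thetaSet, filter_union,
    card_union_of_disjoint ((thetaSet_disjoint M).mono (filter_subset _ _) (filter_subset _ _)),
    filter_true_of_mem, card_image_of_injective _ (Fin.castAdd_injective _ _), card_univ_diff,
    card_image_of_injective _ M.2.2.2.injective, filter_image,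
    card_image_of_injective _ (zRow_injective.comp M.2.1.2.injective)]
  · have hs : M.1 + 1 ≤ n := by simpa using Fintype.card_le_of_injective _ M.2.2.2.injective
    have hpart : (univ.filter fun x => (zRow n ∘ M.2.1.1) x ≤ Fin.natAdd n k).card +
        cntLT M.2.1.1 k.rev.val = M.1 + 1 := by
      rw [cntLT, ← card_union_of_disjoint]
      · conv_rhs => rw [← Fintype.card_fin (M.1 + 1), ← card_univ]
        congr 1
        ext x
        simp [zRow, Fin.le_def, Fin.val_rev]
        omega
      · rw [disjoint_left]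
        intro x hx hx'
        simp [zRow, Fin.le_def, Fin.val_rev] at hx hx'
        omega
    simp only [card_univ, Fintype.card_fin]
    omega
  · intro x hx
    obtain ⟨b, -, rfl⟩ := mem_image.1 hx
    rw [Fin.le_def]
    simp
    omega

lemma theta_le_iff (M M' : MinorIdx m n) : theta M ≤ theta M' ↔ MinorGE M M' := by
  rw [minorGE_iff]
  constructor
  · intro h
    have hn : 0 < n := Nat.lt_of_lt_of_le Nat.zero_lt_one
      (Nat.le_trans (Nat.le_add_left 1 M.1) (by simpa using Fintype.card_le_of_injective _ M.2.2.2.injective))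
    have hB : ∀ v ≤ n, cntLT M.2.2.1 v ≤ cntLT M'.2.2.1 v := by
      intro v hv
      rcases v with _ | v
      · simp [cntLT]
      have := numLE_theta_castAdd M ⟨v, hv⟩
      have := numLE_theta_castAdd M' ⟨v, hv⟩
      have := numLE_anti h (Fin.castAdd m ⟨v, hv⟩)
      simp only at *
      omega
    refine ⟨fun v hv => ?_, hB⟩
    rcases eq_or_lt_of_le hv with rfl | hv
    · have := hB n le_rfl
      simpa [cntLT_top] using this
    have h1 := numLE_theta_natAdd M (Fin.rev ⟨v, hv⟩)
    have h2 := numLE_theta_natAdd M' (Fin.rev ⟨v, hv⟩)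
    have h3 := numLE_anti h (Fin.natAdd n (Fin.rev ⟨v, hv⟩))
    rw [Fin.rev_rev] at h1 h2
    simp only at *
    omega
  · rintro ⟨hA, hB⟩
    refine le_of_numLE fun i => ?_
    induction i using Fin.addCases with
    | left i =>
      have := numLE_theta_castAdd M i
      have := numLE_theta_castAdd M' i
      have := hB (i.val + 1) i.isLt
      omega
    | right k =>
      have := numLE_theta_natAdd M k
      have := numLE_theta_natAdd M' k
      have := hA k.rev.val k.rev.isLt.le
      omega

lemma theta_injective : Function.Injective (theta : MinorIdx m n → Idx n (n + m)) := fun M M' h =>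
  minorGE_antisymm ((theta_le_iff M M').1 h.le) ((theta_le_iff M' M).1 h.ge)

lemma zCount_theta (M : MinorIdx m n) : zCount (theta M).1 = M.1 + 1 := by
  rw [zCount, ← card_image_of_injective _ (theta M).2.injective,
    show (univ.filter fun x => n ≤ ((theta M).1 x).val).image (theta M).1 =
      (univ.image (theta M).1).filter fun y => n ≤ y.val by rw [filter_image],
    image_theta, thetaSet, filter_union, filter_eq_empty_iff.2, empty_union, filter_true_of_mem,
    card_image_of_injective _ (zRow_injective.comp M.2.1.2.injective)]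
  · simp
  · intro x hx
    obtain ⟨a, -, rfl⟩ := mem_image.1 hx
    simp [zRow]
  · intro x hx
    obtain ⟨b, -, rfl⟩ := mem_image.1 hx
    simp

lemma zCount_bot : zCount (β n m).1 = 0 := by
  rw [zCount, card_eq_zero, filter_eq_empty_iff]
  intro x _
  simp [Invariant.bot]

lemma exists_theta {θ : Idx n (n + m)} (h : θ ≠ β n m) : ∃ M, theta M = θ := by
  classical
  set S := univ.image θ.1
  have hS : S.card = n := by rw [card_image_of_injective _ θ.2.injective, card_univ, Fintype.card_fin]
  set B := univ.filter fun b : Fin n => Fin.castAdd m b ∉ S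
  set A := univ.filter fun a : Fin m => zRow n a ∈ S
  have hsplit : S = ((univ \ B).image (Fin.castAdd m)) ∪ A.image (zRow n) := by
    ext x
    induction x using Fin.addCases with
    | left i =>
      simp only [mem_union, mem_image, mem_sdiff, mem_univ, true_and]
      constructor
      · intro hx
        exact Or.inl ⟨i, by simp [B, hx], rfl⟩
      · rintro (⟨j, hj, e⟩ | ⟨a, ha, e⟩)
        · simpa [B, e] using hj
        · rw [← e]; simpa [A] using ha
    | right k =>
      simp only [mem_union, mem_image, mem_sdiff, mem_univ, true_and]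
      constructor
      · intro hx
        exact Or.inr ⟨k.rev, mem_filter.2 ⟨mem_univ _, by simpa [zRow] using hx⟩, by simp [zRow]⟩
      · rintro (⟨j, hj, e⟩ | ⟨a, ha, e⟩)
        · simpa [B, e] using hj
        · rw [← e]; simpa [A] using ha
  have hAB : B.card = A.card := by
    have hc := congrArg Finset.card hsplit
    rw [hS, card_union_of_disjoint, card_image_of_injective _ (Fin.castAdd_injective _ _),
      card_image_of_injective _ zRow_injective, card_univ_diff, Fintype.card_fin] at hc
    · have : B.card ≤ n := by simpa using B.card_le_univ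
      omega
    · rw [disjoint_left]
      rintro x hx hx'
      obtain ⟨b, -, rfl⟩ := mem_image.1 hx
      obtain ⟨a, -, ha⟩ := mem_image.1 hx'
      have := congrArg Fin.val ha
      simp only [zRow, Fin.val_natAdd, Fin.val_castAdd] at this
      omega
  obtain ⟨s, hs⟩ : ∃ s, A.card = s + 1 := by
    refine Nat.exists_eq_succ_of_ne_zero fun h0 => h ?_
    rw [← sortIdx_self θ hS, ← sortIdx_self (β n m) (by
      rw [card_image_of_injective _ (β n m).2.injective, card_univ, Fintype.card_fin])]
    apply Subtype.ext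
    funext t
    simp only [sortIdx]
    congr 2
    change S = _
    rw [hsplit, card_eq_zero.1 h0, card_eq_zero.1 (hAB.trans h0), image_empty, union_empty, sdiff_empty]
    rfl
  let M : MinorIdx m n := ⟨s, ⟨fun t => A.orderEmbOfFin hs t, OrderEmbedding.strictMono _⟩,
    ⟨fun t => B.orderEmbOfFin (hAB.trans hs) t, OrderEmbedding.strictMono _⟩⟩
  refine ⟨M, ?_⟩
  refine Subtype.ext (Finset.orderEmbOfFin_unique (thetaSet_card _) (fun t => ?_) θ.2).symm
  have hmem : θ.1 t ∈ S := mem_image_of_mem _ (mem_univ t)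
  unfold thetaSet
  simp only [M, ← image_image, Finset.image_orderEmbOfFin_univ, ← hsplit]
  exact hmem

/-! ### The reversal of rows -/

variable (K : Type u) [Field K]

/-- Reversal of the rows of the generic matrix. -/
noncomputable def flipRows (m n : ℕ) : CellRing K n m →ₐ[K] CellRing K n m :=
  rename fun p => (p.1.rev, p.2)

variable {K}

lemma flipRows_flipRows (f : CellRing K n m) : flipRows K m n (flipRows K m n f) = f := by
  rw [flipRows, rename_rename]
  conv_rhs => rw [← rename_id_apply f]
  congr 2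
  funext p
  simp

lemma flipRows_det {k : ℕ} (f : Fin k → Fin m) (g : Fin k → Fin n) :
    flipRows K m n ((genMatrix K m n).submatrix f g).det =
      ((genMatrix K m n).submatrix (Fin.rev ∘ f) g).det := by
  rw [AlgHom.map_det]
  refine congrArg Matrix.det (Matrix.ext fun a b => ?_)
  simp [flipRows, genMatrix]

lemma flipRows_mem {t : ℕ} {f : CellRing K n m} (h : f ∈ CAlgX.minorIdeal (genMatrix K m n) t) :
    flipRows K m n f ∈ CAlgX.minorIdeal (genMatrix K m n) t := by
  refine (show (CAlgX.minorIdeal (genMatrix K m n) t).map (flipRows K m n) ≤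
    CAlgX.minorIdeal (genMatrix K m n) t from ?_) (Ideal.mem_map_of_mem _ h)
  rw [CAlgX.minorIdeal, Ideal.map_span]
  refine Ideal.span_mono ?_
  rintro _ ⟨_, ⟨⟨r, c⟩, rfl⟩, rfl⟩
  exact ⟨(Fin.rev ∘ r, c), (flipRows_det r c).symm⟩

/-- The maximal minor of `[I ; Z]` on `theta M` is the reflected minor up to sign. -/
lemma exists_sign (M : MinorIdx m n) : ∃ c : K, c ≠ 0 ∧
    cellRes K n m (X (theta M)) = c • flipRows K m n (minorOf K M) := by
  classical
  set f : Fin (M.1 + 1) → Fin m := Fin.rev ∘ M.2.1.1
  set g : Fin (M.1 + 1) → Fin n := M.2.2.1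
  let a : Fin n → Fin (n + m) := fun j =>
    if h : ∃ k, g k = j then Fin.natAdd n (f h.choose) else Fin.castAdd m j
  have hg : Function.Injective g := M.2.2.2.injective
  have ha1 : ∀ k, a (g k) = Fin.natAdd n (f k) := fun k => by
    have h : ∃ k', g k' = g k := ⟨k, rfl⟩
    simp only [a, dif_pos h, hg h.choose_spec]
  have ha2 : ∀ j, (¬ ∃ k, g k = j) → a j = Fin.castAdd m j := fun j h => dif_neg h
  have hdet : mdet (cellMatrix K n m) a = ((genMatrix K m n).submatrix f g).det := by
    rw [mdet, Matrix.twoBlockTriangular_det _ (fun j => ∃ k, g k = j)]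
    · let e : Fin (M.1 + 1) ≃ {j : Fin n // ∃ k, g k = j} :=
        Equiv.ofBijective (fun k => ⟨g k, k, rfl⟩)
          ⟨fun k l h => hg (congrArg Subtype.val h), fun ⟨j, k, hk⟩ => ⟨k, Subtype.ext hk⟩⟩
      have h2 : Matrix.toSquareBlockProp ((cellMatrix K n m).submatrix a id)
          (fun j => ¬ ∃ k, g k = j) = 1 := by
        ext ⟨i, hi⟩ ⟨j, hj⟩
        simp only [Matrix.toSquareBlockProp_def, Matrix.of_apply, Matrix.submatrix_apply, id,
          ha2 i hi, cellMatrix_of_lt (show (Fin.castAdd m i).val < n from i.isLt), Fin.val_castAdd,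
          Matrix.one_apply, Subtype.mk.injEq, Fin.val_inj]
      rw [h2, Matrix.det_one, mul_one, ← Matrix.det_submatrix_equiv_self e]
      refine congrArg Matrix.det (Matrix.ext fun k l => ?_)
      change cellMatrix K n m (a (g k)) (g l) = genMatrix K m n (f k) (g l)
      rw [ha1, cellMatrix_natAdd]
    · intro i hi j hj
      have hne : i.val ≠ j.val := fun e => hi (by rwa [Fin.ext e])
      simp [ha2 i hi, cellMatrix_of_lt (show (Fin.castAdd m i).val < n from i.isLt), hne]
  have him : univ.image a = thetaSet M := by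
    have hc : ∀ j, j ∈ univ.image g ↔ ∃ k, g k = j := fun j => by simp
    refine Finset.Subset.antisymm (fun x hx => ?_) (fun x hx => ?_)
    · obtain ⟨j, -, rfl⟩ := mem_image.1 hx
      by_cases h : ∃ k, g k = j
      · obtain ⟨k, rfl⟩ := h
        rw [ha1]
        exact mem_union_right _ (mem_image_of_mem _ (mem_univ k))
      · rw [ha2 j h]
        exact mem_union_left _ (mem_image_of_mem _ (mem_sdiff.2 ⟨mem_univ _, fun hj => h ((hc j).1 hj)⟩))
    · rcases mem_union.1 hx with h | h
      · obtain ⟨j, hj, rfl⟩ := mem_image.1 h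
        rw [← ha2 j fun h => (mem_sdiff.1 hj).2 ((hc j).2 h)]
        exact mem_image_of_mem _ (mem_univ _)
      · obtain ⟨k, -, rfl⟩ := mem_image.1 h
        exact mem_image.2 ⟨g k, mem_univ _, ha1 k⟩
  have hcard : (univ.image a).card = n := him ▸ thetaSet_card _
  obtain ⟨σ, hσ, -⟩ := exists_sort a hcard
  have hsort : sortIdx n _ a hcard = theta M :=
    Subtype.ext (Finset.orderEmbOfFin_unique hcard (fun t => by
      rw [him, ← image_theta]; exact mem_image_of_mem _ (mem_univ t)) (theta _).2).symm
  rw [← hσ, mdet_comp_perm, hsort] at hdet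
  refine ⟨((σ.sign : ℤ) : K), ?_, ?_⟩
  · rcases Int.units_eq_one_or σ.sign with h | h <;> simp [h]
  · rw [cellRes_X, cellMinor_eq, minorOf, flipRows_det, ← hdet, smul_eq_C_mul, map_intCast,
      ← mul_assoc, ← Int.cast_mul, ← Units.val_mul, Int.units_mul_self]
    simp

/-- The sign relating a minor to the maximal minor of `[I ; Z]`. -/
noncomputable def sgn (M : MinorIdx m n) : K := (exists_sign (K := K) M).choose

lemma sgn_ne_zero (M : MinorIdx m n) : sgn (K := K) M ≠ 0 := (exists_sign (K := K) M).choose_spec.1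

lemma cellRes_theta (M : MinorIdx m n) :
    cellRes K n m (X (theta M)) = sgn (K := K) M • flipRows K m n (minorOf K M) :=
  (exists_sign (K := K) M).choose_spec.2

lemma cellRes_chain {k : ℕ} (c : Fin k → MinorIdx m n) :
    cellRes K n m (∏ i, X (theta (c i))) = (∏ i, sgn (K := K) (c i)) • flipRows K m n (∏ i, minorOf K (c i)) := by
  simp only [map_prod, cellRes_theta, Finset.prod_smul]

variable [Infinite K]

lemma detVan_tau' (hn : 0 < n) {t : ℕ} (ht : 1 ≤ t) (htn : t ≤ n + 1) (htm : t ≤ m + 1) :
    detVan (tau (d := n) (r := m) ht htn htm) = CAlgX.minorIdeal (genMatrix K m n) t := by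
  rcases eq_or_lt_of_le htn with rfl | h
  · rw [DetRing.minorIdeal_eq_bot _ (Or.inr (Nat.lt_succ_self n)), eq_bot_iff]
    intro g hg
    rw [Ideal.mem_bot]
    refine MvPolynomial.funext fun Z => ?_
    rw [map_zero]
    refine vanish_of_mem hg Z fun φ hφ => absurd ?_ hφ
    rw [le_tau_iff]
    exact Nat.lt_succ_of_le ((Finset.card_filter_le _ _).trans (by simp))
  · exact detVan_tau hn ht (Nat.lt_succ_iff.1 h) htm

/-! ### The basis -/

/-- Standard bitableaux with minors of size less than `t`. -/
abbrev Tableaux (m n t : ℕ) := Σ k : ℕ, {c : Fin k → MinorIdx m n //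
  (∀ i, (c i).1 + 1 ≤ t - 1) ∧ ∀ i j, i < j → MinorGE (c i) (c j)}

/-- The padded chain of a bitableau. -/
def padded {t : ℕ} (c : Tableaux m n t) (M : ℕ) : Chains n (n + m) :=
  ⟨M, fun k => if h : k.val < c.1 then theta (c.2.1 (Fin.rev ⟨k.val, h⟩)) else β n m, fun a b hab => by
    dsimp only
    split_ifs with hb ha ha
    · rw [theta_le_iff]
      rcases eq_or_lt_of_le hab with rfl | hlt
      · exact ⟨le_rfl, fun j j' e => by obtain rfl := Fin.ext e; exact ⟨le_rfl, le_rfl⟩⟩
      · exact c.2.2.2 _ _ (Fin.rev_lt_rev.2 hlt)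
    · exact absurd (lt_of_le_of_lt (Fin.le_def.1 hab) hb) ha
    · exact Invariant.bot_le _ _
    · exact le_rfl⟩

lemma padded_inj {t M : ℕ} {c c' : Tableaux m n t} (hc : c.1 ≤ M) (hc' : c'.1 ≤ M)
    (h : padded c M = padded c' M) : c = c' := by
  have hf : ∀ k : Fin M, (padded c M).2.1 k = (padded c' M).2.1 k := fun k => by
    simp only [padded, Sigma.mk.injEq, heq_eq_eq, true_and] at h
    exact congrFun (congrArg Subtype.val h) k
  have key : ∀ (c c' : Tableaux m n t), c.1 ≤ M → (∀ k : Fin M, (padded c M).2.1 k = (padded c' M).2.1 k) →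
      c.1 ≤ c'.1 := by
    intro c c' hc hf
    by_contra hlt
    have := hf ⟨c'.1, by omega⟩
    simp only [padded, show ¬ c'.1 < c'.1 by omega, show c'.1 < c.1 by omega, dif_pos, dif_neg,
      not_false_eq_true] at this
    have h0 := zCount_theta (c.2.1 (Fin.rev ⟨c'.1, by omega⟩))
    rw [this, zCount_bot] at h0
    omega
  obtain ⟨k, c⟩ := c
  obtain ⟨k', c'⟩ := c'
  obtain rfl : k = k' := le_antisymm (key ⟨k, c⟩ ⟨k', c'⟩ hc hf) (key ⟨k', c'⟩ ⟨k, c⟩ hc' fun k => (hf k).symm)
  refine Sigma.ext rfl (heq_of_eq (Subtype.ext (funext fun i => theta_injective ?_)))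
  have := hf ⟨i.rev.val, lt_of_lt_of_le i.rev.isLt hc⟩
  simp only [padded] at this
  rw [dif_pos i.rev.isLt, dif_pos i.rev.isLt] at this
  simpa only [Fin.eta, Fin.rev_rev] using this

lemma cellRes_padded {t M : ℕ} (c : Tableaux m n t) (hc : c.1 ≤ M) :
    cellRes K n m (chainMon K (padded c M).2.1) = cellRes K n m (∏ i, X (theta (c.2.1 i))) := by
  obtain ⟨j, rfl⟩ := Nat.exists_eq_add_of_le hc
  show cellRes K n m (∏ k : Fin (c.1 + j), X ((padded c (c.1 + j)).2.1 k)) = _
  rw [Fin.prod_univ_add, map_mul, map_prod (cellRes K n m) _ (univ : Finset (Fin j))]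
  rw [show (∏ i : Fin j, cellRes K n m (X ((padded c (c.1 + j)).2.1 (Fin.natAdd c.1 i)))) = 1 from
    Finset.prod_eq_one fun i _ => by simp [padded, cellRes_bot], mul_one]
  congr 1
  rw [← Equiv.prod_comp Fin.revPerm fun i => (X (theta (c.2.1 i)) : PlRing K n (n + m))]
  exact Finset.prod_congr rfl fun i _ => by simp [padded]

theorem linearIndependent_bitableaux (hn : 0 < n) {t : ℕ} (ht : 1 ≤ t) (htn : t ≤ n + 1) (htm : t ≤ m + 1) :
    LinearIndependent K (fun c : Tableaux m n t =>
      Ideal.Quotient.mk (CAlgX.minorIdeal (genMatrix K m n) t) (∏ i, minorOf K (c.2.1 i))) := by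
  classical
  rw [linearIndependent_iff']
  intro s g hg c0 hc0
  set τ := tau (d := n) (r := m) ht htn htm
  have hmem : ∑ c ∈ s, g c • (∏ i, minorOf K (c.2.1 i)) ∈ CAlgX.minorIdeal (genMatrix K m n) t := by
    rw [← Ideal.Quotient.eq_zero_iff_mem, ← Ideal.Quotient.mkₐ_eq_mk K, map_sum]
    simpa only [map_smul, Ideal.Quotient.mkₐ_eq_mk] using hg
  set M := s.sup fun c => c.1
  have hle : ∀ c ∈ s, c.1 ≤ M := fun c hc => Finset.le_sup (f := fun c : Tableaux m n t => c.1) hc
  set G : PlRing K n (n + m) :=
    ∑ c ∈ s, (g c * (∏ i, sgn (K := K) (c.2.1 i))⁻¹) • chainMon K (padded c M).2.1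
  have hGhom : G.IsHomogeneous M := by
    refine IsHomogeneous.sum _ _ _ fun c _ => ?_
    rw [smul_eq_C_mul]
    refine IsHomogeneous.C_mul ?_ _
    have := IsHomogeneous.prod univ (fun k => (X ((padded c M).2.1 k) : PlRing K n (n + m)))
      (fun _ => 1) fun k _ => isHomogeneous_X _ _
    simp only [Finset.sum_const, card_univ, Fintype.card_fin, smul_eq_mul, mul_one] at this
    exact this
  have hG : cellRes K n m G ∈ detVan τ := by
    rw [detVan_tau' hn]
    convert flipRows_mem hmem using 1
    simp only [G, map_sum, map_smul]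
    refine Finset.sum_congr rfl fun c hc => ?_
    rw [cellRes_padded c (hle c hc), cellRes_chain, smul_smul, mul_assoc, inv_mul_cancel₀
      (Finset.prod_ne_zero_iff.2 fun i _ => sgn_ne_zero _), mul_one, map_prod]
  have hJ := mem_of_cellRes_mem hn τ hGhom hG
  set e : Tableaux m n t → Chains n (n + m) := fun c => padded c M
  have hinj : Set.InjOn e s := fun a ha b hb h => padded_inj (hle a ha) (hle b hb) h
  let w : Chains n (n + m) →₀ K :=
    ∑ c ∈ s, Finsupp.single (e c) (g c * (∏ i, sgn (K := K) (c.2.1 i))⁻¹)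
  have hw : G - ∑ x ∈ w.support, w x • chainMon K x.2.1 ∈ plIdealTop (d := n) (n := n + m) K := by
    have : ∑ x ∈ w.support, w x • chainMon K x.2.1 = G := by
      show Finsupp.linearCombination K (fun x : Chains n (n + m) => chainMon K x.2.1) w = G
      simp only [w, map_sum, Finsupp.linearCombination_single, G, e]
    rw [this, sub_self]
    exact zero_mem _
  have hwc : w (e c0) = g c0 * (∏ i, sgn (K := K) (c0.2.1 i))⁻¹ := by
    simp only [w, Finsupp.finsetSum_apply]
    rw [Finset.sum_eq_single c0 (fun b hb hne => Finsupp.single_eq_of_ne fun h => hne (hinj hc0 hb h).symm)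
      (fun h => absurd hc0 h), Finsupp.single_eq_same]
  by_contra hne
  have hwne : w (e c0) ≠ 0 := by
    rw [hwc]
    exact mul_ne_zero hne (inv_ne_zero (Finset.prod_ne_zero_iff.2 fun i _ => sgn_ne_zero _))
  refine hwne ((mem_schubert_iff_coords hn τ hw).1 hJ _ (Finsupp.mem_support_iff.2 hwne) fun k => ?_)
  show (padded c0 M).2.1 k ≤ τ
  simp only [padded]
  split_ifs with hk
  · rw [le_tau_iff, zCount_theta]
    have := c0.2.2.1 (Fin.rev ⟨k.val, hk⟩)
    omega
  · exact Invariant.bot_le _ _

theorem span_bitableaux (hn : 0 < n) {t : ℕ} (ht : 1 ≤ t) (htn : t ≤ n + 1) (htm : t ≤ m + 1) :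
    Submodule.span K (Set.range fun c : Tableaux m n t =>
      Ideal.Quotient.mk (CAlgX.minorIdeal (genMatrix K m n) t) (∏ i, minorOf K (c.2.1 i))) = ⊤ := by
  classical
  rw [eq_top_iff]
  rintro z -
  obtain ⟨p, rfl⟩ := Ideal.Quotient.mk_surjective z
  set τ := tau (d := n) (r := m) ht htn htm
  set I := CAlgX.minorIdeal (genMatrix K m n) t
  obtain ⟨G, hG⟩ := cellRes_surjective (flipRows K m n p)
  obtain ⟨g, hg⟩ := exists_coords G
  let π : CellRing K n m →ₐ[K] CellRing K n m ⧸ I := (Ideal.Quotient.mkₐ K I).comp (flipRows K m n)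
  have hπ : ∀ f ∈ detVan τ, π f = 0 := fun f hf => by
    rw [detVan_tau' hn] at hf
    exact Ideal.Quotient.eq_zero_iff_mem.2 (flipRows_mem hf)
  have hexp : π (cellRes K n m G) = ∑ x ∈ g.support, g x • π (cellRes K n m (chainMon K x.2.1)) := by
    have h0 := hπ _ (Ideal.mem_map_of_mem (cellRes K n m) (plIdealTop_le hn τ hg))
    rw [map_sub, map_sub, sub_eq_zero] at h0
    rw [h0]
    simp only [map_sum, map_smul]
  have hp : Ideal.Quotient.mk I p = π (cellRes K n m G) := by
    rw [hG]
    show Ideal.Quotient.mk I p = Ideal.Quotient.mk I (flipRows K m n (flipRows K m n p))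
    rw [flipRows_flipRows]
  rw [hp, hexp]
  refine Submodule.sum_mem _ fun x _ => Submodule.smul_mem _ _ ?_
  obtain ⟨k, x, hx⟩ := x
  by_cases hall : ∀ i, x i ≤ τ
  swap
  · rw [hπ _ (Ideal.mem_map_of_mem (cellRes K n m) (chainMon_mem_schubert hn hall))]
    exact zero_mem _
  set S := univ.filter fun i => x i ≠ β n m
  have hne : ∀ i : Fin S.card, x (S.orderEmbOfFin rfl i.rev) ≠ β n m := fun i =>
    (mem_filter.1 (S.orderEmbOfFin_mem rfl i.rev)).2
  choose c hc using fun i => exists_theta (hne i)
  have hcle : ∀ i, (c i).1 + 1 ≤ t - 1 := fun i => by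
    have := (le_tau_iff ht htn htm _).1 (hall (S.orderEmbOfFin rfl i.rev))
    rw [← hc i, zCount_theta] at this
    omega
  have hcmono : ∀ i j, i < j → MinorGE (c i) (c j) := fun i j hij => by
    rw [← theta_le_iff, hc, hc]
    exact hx ((S.orderEmbOfFin rfl).monotone (Fin.rev_le_rev.2 hij.le))
  have hval : cellRes K n m (chainMon K x) = cellRes K n m (∏ i, X (theta (c i))) := by
    rw [chainMon, map_prod, map_prod]
    calc ∏ i, cellRes K n m (X (x i)) = ∏ i ∈ S, cellRes K n m (X (x i)) :=
          (Finset.prod_subset (subset_univ S) fun i _ hi => by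
            rw [show x i = β n m by simpa [S] using hi, cellRes_bot]).symm
      _ = ∏ i ∈ univ.map (S.orderEmbOfFin rfl).toEmbedding, cellRes K n m (X (x i)) := by
          rw [Finset.map_orderEmbOfFin_univ]
      _ = ∏ j : Fin S.card, cellRes K n m (X (x (S.orderEmbOfFin rfl j))) := Finset.prod_map _ _ _
      _ = ∏ j : Fin S.card, cellRes K n m (X (x (S.orderEmbOfFin rfl j.rev))) :=
          (Equiv.prod_comp Fin.revPerm fun j => cellRes K n m (X (x (S.orderEmbOfFin rfl j)))).symm
      _ = _ := Finset.prod_congr rfl fun i _ => by rw [hc i]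
  show π (cellRes K n m (chainMon K x)) ∈ _
  rw [hval, cellRes_chain, map_smul]
  refine Submodule.smul_mem _ _ (Submodule.subset_span ⟨⟨S.card, c, hcle, hcmono⟩, ?_⟩)
  show Ideal.Quotient.mk I (∏ i, minorOf K (c i)) =
    Ideal.Quotient.mk I (flipRows K m n (flipRows K m n (∏ i, minorOf K (c i))))
  rw [flipRows_flipRows]

end Groth.Agent.Lib.Grass.Bitableaux
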