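import Groth.Agent.Lib.Grass.Ideals

/-!
# The bottom Plücker coordinate is prime; degrees of standard sums
-/

set_option linter.unusedSectionVars false

namespace Groth.Agent.Lib.Grass.Bottom

open W4bk4grassmannian MvPolynomial Finset Minors Cell Straighten Basis Semigroup Invariant Ideals

universe u

variable {d n : ℕ}

lemma exists_degree_eq_of_sum {K : Type u} [CommRing K] [IsDomain K] {σ : Type*} (o : MonomialOrder σ)
    {ι : Type*} {s : Finset ι} {f : ι → MvPolynomial σ K} {g : ι → K} (hne : ∀ i ∈ s, f i ≠ 0)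
    (hinj : Set.InjOn (fun i => o.degree (f i)) s) (hsum : ∑ i ∈ s, g i • f i ≠ 0) :
    ∃ i ∈ s, g i ≠ 0 ∧ o.degree (∑ i ∈ s, g i • f i) = o.degree (f i) := by
  classical
  obtain ⟨i, hi, hi'⟩ := Finset.exists_ne_zero_of_sum_ne_zero hsum
  obtain ⟨j, hj, hmax⟩ := Finset.exists_max_image (s.filter fun i => g i ≠ 0)
    (fun i => o.toSyn (o.degree (f i)))
    ⟨i, Finset.mem_filter.2 ⟨hi, fun h => hi' (by rw [h, zero_smul])⟩⟩
  simp only [mem_filter] at hj hmax
  refine ⟨j, hj.1, hj.2, o.toSyn.injective (le_antisymm ?_ (MonomialOrder.le_degree ?_))⟩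
  · rw [MonomialOrder.degree_le_iff]
    intro e he
    rw [mem_support_iff, coeff_sum] at he
    obtain ⟨k, hk, hne'⟩ := Finset.exists_ne_zero_of_sum_ne_zero he
    rw [coeff_smul, smul_eq_mul] at hne'
    exact (MonomialOrder.le_degree (mem_support_iff.2 (right_ne_zero_of_mul hne'))).trans
      (hmax k ⟨hk, left_ne_zero_of_mul hne'⟩)
  · rw [mem_support_iff, coeff_sum, Finset.sum_eq_single j]
    · rw [coeff_smul, smul_eq_mul]
      exact mul_ne_zero hj.2 (o.coeff_degree_ne_zero_iff.2 (hne j hj.1))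
    · intro k hk hkj
      rw [coeff_smul, smul_eq_mul]
      rcases eq_or_ne (g k) 0 with h | h
      · simp [h]
      · rw [o.coeff_eq_zero_of_lt (lt_of_le_of_ne (hmax k ⟨hk, h⟩) fun e =>
          hkj (hinj hk hj.1 (o.toSyn.injective e))), mul_zero]
    · exact fun h => absurd hj.1 h

lemma eq_bot_of_last (hd : 0 < d) (hdn : d ≤ n) {φ : Idx d n}
    (h : (φ.1 ⟨d - 1, by omega⟩).val = d - 1) : φ = bot hdn := by
  refine Subtype.ext (funext fun t => Fin.ext ?_)
  have h1 : ((bot hdn).1 t).val ≤ (φ.1 t).val := bot_le hdn φ t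
  set L : Fin d := ⟨d - 1, by omega⟩
  have h2 := Finset.card_le_card_of_injOn φ.1 (s := Finset.Icc t L)
    (t := Finset.Icc (φ.1 t) (φ.1 L))
    (fun x hx => by
      simp only [coe_Icc, Set.mem_Icc] at hx ⊢
      exact ⟨φ.2.monotone hx.1, φ.2.monotone hx.2⟩) φ.2.injective.injOn
  simp only [Fin.card_Icc] at h2
  simp only [bot] at h1 ⊢
  have : L.val = d - 1 := rfl
  omega

variable {K : Type u} [Field K] [Infinite K]

lemma constantCoeff_eq_zero (hd : 0 < d) {w : Idx d n} {f : PlRing K d n}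
    (hf : f ∈ schubertVanishing K d n w) : constantCoeff f = 0 := by
  have : Nonempty (Fin d) := ⟨⟨0, hd⟩⟩
  have h0 : ∀ φ : Idx d n, mdet (0 : Matrix (Fin n) (Fin d) K) φ.1 = 0 := fun φ => by
    rw [mdet]; exact Matrix.det_zero
  have := mem_schubertVanishing.1 hf 0 (fun φ _ => h0 φ)
  rw [← this]
  have e : (evalAt (0 : Matrix (Fin n) (Fin d) K) : PlRing K d n →ₐ[K] K) =
      MvPolynomial.aeval (0 : Idx d n → K) := by
    refine MvPolynomial.algHom_ext fun θ => ?_
    simp [h0]
  rw [e, aeval_zero, Algebra.algebraMap_self, RingHom.id_apply]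

theorem prime_bot (hd : 0 < d) (hdn : d ≤ n) (w : Idx d n) :
    Prime (Ideal.Quotient.mk (schubertVanishing K d n w) (X (bot hdn))) := by
  classical
  set J := schubertVanishing K d n w with hJ
  set p : PlRing K d n := X (bot hdn)
  set φ := cellMap K w
  have hker : J = RingHom.ker φ := schubertVanishing_eq_ker hd w
  set v : Var d n := toLex (⟨d - 1, by omega⟩, ⟨d - 1, by omega⟩)
  refine ⟨fun h => ?_, fun h => ?_, fun a b hab => ?_⟩
  · exact (X_mem_schubert_iff hd).1 (Ideal.Quotient.eq_zero_iff_mem.1 h) (bot_le hdn w)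
  · obtain ⟨q, hq⟩ := h.exists_right_inv
    obtain ⟨q, rfl⟩ := Ideal.Quotient.mk_surjective q
    rw [← map_mul, ← map_one (Ideal.Quotient.mk J), Ideal.Quotient.mk_eq_mk_iff_sub_mem] at hq
    have := constantCoeff_eq_zero hd hq
    simp [p] at this
  have key : ∀ f : PlRing K d n, ∃ q r : PlRing K d n, φ f = φ p * φ q + φ r ∧
      (φ r ≠ 0 → ord.degree (φ r) v = 0) := by
    intro f
    obtain ⟨g, hg⟩ := exists_std_sum w f
    set hasBot := fun x : (Σ m : ℕ, {c : Fin m → Idx d n // Antitone c ∧ ∀ k, c k ≤ w}) =>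
      ∃ k, x.2.1 k = bot hdn
    have hdvd : ∀ x ∈ g.support.filter hasBot, ∃ q, g x • φ (chainMon K x.2.1) = φ p * φ q := by
      intro x hx
      obtain ⟨k, hk⟩ := (Finset.mem_filter.1 hx).2
      obtain ⟨q, hq⟩ := Finset.dvd_prod_of_mem (fun k => (X (x.2.1 k) : PlRing K d n)) (mem_univ k)
      rw [hk] at hq
      refine ⟨g x • q, ?_⟩
      rw [show chainMon K x.2.1 = p * q from hq, map_mul, map_smul, mul_smul_comm]
    choose! q hq using hdvd
    refine ⟨∑ x ∈ g.support.filter hasBot, q x,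
      ∑ x ∈ g.support.filter fun x => ¬ hasBot x, g x • chainMon K x.2.1, ?_, fun hr => ?_⟩
    · rw [map_sum, map_sum, Finset.mul_sum, hg,
        ← Finset.sum_filter_add_sum_filter_not g.support hasBot, Finset.sum_congr rfl hq]
      simp only [map_smul, φ]
    · simp only [map_sum, map_smul] at hr ⊢
      obtain ⟨x, hx, -, hdeg⟩ := exists_degree_eq_of_sum ord
        (s := g.support.filter fun x => ¬ hasBot x) (g := g)
        (f := fun x => φ (chainMon K x.2.1))
        (fun x _ => cellMap_chainMon_ne_zero x.2.2.2)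
        (by
          intro a _ b _ hab
          simp only [φ, degree_chainMon a.2.2.2, degree_chainMon b.2.2.2] at hab
          have := chainExp_injective hd a.2.2.1 b.2.2.1 hab
          obtain ⟨m, c, hc⟩ := a
          obtain ⟨m', c', hc'⟩ := b
          simp only [Sigma.mk.injEq] at this
          obtain ⟨rfl, hh⟩ := this
          obtain rfl := eq_of_heq hh
          rfl) hr
      rw [hdeg, degree_chainMon x.2.2.2, chainExp_apply, card_eq_zero, filter_eq_empty_iff]
      intro k _ hk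
      exact (Finset.mem_filter.1 hx).2 ⟨k, eq_bot_of_last hd hdn (by rw [hk])⟩
  obtain ⟨f, rfl⟩ := Ideal.Quotient.mk_surjective a
  obtain ⟨f', rfl⟩ := Ideal.Quotient.mk_surjective b
  obtain ⟨q, r, hfr, hr⟩ := key f
  obtain ⟨q', r', hfr', hr'⟩ := key f'
  obtain ⟨s, hs⟩ := hab
  obtain ⟨s, rfl⟩ := Ideal.Quotient.mk_surjective s
  rw [← map_mul, ← map_mul, Ideal.Quotient.mk_eq_mk_iff_sub_mem, hker, RingHom.mem_ker, map_sub,
    map_mul, map_mul, sub_eq_zero, hfr, hfr'] at hs
  have hdiv : ∀ {g g₁ g₂ : PlRing K d n}, φ g = φ p * φ g₁ + φ g₂ → φ g₂ = 0 →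
      Ideal.Quotient.mk J p ∣ Ideal.Quotient.mk J g := by
    intro g g₁ g₂ h h0
    refine ⟨Ideal.Quotient.mk J g₁, ?_⟩
    rw [← map_mul, Ideal.Quotient.mk_eq_mk_iff_sub_mem, hker, RingHom.mem_ker, map_sub, map_mul, h,
      h0, add_zero, sub_self]
  rcases eq_or_ne (φ r) 0 with h0 | h0
  · exact Or.inl (hdiv hfr h0)
  rcases eq_or_ne (φ r') 0 with h0' | h0'
  · exact Or.inr (hdiv hfr' h0')
  exfalso
  set s' : CRing K d n := φ s - φ p * φ q * φ q' - φ q * φ r' - φ r * φ q' with hs'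
  have e : φ r * φ r' = φ p * s' := by linear_combination hs
  have hne : φ p * s' ≠ 0 := e ▸ mul_ne_zero h0 h0'
  have hd1 := congrArg ord.degree e
  rw [MonomialOrder.degree_mul h0 h0', MonomialOrder.degree_mul (left_ne_zero_of_mul hne)
    (right_ne_zero_of_mul hne), show φ p = mdet (cellMat K w) (bot hdn).1 from evalAt_X _ _,
    degree_mdet_cellMat w _ (bot_le hdn w)] at hd1
  have := DFunLike.congr_fun hd1 v
  rw [Finsupp.add_apply, Finsupp.add_apply, hr h0, hr' h0', diagExp_apply] at this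
  simp [bot] at this
  omega

end Groth.Agent.Lib.Grass.Bottom
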