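import Groth.Agent.Lib.Grass.Union
import Groth.Agent.Lib.Grass.FreeCM

/-!
# Schubert varieties and unions of their divisors are Cohen–Macaulay
-/

set_option linter.unusedSectionVars false

namespace Groth.Agent.Lib.Grass.CM

open W4bk4grassmannian MvPolynomial Finset Minors Cell Straighten Ideals Union
open RingTheory.Sequence
open scoped Pointwise

universe u

variable {d n : ℕ} {K : Type u} [Field K] [Infinite K]

/-- `θ_{k-1}, …, θ_0`. -/
noncomputable def params (K : Type u) [Field K] (d n : ℕ) : ℕ → List (PlRing K d n)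
  | 0 => []
  | k + 1 => rankSum k :: params K d n k

lemma params_eq_ofFn (k : ℕ) :
    params K d n k = List.ofFn fun i : Fin k => rankSum (k - 1 - i.val) := by
  induction k with
  | zero => rfl
  | succ k ih =>
    rw [List.ofFn_succ, params, ih]
    congr 1
    congr 1
    funext i
    congr 1
    simp only [Fin.val_succ]
    omega

/-- Reducing a cyclic module modulo an element. -/
noncomputable def quotEquiv {A : Type u} [CommRing A] (J : Ideal A) (x : A) :
    QuotSMulTop x (A ⧸ J) ≃ₗ[A] A ⧸ (J ⊔ Ideal.span {x}) :=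
  (Submodule.quotEquivOfEq _ _ (by
    rw [← Submodule.range_mkQ J, ← Submodule.map_top, ← Submodule.map_pointwise_smul,
      ← Submodule.ideal_span_singleton_smul, smul_eq_mul, Ideal.mul_top])).trans
    (Submodule.quotientQuotientEquivQuotientSup J (Ideal.span {x}))

lemma isSMulRegular_mk {A : Type u} [CommRing A] {J : Ideal A} (hJ : J.IsPrime) {x : A} (hx : x ∉ J) :
    IsSMulRegular (A ⧸ J) x := by
  refine isSMulRegular_iff_right_eq_zero_of_smul.2 fun q hq => ?_
  obtain ⟨q, rfl⟩ := Ideal.Quotient.mk_surjective q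
  have : Ideal.Quotient.mk J (x * q) = 0 := hq
  rw [Ideal.Quotient.eq_zero_iff_mem] at this ⊢
  exact (hJ.mem_or_mem this).resolve_left hx

lemma sub_rankSum_mem (hd : 0 < d) (τ : Idx d n) :
    rankSum (codeg τ) - X τ ∈ schubertVanishing K d n τ := by
  classical
  rw [rankSum, ← Finset.add_sum_erase _ _
    (show τ ∈ univ.filter (fun φ : Idx d n => codeg φ = codeg τ) by simp), add_sub_cancel_left]
  refine sum_mem fun φ hφ => (X_mem_schubert_iff hd).2 fun hle => ?_
  simp only [mem_erase, mem_filter, mem_univ, true_and] at hφ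
  have := UFD.codeg_lt (lt_of_le_of_ne hle hφ.1)
  omega

lemma rankSum_mem_of_lt (hd : 0 < d) {φ : Idx d n} {r : ℕ} (h : codeg φ < r) :
    rankSum r ∈ schubertVanishing K d n φ := by
  refine sum_mem fun ψ hψ => (X_mem_schubert_iff hd).2 fun hle => ?_
  simp only [mem_filter, mem_univ, true_and] at hψ
  rcases hle.eq_or_lt with e | e
  · rw [e] at hψ; omega
  · have := UFD.codeg_lt e; omega

/-- The divisors as a finite set. -/
noncomputable def divFinset (τ : Idx d n) : Finset (Idx d n) :=
  (Set.toFinite (divisors τ)).toFinset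

lemma mem_divFinset {τ φ : Idx d n} : φ ∈ divFinset τ ↔ φ ∈ divisors τ := by simp [divFinset]

theorem regular_schubert_of_union (hd : 0 < d) (τ : Idx d n)
    (hU : ∀ S : Finset (Idx d n), S.Nonempty → (∀ φ ∈ S, φ ∈ divisors τ) →
      IsWeaklyRegular (PlRing K d n ⧸ unionIdeal (K := K) S) (params K d n (codeg τ))) :
    IsWeaklyRegular (PlRing K d n ⧸ schubertVanishing K d n τ) (params K d n (codeg τ + 1)) := by
  rw [params, isWeaklyRegular_cons_iff]
  set J := schubertVanishing K d n τ
  have hdiff := sub_rankSum_mem (K := K) hd τ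
  refine ⟨isSMulRegular_mk (isPrime_schubert hd τ) fun h => ?_, ?_⟩
  · exact (X_mem_schubert_iff hd).1 (show X τ ∈ J by simpa using J.sub_mem h hdiff) le_rfl
  by_cases hτ : ∃ φ, φ < τ
  · have hsup : J ⊔ Ideal.span {rankSum (codeg τ)} = unionIdeal (divFinset τ) := by
      have e1 : J ⊔ Ideal.span {rankSum (codeg τ)} = J ⊔ Ideal.span {X τ} := by
        refine le_antisymm (sup_le le_sup_left ?_) (sup_le le_sup_left ?_)
        · rw [Ideal.span_singleton_le_iff_mem,
            show rankSum (codeg τ) = (rankSum (codeg τ) - X τ : PlRing K d n) + X τ by ring]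
          exact add_mem (Ideal.mem_sup_left hdiff) (Ideal.mem_sup_right (Ideal.mem_span_singleton_self _))
        · rw [Ideal.span_singleton_le_iff_mem,
            show (X τ : PlRing K d n) = rankSum (codeg τ) - (rankSum (codeg τ) - X τ) by ring]
          exact sub_mem (Ideal.mem_sup_right (Ideal.mem_span_singleton_self _)) (Ideal.mem_sup_left hdiff)
      rw [e1, schubert_sup_span hd τ hτ]
      ext f
      simp [mem_unionIdeal, Submodule.mem_iInf, mem_divFinset]
    refine ((quotEquiv J _).isWeaklyRegular_congr _).2 ?_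
    rw [hsup]
    obtain ⟨φ₀, h₀⟩ := hτ
    obtain ⟨φ, hφ, -⟩ := exists_divisor h₀
    exact hU _ ⟨φ, mem_divFinset.2 hφ⟩ fun ψ hψ => mem_divFinset.1 hψ
  · simp only [not_exists] at hτ
    rw [Dim.codeg_eq_zero hτ, params]
    exact IsWeaklyRegular.nil _ _

theorem regular_union (hd : 0 < d) : ∀ (N : ℕ) (τ : Idx d n), codeg τ = N →
    ∀ S : Finset (Idx d n), S.Nonempty → (∀ φ ∈ S, φ ∈ divisors τ) →
      IsWeaklyRegular (PlRing K d n ⧸ unionIdeal (K := K) S) (params K d n N) := by
  classical
  intro N
  induction N using Nat.strong_induction_on with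
  | _ N IH =>
    intro τ hτ S hS
    have hsch : ∀ φ ∈ divisors τ,
        IsWeaklyRegular (PlRing K d n ⧸ schubertVanishing K d n φ) (params K d n N) := by
      intro φ hφ
      have h1 := hφ.2
      rw [show N = codeg φ + 1 by omega]
      exact regular_schubert_of_union hd φ (IH (codeg φ) (by omega) φ rfl)
    induction hS using Finset.Nonempty.cons_induction with
    | singleton φ =>
      intro h
      rw [unionIdeal_singleton]
      exact hsch φ (h φ (Finset.mem_singleton_self φ))
    | cons φ S hnot hne ih =>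
      intro h
      rw [Finset.cons_eq_insert, unionIdeal_insert]
      have hφ : φ ∈ divisors τ := h φ (Finset.mem_cons_self φ S)
      have hS' : ∀ ψ ∈ S, ψ ∈ divisors τ := fun ψ hψ => h ψ (Finset.mem_cons_of_mem hψ)
      set I := schubertVanishing K d n φ
      set J := unionIdeal (K := K) S
      have hN := hφ.2
      obtain ⟨M, hM⟩ : ∃ M, N = M + 1 := ⟨N - 1, by omega⟩
      subst hM
      have hQ : IsWeaklyRegular (PlRing K d n ⧸ (I ⊔ J)) (params K d n M) := by
        rw [schubert_sup_union hd]
        refine IH M (by omega) φ (by omega) _ (hne.image _) fun ψ hψ => ?_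
        obtain ⟨ψ, hψS, rfl⟩ := Finset.mem_image.1 hψ
        exact inf_mem_divisors hφ (hS' ψ hψS) fun e => hnot (e ▸ hψS)
      have hM : IsWeaklyRegular ((PlRing K d n ⧸ I) × (PlRing K d n ⧸ J))
          (params K d n (M + 1)) :=
        RegSeq.weaklyRegular_middle _ _ (LinearMap.inl _ _ _) (LinearMap.snd _ _ _)
          LinearMap.inl_injective Function.Exact.inl_snd LinearMap.snd_surjective
          (hsch φ hφ) (ih hS')
      let f : PlRing K d n ⧸ (I ⊓ J) →ₗ[PlRing K d n] (PlRing K d n ⧸ I) × (PlRing K d n ⧸ J) :=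
        (Submodule.factor inf_le_left).prod (Submodule.factor inf_le_right)
      let g : (PlRing K d n ⧸ I) × (PlRing K d n ⧸ J) →ₗ[PlRing K d n] PlRing K d n ⧸ (I ⊔ J) :=
        (Submodule.factor le_sup_left).coprod (-Submodule.factor le_sup_right)
      refine RegSeq.weaklyRegular_first (f := f) (g := g) ?_ ?_ ?_ ?_ hM hQ
      · rw [injective_iff_map_eq_zero]
        intro a ha
        obtain ⟨a, rfl⟩ := Ideal.Quotient.mk_surjective a
        obtain ⟨ha1, ha2⟩ := Prod.ext_iff.1 ha
        exact Ideal.Quotient.eq_zero_iff_mem.2 ⟨Ideal.Quotient.eq_zero_iff_mem.1 ha1,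
          Ideal.Quotient.eq_zero_iff_mem.1 ha2⟩
      · rintro ⟨a, b⟩
        obtain ⟨a, rfl⟩ := Ideal.Quotient.mk_surjective a
        obtain ⟨b, rfl⟩ := Ideal.Quotient.mk_surjective b
        constructor
        · intro h
          have h' : a - b ∈ I ⊔ J := by
            rw [← Ideal.Quotient.eq_zero_iff_mem, map_sub]
            exact (sub_eq_add_neg _ _).trans h
          obtain ⟨i, hi, j, hj, hij⟩ := Submodule.mem_sup.1 h'
          refine ⟨Ideal.Quotient.mk _ (a - i), Prod.ext ?_ ?_⟩
          · exact Ideal.Quotient.eq.2 (show a - i - a ∈ I by simpa using hi)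
          · refine Ideal.Quotient.eq.2 (show a - i - b ∈ J from ?_)
            convert hj using 1
            linear_combination -hij
        · rintro ⟨c, hc⟩
          obtain ⟨c, rfl⟩ := Ideal.Quotient.mk_surjective c
          rw [← hc]
          exact add_neg_cancel (Ideal.Quotient.mk (I ⊔ J) c)
      · intro q
        obtain ⟨q, rfl⟩ := Ideal.Quotient.mk_surjective q
        exact ⟨(Ideal.Quotient.mk I q, 0), show Ideal.Quotient.mk (I ⊔ J) q + (-Submodule.factor le_sup_right) 0 = _ by simp⟩
      · intro q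
        obtain ⟨q, rfl⟩ := Ideal.Quotient.mk_surjective q
        show Ideal.Quotient.mk (I ⊔ J) (rankSum M * q) = 0
        rw [Ideal.Quotient.eq_zero_iff_mem]
        refine Ideal.mul_mem_right _ _ ?_
        rw [schubert_sup_union hd, mem_unionIdeal]
        intro ψ hψ
        obtain ⟨ψ, hψS, rfl⟩ := Finset.mem_image.1 hψ
        refine rankSum_mem_of_lt hd ?_
        have := (inf_mem_divisors hφ (hS' ψ hψS) fun e => hnot (e ▸ hψS)).2
        omega

theorem isCohenMacaulayRing_schubert [IsAlgClosed K] (hd : 0 < d) (τ : Idx d n) :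
    LocCoh.IsCohenMacaulayRing (PlRing K d n ⧸ schubertVanishing K d n τ) := by
  have hreg := regular_schubert_of_union (K := K) hd τ (regular_union hd _ τ rfl)
  rw [params_eq_ofFn] at hreg
  refine FreeCM.isCohenMacaulayRing (fun i : Fin (codeg τ + 1) => rankSum (codeg τ + 1 - 1 - i.val))
    _ (fun f hf m => homogeneousComponent_mem_schubert hd τ hf m)
    (fun i => rankSum_isHomogeneous _) hreg ?_ (le_of_eq (Dim.ringKrullDim_schubert hd τ))
  refine fun s => X_mem_radical hd τ le_sup_left (fun r hr => ?_) s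
  refine Ideal.mem_sup_right (Ideal.subset_span ⟨⟨codeg τ - r, by omega⟩, ?_⟩)
  show rankSum _ = rankSum r
  congr 1
  simp only
  omega

theorem isCohenMacaulayRing_union [IsAlgClosed K] (hd : 0 < d) (τ : Idx d n)
    (S : Finset (Idx d n)) (hS : ∀ φ ∈ S, φ ∈ divisors τ) :
    LocCoh.IsCohenMacaulayRing (PlRing K d n ⧸ unionIdeal (K := K) S) := by
  rcases S.eq_empty_or_nonempty with rfl | hne
  · have : Subsingleton (PlRing K d n ⧸ unionIdeal (K := K) (∅ : Finset (Idx d n))) :=
      Ideal.Quotient.subsingleton_iff.2 (Ideal.eq_top_iff_one _ |>.2 (mem_unionIdeal.2 (by simp)))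
    refine { isCohenMacaulayLocalRing_localization := fun p hp => ?_ }
    exact absurd (Ideal.eq_top_iff_one p |>.2 (Subsingleton.elim (0 : PlRing K d n ⧸ unionIdeal (K := K) (∅ : Finset (Idx d n))) 1 ▸ p.zero_mem))
      hp.ne_top
  have hreg := regular_union (K := K) hd _ τ rfl S hne hS
  rw [params_eq_ofFn] at hreg
  obtain ⟨φ, hφ⟩ := hne
  refine FreeCM.isCohenMacaulayRing (fun i : Fin (codeg τ) => rankSum (codeg τ - 1 - i.val))
    _ (fun f hf m => homogeneousComponent_mem_unionIdeal hd hf m)
    (fun i => rankSum_isHomogeneous _) hreg ?_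
    (ringKrullDim_unionIdeal_le hd S _ fun ψ hψ => (hS ψ hψ).2.le)
  intro s
  refine X_mem_radical hd τ ?_ (fun r hr => ?_) s
  · refine le_trans (fun f hf => ?_) le_sup_left
    exact mem_unionIdeal.2 fun ψ hψ => schubert_anti hd (hS ψ hψ).1.le hf
  · rcases hr.eq_or_lt with rfl | hlt
    · refine Ideal.mem_sup_left (mem_unionIdeal.2 fun ψ hψ => rankSum_mem_of_lt hd ?_)
      have := (hS ψ hψ).2
      omega
    · refine Ideal.mem_sup_right (Ideal.subset_span ⟨⟨codeg τ - 1 - r, by omega⟩, ?_⟩)
      show rankSum _ = rankSum r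
      congr 1
      simp only
      omega

end Groth.Agent.Lib.Grass.CM
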