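import Groth.Agent.Lib.Grass.Minors
import Mathlib.RingTheory.MvPolynomial.MonomialOrder
import Mathlib.Data.Finsupp.MonomialOrder
import Mathlib.Data.Prod.Lex
import Mathlib.Data.Fintype.Order
import Mathlib.Data.Fintype.Pi
import Mathlib.Algebra.MvPolynomial.Funext
import Mathlib.LinearAlgebra.Matrix.NonsingularInverse

/-!
# The triangular parametrisation of a Schubert variety and leading monomials of minors
-/

set_option linter.unusedSectionVars false

namespace Groth.Agent.Lib.Grass.Cell

open W4bk4grassmannian MvPolynomial Finset Minors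

universe u

variable {d n : ℕ}

/-- Variables of the parametrisation, ordered column first. -/
abbrev Var (d n : ℕ) := Fin d ×ₗ Fin n

/-- The ring of the parametrisation. -/
abbrev CRing (K : Type u) [CommRing K] (d n : ℕ) := MvPolynomial (Var d n) K

variable (K : Type u) [CommRing K]

/-- The generic matrix supported under the staircase of `τ`. -/
noncomputable def cellMat (τ : Idx d n) : Matrix (Fin n) (Fin d) (CRing K d n) :=
  Matrix.of fun i t => if i ≤ τ.1 t then X (toLex (t, i)) else 0

/-- The comorphism of the parametrisation. -/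
noncomputable def cellMap (τ : Idx d n) : PlRing K d n →ₐ[K] CRing K d n := evalAt (cellMat K τ)

variable {K}

/-- The exponent of the diagonal term of a minor. -/
noncomputable def diagExp (a : Fin d → Fin n) : Var d n →₀ ℕ :=
  ∑ t, Finsupp.single (toLex (t, a t)) 1

lemma diagExp_apply (a : Fin d → Fin n) (t : Fin d) (i : Fin n) :
    diagExp a (toLex (t, i)) = if a t = i then 1 else 0 := by
  rw [diagExp, Finsupp.finsetSum_apply, Finset.sum_eq_single t]
  · simp [Finsupp.single_apply]
  · intro s _ hs; simp [Finsupp.single_apply, hs]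
  · simp

lemma diagExp_injective : Function.Injective (diagExp : (Fin d → Fin n) → (Var d n →₀ ℕ)) := by
  intro a b h
  funext t
  have := DFunLike.congr_fun h (toLex (t, a t))
  rw [diagExp_apply, diagExp_apply, if_pos rfl] at this
  by_contra hc
  simp [Ne.symm hc] at this

lemma diagExp_comp_lt (φ : Idx d n) {σ : Equiv.Perm (Fin d)} (hσ : σ ≠ 1) :
    toLex (diagExp (φ.1 ∘ σ)) < toLex (diagExp φ.1) := by
  have hne : (univ.filter fun t => σ t ≠ t).Nonempty := by
    by_contra hc
    apply hσ
    ext t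
    by_contra ht
    exact hc ⟨t, by simpa [Fin.ext_iff] using ht⟩
  set t₀ := (univ.filter fun t => σ t ≠ t).min' hne
  have ht₀ : σ t₀ ≠ t₀ := by simpa using (univ.filter fun t => σ t ≠ t).min'_mem hne
  have hfix : ∀ t < t₀, σ t = t := fun t ht => by
    by_contra hc
    exact not_le.2 ht ((univ.filter fun t => σ t ≠ t).min'_le t (by simp [hc]))
  have hgt : t₀ < σ t₀ := by
    refine lt_of_le_of_ne (le_of_not_gt fun h => ?_) ht₀.symm
    exact ht₀ (σ.injective (hfix _ h))
  refine Finsupp.Lex.lt_iff.2 ⟨toLex (t₀, φ.1 t₀), fun v hv => ?_, ?_⟩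
  · obtain ⟨⟨t, i⟩, rfl⟩ := toLex.surjective v
    simp only [ofLex_toLex]
    rw [diagExp_apply, diagExp_apply]
    rcases Prod.Lex.toLex_lt_toLex.1 hv with h | ⟨h, h'⟩
    · simp [hfix t h]
    · simp only at h h'
      subst h
      rw [if_neg h'.ne', if_neg]
      exact (h'.trans (φ.2 hgt)).ne'
  · simp only [ofLex_toLex]
    rw [diagExp_apply, diagExp_apply, if_pos rfl, if_neg]
    · exact Nat.zero_lt_one
    · exact (φ.2 hgt).ne'

lemma mdet_cellMat_eq_zero (τ φ : Idx d n) (h : ¬ φ ≤ τ) : mdet (cellMat K τ) φ.1 = 0 := by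
  obtain ⟨t, ht⟩ : ∃ t, τ.1 t < φ.1 t := by
    by_contra hc
    simp only [not_exists, not_lt] at hc
    exact h hc
  rw [mdet, Matrix.det_apply]
  refine Finset.sum_eq_zero fun σ _ => ?_
  obtain ⟨s, hs, hσs⟩ : ∃ s, s ≤ t ∧ t ≤ σ s := by
    by_contra hc
    simp only [not_exists, not_and, not_le] at hc
    have := Finset.card_le_card_of_injOn σ (s := Finset.Iic t) (t := Finset.Iio t)
      (fun s hs => by simpa using hc s (by simpa using hs)) σ.injective.injOn
    simp at this
  rw [Finset.prod_eq_zero (mem_univ s) ?_, smul_zero]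
  have : τ.1 s < φ.1 (σ s) := (τ.2.monotone hs).trans_lt (ht.trans_le (φ.2.monotone hσs))
  simp [cellMat, not_le.2 this]

lemma term_cellMat (τ φ : Idx d n) (σ : Equiv.Perm (Fin d)) :
    ∏ t, (cellMat K τ).submatrix φ.1 id (σ t) t =
      if ∀ t, φ.1 (σ t) ≤ τ.1 t then monomial (diagExp (φ.1 ∘ σ)) 1 else 0 := by
  split_ifs with h
  · rw [diagExp, monomial_sum_one]
    refine Finset.prod_congr rfl fun t _ => ?_
    simp [cellMat, h t, X]
  · obtain ⟨t, ht⟩ := not_forall.1 h
    exact Finset.prod_eq_zero (mem_univ t) (by simp [cellMat, ht])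

lemma coeff_mdet_cellMat (τ φ : Idx d n) (e : Var d n →₀ ℕ) :
    coeff e (mdet (cellMat K τ) φ.1) = ∑ σ : Equiv.Perm (Fin d),
      if (∀ t, φ.1 (σ t) ≤ τ.1 t) ∧ diagExp (φ.1 ∘ σ) = e then ((σ.sign : ℤ) : K) else 0 := by
  rw [mdet, Matrix.det_apply, coeff_sum]
  refine Finset.sum_congr rfl fun σ _ => ?_
  rw [term_cellMat, Units.smul_def, zsmul_eq_mul, ← map_intCast (C : K →+* CRing K d n), coeff_C_mul]
  by_cases h1 : ∀ t, φ.1 (σ t) ≤ τ.1 t
  · by_cases h2 : diagExp (φ.1 ∘ σ) = e
    · simp [h1, h2]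
    · simp [h1, h2, coeff_monomial]
  · simp [h1]

lemma coeff_diag_cellMat (τ φ : Idx d n) (h : φ ≤ τ) :
    coeff (diagExp φ.1) (mdet (cellMat K τ) φ.1) = 1 := by
  rw [coeff_mdet_cellMat, Finset.sum_eq_single 1]
  · simp [h, show ∀ t, φ.1 t ≤ τ.1 t from h]
  · intro σ _ hσ
    rw [if_neg]
    rintro ⟨-, he⟩
    exact (diagExp_comp_lt φ hσ).ne (congrArg toLex he)
  · simp

/-- The monomial order. -/
noncomputable def ord : MonomialOrder (Var d n) := MonomialOrder.lex

lemma degree_mdet_cellMat [Nontrivial K] (τ φ : Idx d n) (h : φ ≤ τ) :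
    ord.degree (mdet (cellMat K τ) φ.1) = diagExp φ.1 := by
  refine ord.toSyn.injective (le_antisymm ?_ ?_)
  · rw [MonomialOrder.degree_le_iff]
    intro e he
    rw [mem_support_iff, coeff_mdet_cellMat] at he
    obtain ⟨σ, -, hσ⟩ := Finset.exists_ne_zero_of_sum_ne_zero he
    by_cases hc : (∀ t, φ.1 (σ t) ≤ τ.1 t) ∧ diagExp (φ.1 ∘ σ) = e
    · rw [← hc.2]
      rcases eq_or_ne σ 1 with rfl | hne
      · exact le_rfl
      · exact (diagExp_comp_lt φ hne).le
    · exact absurd (if_neg hc) hσ
  · exact MonomialOrder.le_degree (by rw [mem_support_iff, coeff_diag_cellMat τ φ h]; exact one_ne_zero)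

lemma leadingCoeff_mdet_cellMat [Nontrivial K] (τ φ : Idx d n) (h : φ ≤ τ) :
    ord.leadingCoeff (mdet (cellMat K τ) φ.1) = 1 := by
  rw [MonomialOrder.leadingCoeff, degree_mdet_cellMat τ φ h, coeff_diag_cellMat τ φ h]

lemma evalAt_comp {S T : Type*} [CommRing S] [CommRing T] [Algebra K S] [Algebra K T]
    (g : S →ₐ[K] T) (A : Matrix (Fin n) (Fin d) S) (f : PlRing K d n) :
    g (evalAt A f) = evalAt (A.map g) f := by
  change (g.comp (evalAt A)) f = _
  congr 1
  refine MvPolynomial.algHom_ext fun θ => ?_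
  simp only [AlgHom.comp_apply, evalAt_X]
  exact mdet_map (g : S →+* T) A θ.1

section field

variable {F : Type u} [Field F]

lemma exists_staircase (hd : 0 < d) (τ : Idx d n) (A : Matrix (Fin n) (Fin d) F)
    (hA : ∀ φ : Idx d n, ¬ φ ≤ τ → mdet A φ.1 = 0) :
    ∃ C : Matrix (Fin n) (Fin d) F, (∀ i t, τ.1 t < i → C i t = 0) ∧
      ∀ θ : Idx d n, mdet C θ.1 = mdet A θ.1 := by
  classical
  haveI : Nonempty (Fin d) := ⟨⟨0, hd⟩⟩
  by_cases hz : ∀ θ : Idx d n, mdet A θ.1 = 0
  · refine ⟨0, fun _ _ _ => rfl, fun θ => ?_⟩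
    rw [hz, mdet]; exact Matrix.det_zero
  obtain ⟨φ, hφ, hmax⟩ := Finset.exists_max_image
    (univ.filter fun θ : Idx d n => mdet A θ.1 ≠ 0) (fun θ => ∑ t, (θ.1 t).val)
    (by simpa [Finset.Nonempty] using hz)
  simp only [mem_filter, mem_univ, true_and] at hφ hmax
  have hle : φ ≤ τ := by_contra fun h => hφ (hA φ h)
  set P := A.submatrix φ.1 id
  have hP : IsUnit P.det := isUnit_iff_ne_zero.2 hφ
  set B := A * P⁻¹
  have hB1 : B.submatrix φ.1 id = 1 := by
    rw [Matrix.submatrix_mul A P⁻¹ _ _ id Function.bijective_id, Matrix.submatrix_id_id,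
      Matrix.mul_nonsing_inv P hP]
  have hB : ∀ a : Fin d → Fin n, mdet B a = mdet A a * (P⁻¹).det := fun a => by
    rw [mdet, mdet, Matrix.submatrix_mul A P⁻¹ _ _ id Function.bijective_id,
      Matrix.submatrix_id_id, Matrix.det_mul]
  have hstair : ∀ i t, φ.1 t < i → B i t = 0 := by
    intro i t hi
    by_cases hmem : ∃ s, φ.1 s = i
    · obtain ⟨s, rfl⟩ := hmem
      have : B (φ.1 s) t = (1 : Matrix (Fin d) (Fin d) F) s t := by rw [← hB1]; rfl
      rw [this, Matrix.one_apply_ne]
      rintro rfl; exact lt_irrefl _ hi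
    set a := Function.update φ.1 t i
    have ha : Function.Injective a := by
      intro x y hxy
      by_cases hx : x = t <;> by_cases hy : y = t
      · rw [hx, hy]
      · subst hx; simp [a, hy] at hxy; exact absurd ⟨y, hxy.symm⟩ hmem
      · subst hy; simp [a, hx] at hxy; exact absurd ⟨x, hxy⟩ hmem
      · simp [a, hx, hy] at hxy; exact φ.2.injective hxy
    have hcard : (univ.image a).card = d := by
      rw [card_image_of_injective _ ha, card_univ, Fintype.card_fin]
    obtain ⟨σ, hσ, -⟩ := exists_sort a hcard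
    have hI : mdet A (sortIdx d n a hcard).1 = 0 := by
      by_contra hI
      have := hmax _ hI
      have e : ∑ s, ((sortIdx d n a hcard).1 s).val = ∑ s, (a s).val := by
        conv_rhs => rw [← hσ]
        exact (Equiv.sum_comp σ fun s => ((sortIdx d n a hcard).1 s).val).symm
      have e2 : ∑ s, (φ.1 s).val < ∑ s, (a s).val := by
        refine Finset.sum_lt_sum (fun s _ => ?_) ⟨t, mem_univ _, by simpa [a] using hi⟩
        by_cases hs : s = t
        · subst hs; simpa [a] using hi.le
        · simp [a, hs]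
      omega
    have h0 : mdet B a = 0 := by rw [hB, ← hσ, mdet_comp_perm, hI]; simp
    have h1 : B.submatrix a id = (1 : Matrix (Fin d) (Fin d) F).updateRow t (B i) := by
      ext s c
      rw [Matrix.updateRow_apply, ← hB1]
      by_cases hs : s = t
      · subst hs; simp [a]
      · simp [a, hs]
    rw [mdet, h1] at h0
    have h2 := Matrix.det_updateRow_sum (1 : Matrix (Fin d) (Fin d) F) t (B i)
    have h3 : ∑ k, B i k • (1 : Matrix (Fin d) (Fin d) F) k = B i := by
      funext c; simp [Finset.sum_apply, Matrix.one_apply]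
    rw [h3, h0, Matrix.det_one, smul_eq_mul, mul_one] at h2
    exact h2.symm
  let D : Fin d → F := Function.update (fun _ => 1) ⟨0, hd⟩ P.det
  have hD : (Matrix.diagonal D).det = P.det := by
    rw [Matrix.det_diagonal, Finset.prod_update_of_mem (mem_univ _)]; simp
  refine ⟨B * Matrix.diagonal D, fun i t h => ?_, fun θ => ?_⟩
  · rw [Matrix.mul_diagonal, hstair i t ((hle t).trans_lt h), zero_mul]
  · rw [mdet, Matrix.submatrix_mul B _ _ _ id Function.bijective_id, Matrix.submatrix_id_id,
      Matrix.det_mul, hD, ← mdet, hB, Matrix.det_nonsing_inv, Ring.inverse_eq_inv', mul_assoc,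
      inv_mul_cancel₀ (show P.det ≠ 0 from hφ), mul_one]

lemma mem_schubertVanishing {τ : Idx d n} {f : PlRing F d n} :
    f ∈ schubertVanishing F d n τ ↔
      ∀ A : Matrix (Fin n) (Fin d) F, (∀ φ : Idx d n, ¬ φ ≤ τ → mdet A φ.1 = 0) →
        evalAt A f = 0 := by
  simp only [schubertVanishing, Submodule.mem_iInf, RingHom.mem_ker]
  rfl

theorem schubertVanishing_eq_ker [Infinite F] (hd : 0 < d) (τ : Idx d n) :
    schubertVanishing F d n τ = RingHom.ker (cellMap F τ) := by
  ext f
  rw [mem_schubertVanishing, RingHom.mem_ker]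
  constructor
  · intro h
    refine MvPolynomial.funext fun x => ?_
    rw [map_zero]
    have := evalAt_comp (MvPolynomial.aeval x : CRing F d n →ₐ[F] F) (cellMat F τ) f
    rw [MvPolynomial.aeval_eq_eval] at this
    rw [cellMap]
    refine this.trans (h _ fun φ hφ => ?_)
    rw [← mdet_map (R := CRing F d n) (eval x) (cellMat F τ), mdet_cellMat_eq_zero τ φ hφ, map_zero]
  · intro h A hA
    obtain ⟨C, hC, hminor⟩ := exists_staircase hd τ A hA
    set x : Var d n → F := fun v => C (ofLex v).2 (ofLex v).1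
    have e : (cellMat F τ).map (MvPolynomial.aeval x) = C := by
      ext i t
      simp only [Matrix.map_apply, cellMat, Matrix.of_apply]
      split_ifs with hit
      · simp [x]
      · simp [hC i t (not_le.1 hit)]
    have e2 : (evalAt A : PlRing F d n →ₐ[F] F) = evalAt C :=
      MvPolynomial.algHom_ext fun θ => by simp [hminor θ]
    rw [e2, ← e, ← evalAt_comp, ← cellMap, h, map_zero]

end field

end Groth.Agent.Lib.Grass.Cell
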