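import Groth.Agent.Lib.Grass.GradedVertex
import Groth.Agent.Lib.Grass.FreeCM
import Mathlib.RingTheory.MvPolynomial.Homogeneous
import Mathlib.Algebra.Module.Submodule.Union

/-!
# A cone is Cohen–Macaulay when it is so at its vertex
-/

set_option linter.unusedSectionVars false
set_option synthInstance.maxHeartbeats 200000

namespace Groth.Agent.Lib.Grass.ConeCM

open MvPolynomial LocCoh RingTheory.Sequence Groth.Agent.Lib.Depth

attribute [local instance] MvPolynomial.gradedAlgebra

universe u

variable {K : Type u} [Field K] {N : ℕ}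

/-- The vertex. -/
noncomputable abbrev vertex (K : Type u) [Field K] (N : ℕ) : Ideal (MvPolynomial (Fin N) K) :=
  RingHom.ker (constantCoeff : MvPolynomial (Fin N) K →+* K)

instance : (vertex K N).IsMaximal :=
  RingHom.ker_isMaximal_of_surjective _ fun c => ⟨C c, constantCoeff_C _ c⟩

/-- The local ring of the affine space at the vertex. -/
abbrev S₀ (K : Type u) [Field K] (N : ℕ) := Localization.AtPrime (vertex K N)

lemma coe_decompose (f : MvPolynomial (Fin N) K) (i : ℕ) :
    (DirectSum.decompose (homogeneousSubmodule (Fin N) K) f i : MvPolynomial (Fin N) K) =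
      homogeneousComponent i f :=
  decomposition.decompose'_apply f i

lemma irrelevant_eq : (HomogeneousIdeal.irrelevant (homogeneousSubmodule (Fin N) K)).toIdeal = vertex K N := by
  ext f
  rw [HomogeneousIdeal.mem_iff, HomogeneousIdeal.mem_irrelevant_iff, GradedRing.proj_apply, coe_decompose,
    homogeneousComponent_zero, RingHom.mem_ker, MvPolynomial.C_eq_zero]
  rfl

lemma exists_scalar (a : MvPolynomial (Fin N) K) (ha : a ∈ homogeneousSubmodule (Fin N) K 0) :
    ∃ c : K, algebraMap K (MvPolynomial (Fin N) K) c = a :=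
  ⟨coeff 0 a, by
    rw [MvPolynomial.algebraMap_eq, ← homogeneousComponent_zero,
      homogeneousComponent_eq_self ((mem_homogeneousSubmodule 0 a).1 ha)]⟩

/-- Cutting a Cohen–Macaulay local quotient by a regular element. -/
theorem step {S : Type u} [CommRing S] [IsNoetherianRing S] (a b : Ideal S) (x : S)
    (hb : b = a ⊔ Ideal.span {x}) [hcm : IsCohenMacaulayLocalRing (S ⧸ a)]
    (hx : Ideal.Quotient.mk a x ∈ IsLocalRing.maximalIdeal (S ⧸ a))
    (hreg : IsSMulRegular (S ⧸ a) (Ideal.Quotient.mk a x)) :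
    IsCohenMacaulayLocalRing (S ⧸ b) ∧ ringKrullDim (S ⧸ b) + 1 = ringKrullDim (S ⧸ a) := by
  subst hb
  let eq : ((S ⧸ a) ⧸ Ideal.span {Ideal.Quotient.mk a x}) ≃+* S ⧸ (a ⊔ Ideal.span {x}) :=
    (Ideal.quotEquivOfEq (by rw [Ideal.map_span, Set.image_singleton])).trans
      (DoubleQuot.quotQuotEquivQuotSup a (Ideal.span {x}))
  have : Nontrivial ((S ⧸ a) ⧸ Ideal.span {Ideal.Quotient.mk a x}) := Ideal.Quotient.nontrivial_iff.2
    fun h => (IsLocalRing.maximalIdeal.isMaximal (S ⧸ a)).ne_top
      (top_le_iff.1 (h ▸ (Ideal.span_singleton_le_iff_mem _).2 hx))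
  have : IsLocalRing ((S ⧸ a) ⧸ Ideal.span {Ideal.Quotient.mk a x}) :=
    IsLocalRing.of_surjective' (Ideal.Quotient.mk _) Ideal.Quotient.mk_surjective
  have := (CM.isCohenMacaulayLocalRing_quotient_span_singleton_iff hx hreg).2 hcm
  exact ⟨Excellent.Transport.isCohenMacaulayLocalRing_of_ringEquiv eq,
    ringKrullDim_eq_of_ringEquiv eq ▸ ringKrullDim_quotient_span_singleton_succ_eq_ringKrullDim hreg hx⟩

variable {I : Ideal (MvPolynomial (Fin N) K)}

lemma isHomogeneous_of_comp (hI : ∀ f ∈ I, ∀ m, homogeneousComponent m f ∈ I) :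
    I.IsHomogeneous (homogeneousSubmodule (Fin N) K) := fun i r hr => by
  rw [coe_decompose]; exact hI r hr i

lemma le_vertex (hI : ∀ f ∈ I, ∀ m, homogeneousComponent m f ∈ I) (hne : I ≠ ⊤) : I ≤ vertex K N :=
  irrelevant_eq (K := K) (N := N) ▸
    GradedVertex.le_irrelevant K _ exists_scalar (isHomogeneous_of_comp hI) hne

lemma mem_of_mul_mem (hI : ∀ f ∈ I, ∀ m, homogeneousComponent m f ∈ I) {s f : MvPolynomial (Fin N) K}
    (hs : s ∉ vertex K N) (h : s * f ∈ I) : f ∈ I := by
  classical
  suffices H : ∀ j, homogeneousComponent j f ∈ I by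
    rw [← sum_homogeneousComponent f]
    exact sum_mem fun j _ => H j
  intro j
  induction j using Nat.strong_induction_on with
  | _ j ih =>
    set g := f - ∑ i ∈ Finset.range j, homogeneousComponent i f
    have hg : s * g ∈ I := by
      rw [mul_sub, Finset.mul_sum]
      exact sub_mem h (sum_mem fun i hi => I.mul_mem_left _ (ih i (Finset.mem_range.1 hi)))
    have hcg : ∀ e : Fin N →₀ ℕ, coeff e g = if e.degree < j then 0 else coeff e f := fun e => by
      rw [coeff_sub, coeff_sum]
      simp only [coeff_homogeneousComponent, Finset.sum_ite_eq, Finset.mem_range]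
      split_ifs <;> simp
    have heq : homogeneousComponent j (s * g) = constantCoeff s • homogeneousComponent j f := by
      ext e
      rw [coeff_homogeneousComponent, coeff_smul, coeff_homogeneousComponent, smul_eq_mul]
      split_ifs with he
      · rw [coeff_mul, Finset.sum_eq_single (0, e)]
        · dsimp only
          rw [hcg, if_neg (by omega)]
          rfl
        · rintro ⟨a, b⟩ hab hne
          rw [Finset.HasAntidiagonal.mem_antidiagonal] at hab
          dsimp only at hab
          have ha : a ≠ 0 := fun h => hne (by subst h; simp [← hab])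
          have hlt : b.degree < j := by
            rw [← he, ← hab, map_add]
            have : 0 < a.degree := Nat.pos_of_ne_zero fun h => ha ((Finsupp.degree_eq_zero_iff a).1 h)
            omega
          simp [hcg, hlt]
        · intro h; simp at h
      · rw [mul_zero]
    have hmem := hI _ hg j
    rw [heq] at hmem
    have := Submodule.smul_of_tower_mem I (constantCoeff s)⁻¹ hmem
    rwa [inv_smul_smul₀ (show constantCoeff s ≠ 0 from hs)] at this

variable (I) in
/-- The local ring of the cone at its vertex. -/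
abbrev Q := S₀ K N ⧸ I.map (algebraMap (MvPolynomial (Fin N) K) (S₀ K N))

variable (I) in
/-- The map to the local ring at the vertex. -/
noncomputable def toQ : (MvPolynomial (Fin N) K ⧸ I) →+* Q I :=
  Ideal.Quotient.lift I ((Ideal.Quotient.mk _).comp (algebraMap _ (S₀ K N))) fun _ hx =>
    Ideal.Quotient.eq_zero_iff_mem.2 (Ideal.mem_map_of_mem _ hx)

lemma toQ_injective (hI : ∀ f ∈ I, ∀ m, homogeneousComponent m f ∈ I) : Function.Injective (toQ I) := by
  rw [injective_iff_map_eq_zero]
  intro z hz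
  obtain ⟨f, rfl⟩ := Ideal.Quotient.mk_surjective z
  simp only [toQ, Ideal.Quotient.lift_mk, RingHom.comp_apply, Ideal.Quotient.eq_zero_iff_mem] at hz ⊢
  obtain ⟨s, hs, hsf⟩ := (IsLocalization.algebraMap_mem_map_algebraMap_iff (vertex K N).primeCompl _ _ _).1 hz
  exact mem_of_mul_mem hI hs hsf

lemma ringKrullDim_Q (hI : ∀ f ∈ I, ∀ m, homogeneousComponent m f ∈ I) (hne : I ≠ ⊤) :
    ringKrullDim (Q I) = ringKrullDim (MvPolynomial (Fin N) K ⧸ I) := by
  have hle := le_vertex hI hne
  have : ((vertex K N).map (Ideal.Quotient.mk I)).IsPrime :=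
    Ideal.map_isPrime_of_surjective Ideal.Quotient.mk_surjective (Ideal.mk_ker.le.trans hle)
  obtain ⟨eq⟩ := GradedVertex.quotLocEquiv I (vertex K N) hle
  rw [ringKrullDim_eq_of_ringEquiv eq]
  have key : ∀ P : Ideal (MvPolynomial (Fin N) K), P = (HomogeneousIdeal.irrelevant (homogeneousSubmodule (Fin N) K)).toIdeal →
      ∀ [hP : (P.map (Ideal.Quotient.mk I)).IsPrime],
      ringKrullDim (Localization.AtPrime (P.map (Ideal.Quotient.mk I))) = ringKrullDim (MvPolynomial (Fin N) K ⧸ I) := by
    rintro P rfl hP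
    exact GradedVertex.ringKrullDim_vertex K _ exists_scalar (isHomogeneous_of_comp hI) hne
  exact key _ irrelevant_eq.symm

lemma exists_linear_regular [Infinite K] (hI : ∀ f ∈ I, ∀ m, homogeneousComponent m f ∈ I)
    (hne : I ≠ ⊤) [IsCohenMacaulayLocalRing (Q I)] (hdim : 1 ≤ ringKrullDim (Q I)) :
    ∃ θ : MvPolynomial (Fin N) K, θ.IsHomogeneous 1 ∧ IsSMulRegular (MvPolynomial (Fin N) K ⧸ I) θ ∧
      IsSMulRegular (Q I) (toQ I (Ideal.Quotient.mk I θ)) ∧
      toQ I (Ideal.Quotient.mk I θ) ∈ IsLocalRing.maximalIdeal (Q I) := by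
  classical
  set ev : (Fin N → K) →ₗ[K] MvPolynomial (Fin N) K := Fintype.linearCombination K fun i => X i
  let f : MvPolynomial (Fin N) K →+* Q I := (Ideal.Quotient.mk _).comp (algebraMap _ (S₀ K N))
  have hcomap : (IsLocalRing.maximalIdeal (Q I)).comap f = vertex K N := by
    refine ((inferInstance : (vertex K N).IsMaximal).eq_of_le ?_ ?_).symm
    · exact Ideal.IsPrime.ne_top inferInstance
    · intro x hx
      show f x ∈ IsLocalRing.maximalIdeal (Q I)
      rw [IsLocalRing.mem_maximalIdeal]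
      intro hu
      obtain ⟨y, hy⟩ := hu.exists_right_inv
      obtain ⟨y, rfl⟩ := Ideal.Quotient.mk_surjective y
      have h1 : (algebraMap _ (S₀ K N) x) * y - 1 ∈ I.map (algebraMap _ (S₀ K N)) :=
        Ideal.Quotient.eq.1 (by rw [map_mul, map_one]; exact hy)
      have h2 : I.map (algebraMap _ (S₀ K N)) ≤ IsLocalRing.maximalIdeal (S₀ K N) :=
        Ideal.map_le_iff_le_comap.2 fun z hz =>
          (IsLocalization.AtPrime.to_map_mem_maximal_iff (S₀ K N) (vertex K N) z).2 (le_vertex hI hne hz)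
      have h3 := (IsLocalRing.maximalIdeal (S₀ K N)).sub_mem
        (Ideal.mul_mem_right y _ ((IsLocalization.AtPrime.to_map_mem_maximal_iff (S₀ K N) (vertex K N) x).2 hx)) (h2 h1)
      rw [sub_sub_cancel] at h3
      exact (IsLocalRing.maximalIdeal.isMaximal (S₀ K N)).ne_top ((Ideal.eq_top_iff_one _).2 h3)
  have hdepth : depth (Q I) (Q I) ≠ 0 := fun h => by
    rw [CM.ringKrullDim_eq_depth (R := Q I), h] at hdim
    exact absurd hdim (by norm_num)
  set A := associatedPrimes (Q I) (Q I)
  have : Finite A := (associatedPrimes.finite (Q I) (Q I)).to_subtype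
  let p : A → Submodule K (Fin N → K) := fun P => ((P.1.comap f).restrictScalars K).comap ev
  have hp : ∀ P, p P ≠ ⊤ := by
    intro P htop
    have hPp : P.1.IsPrime := IsAssociatedPrime.isPrime P.2
    have hX : ∀ i, (X i : MvPolynomial (Fin N) K) ∈ P.1.comap f := fun i => by
      have : (Pi.single i 1 : Fin N → K) ∈ p P := htop ▸ Submodule.mem_top
      simpa [p, ev, Fintype.linearCombination_apply_single] using this
    have hle : vertex K N ≤ P.1.comap f := fun g hg => by
      rw [g.as_sum]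
      refine sum_mem fun e he => ?_
      have he0 : e ≠ 0 := by
        rintro rfl
        exact mem_support_iff.1 he hg
      obtain ⟨i, hi⟩ : ∃ i, e i ≠ 0 := by
        by_contra hc
        exact he0 (Finsupp.ext fun i => by simpa using not_exists.1 hc i)
      refine Ideal.mem_of_dvd _ (MvPolynomial.X_dvd_monomial.2 (Or.inr hi)) (hX i)
    have heq : P.1.comap f = vertex K N :=
      ((inferInstance : (vertex K N).IsMaximal).eq_of_le (Ideal.IsPrime.ne_top inferInstance) hle).symm
    refine hdepth ((Assoc.depth_eq_zero_iff _).2 ?_)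
    have : IsLocalRing.maximalIdeal (Q I) ≤ P.1 := by
      intro z hz
      obtain ⟨z, rfl⟩ := Ideal.Quotient.mk_surjective z
      obtain ⟨⟨a, s⟩, rfl⟩ := IsLocalization.mk'_surjective (S := S₀ K N) (vertex K N).primeCompl z
      have hs : Ideal.Quotient.mk (I.map (algebraMap _ (S₀ K N))) (IsLocalization.mk' _ a s) * f s = f a := by
        show _ * Ideal.Quotient.mk _ _ = Ideal.Quotient.mk _ _
        rw [← map_mul, IsLocalization.mk'_spec]
      have ha : a ∈ vertex K N := by
        rw [← hcomap, Ideal.mem_comap, ← hs]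
        exact Ideal.mul_mem_right _ _ hz
      have : f a ∈ P.1 := (heq.ge ha :)
      rw [← hs] at this
      exact (hPp.mem_or_mem this).resolve_right fun h => s.2 (heq.le h)
    have hP2 := P.2
    rwa [← (IsLocalRing.maximalIdeal.isMaximal (Q I)).eq_of_le hPp.ne_top this] at hP2
  obtain ⟨c, hc⟩ := Submodule.exists_forall_notMem_of_forall_ne_top p hp
  have hhom : (ev c).IsHomogeneous 1 := by
    simp only [ev, Fintype.linearCombination_apply, MvPolynomial.smul_eq_C_mul]
    exact IsHomogeneous.sum _ _ _ fun i _ => IsHomogeneous.C_mul (isHomogeneous_X K i) _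
  have hreg : IsSMulRegular (Q I) (toQ I (Ideal.Quotient.mk I (ev c))) := by
    by_contra h
    have : toQ I (Ideal.Quotient.mk I (ev c)) ∈ ⋃ P ∈ associatedPrimes (Q I) (Q I), (P : Set (Q I)) := by
      exact (biUnion_associatedPrimes_eq_compl_regular (Q I) (Q I)).ge h
    obtain ⟨P, hP, hmem⟩ := Set.mem_iUnion₂.1 this
    exact hc ⟨P, hP⟩ hmem
  refine ⟨ev c, hhom, ?_, hreg, ?_⟩
  · refine isSMulRegular_iff_right_eq_zero_of_smul.2 fun z hz => toQ_injective hI ?_
    rw [map_zero]
    refine hreg.right_eq_zero_of_smul ?_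
    rw [smul_eq_mul, ← map_mul]
    obtain ⟨z, rfl⟩ := Ideal.Quotient.mk_surjective z
    exact (congrArg (toQ I) hz).trans (map_zero _)
  · show f (ev c) ∈ _
    rw [← Ideal.mem_comap, hcomap, RingHom.mem_ker, constantCoeff_eq]
    exact hhom.coeff_eq_zero (by simp)

/-- The quotient by one more element. -/
noncomputable def quotSMulTopEquiv (I : Ideal (MvPolynomial (Fin N) K)) (θ : MvPolynomial (Fin N) K) :
    QuotSMulTop θ (MvPolynomial (Fin N) K ⧸ I) ≃ₗ[MvPolynomial (Fin N) K]
      MvPolynomial (Fin N) K ⧸ (I ⊔ Ideal.span {θ}) := by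
  let g : MvPolynomial (Fin N) K →ₗ[MvPolynomial (Fin N) K] QuotSMulTop θ (MvPolynomial (Fin N) K ⧸ I) :=
    (Submodule.mkQ _).comp (Submodule.mkQ I)
  have hg : Function.Surjective g := (Submodule.mkQ_surjective _).comp (Submodule.mkQ_surjective _)
  refine ((g.quotKerEquivOfSurjective hg).symm.trans (Submodule.quotEquivOfEq _ _ ?_))
  ext x
  simp only [g, LinearMap.mem_ker, LinearMap.comp_apply, Submodule.mkQ_apply, Submodule.Quotient.mk_eq_zero,
    Submodule.mem_smul_pointwise_iff_exists]
  constructor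
  · rintro ⟨z, -, hz⟩
    obtain ⟨z, rfl⟩ := Submodule.Quotient.mk_surjective _ z
    rw [← Submodule.Quotient.mk_smul, Submodule.Quotient.eq] at hz
    have : x = θ * z - (θ • z - x) := by rw [smul_eq_mul]; ring
    rw [this]
    exact sub_mem (Submodule.mem_sup_right (Ideal.mem_span_singleton'.2 ⟨z, mul_comm _ _⟩)) (Submodule.mem_sup_left hz)
  · intro hx
    obtain ⟨i, hi, y, hy, rfl⟩ := Submodule.mem_sup.1 hx
    obtain ⟨z, rfl⟩ := Ideal.mem_span_singleton'.1 hy
    refine ⟨Submodule.Quotient.mk z, trivial, ?_⟩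
    rw [← Submodule.Quotient.mk_smul, Submodule.Quotient.eq, smul_eq_mul,
      show θ * z - (i + z * θ) = -i by ring]
    exact I.neg_mem hi

lemma comp_mem_sup (hI : ∀ f ∈ I, ∀ m, homogeneousComponent m f ∈ I) {θ : MvPolynomial (Fin N) K}
    (hθ : θ.IsHomogeneous 1) : ∀ f ∈ I ⊔ Ideal.span {θ}, ∀ m, homogeneousComponent m f ∈ I ⊔ Ideal.span {θ} := by
  intro f hf m
  obtain ⟨a, ha, b, hb, rfl⟩ := Submodule.mem_sup.1 hf
  obtain ⟨g, rfl⟩ := Ideal.mem_span_singleton'.1 hb
  rw [map_add]
  refine add_mem (Submodule.mem_sup_left (hI a ha m)) (Submodule.mem_sup_right ?_)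
  match m with
  | 0 => rw [(FreeCM.homogeneousComponent_mul_linear hθ 0).2]; exact zero_mem _
  | m + 1 =>
    rw [(FreeCM.homogeneousComponent_mul_linear hθ m).1]
    exact Ideal.mul_mem_left _ _ (Ideal.mem_span_singleton_self θ)

theorem exists_params [Infinite K] : ∀ (k : ℕ) (I : Ideal (MvPolynomial (Fin N) K)),
    (∀ f ∈ I, ∀ m, homogeneousComponent m f ∈ I) → I ≠ ⊤ → IsCohenMacaulayLocalRing (Q I) →
    ringKrullDim (Q I) = (k : WithBot ℕ∞) →
    ∃ θ : Fin k → MvPolynomial (Fin N) K, (∀ i, (θ i).IsHomogeneous 1) ∧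
      IsWeaklyRegular (MvPolynomial (Fin N) K ⧸ I) (List.ofFn θ) ∧
      ∀ s, X s ∈ (I ⊔ Ideal.span (Set.range θ)).radical := by
  intro k
  induction k with
  | zero =>
    intro I hI hne _ hdim
    refine ⟨Fin.elim0, fun i => i.elim0, by simp, fun s => ?_⟩
    rw [Set.range_eq_empty, Ideal.span_empty, sup_bot_eq, Ideal.radical_eq_sInf, Submodule.mem_sInf]
    intro P hP'
    obtain ⟨hIP, hP⟩ : I ≤ P ∧ Ideal.IsPrime P := hP'
    have hvm := le_vertex hI hne
    have hB : Ring.KrullDimLE 0 (MvPolynomial (Fin N) K ⧸ I) := by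
      rw [Ring.krullDimLE_iff, ← ringKrullDim_Q hI hne, hdim]
    set C := (Ideal.homogeneousCore (homogeneousSubmodule (Fin N) K) P).toIdeal
    have hCp : C.IsPrime := hP.homogeneousCore
    have hIC : I ≤ C := (isHomogeneous_of_comp hI).toIdeal_homogeneousCore_eq_self.symm.trans_le
      (Ideal.homogeneousCore_mono _ hIP)
    have hCv : C ≤ vertex K N := irrelevant_eq (K := K) (N := N) ▸
      GradedVertex.le_irrelevant K _ exists_scalar (Ideal.homogeneousCore (homogeneousSubmodule (Fin N) K) P).isHomogeneous hCp.ne_top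
    have hC' : (C.map (Ideal.Quotient.mk I)).IsPrime :=
      Ideal.map_isPrime_of_surjective Ideal.Quotient.mk_surjective (Ideal.mk_ker.le.trans hIC)
    have hm := Ideal.isMaximal_of_isPrime (C.map (Ideal.Quotient.mk I))
    have hCeq : C = vertex K N := by
      have h2 : C.IsMaximal := by
        have := Ideal.comap_isMaximal_of_surjective (Ideal.Quotient.mk I) Ideal.Quotient.mk_surjective (K := C.map (Ideal.Quotient.mk I))
        rwa [Ideal.comap_map_of_surjective _ Ideal.Quotient.mk_surjective,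
          ← RingHom.ker_eq_comap_bot, Ideal.mk_ker, sup_eq_left.2 hIC] at this
      exact h2.eq_of_le (Ideal.IsPrime.ne_top inferInstance) hCv
    exact Ideal.toIdeal_homogeneousCore_le _ P (hCeq.ge (show X s ∈ vertex K N by rw [RingHom.mem_ker, constantCoeff_X]) :)
  | succ k ih =>
    intro I hI hne hcm hdim
    obtain ⟨t, ht, htreg, htQ, htmem⟩ := exists_linear_regular hI hne (by rw [hdim]; norm_cast; omega)
    set I' := I ⊔ Ideal.span {t}
    have hI' := comp_mem_sup hI ht
    have hne' : I' ≠ ⊤ := by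
      refine ne_top_of_le_ne_top (Ideal.IsPrime.ne_top (inferInstance : (vertex K N).IsPrime)) (sup_le (le_vertex hI hne) ?_)
      rw [Ideal.span_singleton_le_iff_mem, RingHom.mem_ker, constantCoeff_eq]
      exact ht.coeff_eq_zero (by simp)
    obtain ⟨hcm', hd'⟩ := step (I.map (algebraMap _ (S₀ K N))) (I'.map (algebraMap _ (S₀ K N)))
      (algebraMap _ (S₀ K N) t) (by rw [Ideal.map_sup, Ideal.map_span, Set.image_singleton])
      (hcm := hcm) htmem htQ
    have hdim' : ringKrullDim (Q I') = (k : WithBot ℕ∞) := by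
      rw [hdim, Nat.cast_succ] at hd'
      exact ENat.WithBot.add_one_cancel.1 hd'
    obtain ⟨θ, hθ, hreg, hrad⟩ := ih I' hI' hne' hcm' hdim'
    refine ⟨Fin.cons t θ, fun i => Fin.cases ht hθ i, ?_, fun s => ?_⟩
    · rw [List.ofFn_succ]
      simp only [Fin.cons_zero, Fin.cons_succ]
      rw [isWeaklyRegular_cons_iff]
      exact ⟨htreg, ((quotSMulTopEquiv I t).isWeaklyRegular_congr _).2 hreg⟩
    · rw [Fin.range_cons, Ideal.span_insert, ← sup_assoc]
      exact hrad s

theorem isCohenMacaulayRing_of_vertex [IsAlgClosed K] (hI : ∀ f ∈ I, ∀ m, homogeneousComponent m f ∈ I)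
    (hne : I ≠ ⊤) [hm : ((vertex K N).map (Ideal.Quotient.mk I)).IsPrime]
    (h : IsCohenMacaulayLocalRing (Localization.AtPrime ((vertex K N).map (Ideal.Quotient.mk I)))) :
    IsCohenMacaulayRing (MvPolynomial (Fin N) K ⧸ I) := by
  obtain ⟨eq⟩ : Nonempty (Q I ≃+* Localization.AtPrime ((vertex K N).map (Ideal.Quotient.mk I))) :=
    GradedVertex.quotLocEquiv I (vertex K N) (le_vertex hI hne)
  have hQ : IsCohenMacaulayLocalRing (Q I) := Excellent.Transport.isCohenMacaulayLocalRing_of_ringEquiv
    (R := Localization.AtPrime ((vertex K N).map (Ideal.Quotient.mk I))) eq.symm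
  have hd := CM.ringKrullDim_eq_depth (R := Q I)
  have hfin : depth (Q I) (Q I) ≠ ⊤ := Assoc.depth_ne_top (Q I)
  obtain ⟨k, hk⟩ := ENat.ne_top_iff_exists.1 hfin
  rw [← hk] at hd
  obtain ⟨θ, hθ, hreg, hrad⟩ := exists_params k I hI hne hQ hd
  exact FreeCM.isCohenMacaulayRing θ I hI hθ hreg hrad ((ringKrullDim_Q hI hne).symm.le.trans hd.le)

end Groth.Agent.Lib.Grass.ConeCM
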