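import Groth.Agent.Lib.Grass.Degeneration

/-!
# The Hibi and Stanley–Reisner degenerations of a Schubert cone
-/

set_option linter.unusedSectionVars false

namespace Groth.Agent.Lib.Grass.DegenSchubert

open W4bk4grassmannian MvPolynomial Finset Minors Straighten Basis Ideals StraightenShape Degeneration

universe u

variable {d n : ℕ} {w : Idx d n}

/-- The weight of the Hibi degeneration. -/
def eHibi (θ : Below w) : ℕ := ∑ i : Fin n, (d ^ 2 - numLE θ.1.1 i ^ 2)

/-- The weight of the Stanley–Reisner degeneration. -/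
def eSR (θ : Below w) : ℕ := (d * n) ^ 2 - wt θ.1.1 ^ 2

lemma numLE_le (a : Fin d → Fin n) (i : Fin n) : numLE a i ≤ d := by
  simpa [numLE] using (card_filter_le univ fun t => a t ≤ i).trans (by simp)

lemma numLE_sup_eq_min (τ φ : Idx d n) (i : Fin n) :
    numLE (W4bk4grassmannian.sup τ φ).1 i = min (numLE τ.1 i) (numLE φ.1 i) := by
  have hseg : ∀ θ : Idx d n, (univ.filter fun t => θ.1 t ≤ i) = univ.filter fun t : Fin d => t.val < numLE θ.1 i := by
    intro θ
    ext t
    simp only [mem_filter, mem_univ, true_and]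
    constructor
    · intro h
      have := card_le_card (show Finset.Iic t ⊆ univ.filter fun s => θ.1 s ≤ i from fun s hs => by
        simpa using (θ.2.monotone (mem_Iic.1 hs)).trans h)
      rw [Fin.card_Iic] at this
      exact this
    · intro h
      by_contra hc
      have := card_le_card (show (univ.filter fun s => θ.1 s ≤ i) ⊆ Finset.Iio t from fun s hs => by
        rw [mem_Iio]
        by_contra hts
        exact hc ((θ.2.monotone (not_lt.1 hts)).trans (by simpa using hs)))
      rw [Fin.card_Iio] at this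
      exact absurd h (not_lt.2 this)
  have h : (univ.filter fun t => (W4bk4grassmannian.sup τ φ).1 t ≤ i) =
      univ.filter fun t : Fin d => t.val < min (numLE τ.1 i) (numLE φ.1 i) := by
    rw [show (univ.filter fun t => (W4bk4grassmannian.sup τ φ).1 t ≤ i) =
      (univ.filter fun t => τ.1 t ≤ i) ∩ (univ.filter fun t => φ.1 t ≤ i) by
        ext t; simp [W4bk4grassmannian.sup], hseg, hseg]
    ext t
    simp
  show (univ.filter _).card = _
  rw [h, Fin.card_filter_val_lt]
  exact min_eq_right ((min_le_left _ _).trans (numLE_le _ _))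

lemma numLE_sum {a b α β : Idx d n} (h : ∀ g, cont g α.1 + cont g β.1 = cont g a.1 + cont g b.1) (i : Fin n) :
    numLE α.1 i + numLE β.1 i = numLE a.1 i + numLE b.1 i := by
  simp only [numLE_eq_cont, h]

lemma eHibi_sup_inf (a b : Below w) :
    eHibi (Below.sup a b) + eHibi (Below.inf a b) = eHibi a + eHibi b := by
  simp only [eHibi, ← sum_add_distrib]
  refine sum_congr rfl fun i _ => ?_
  have h1 : numLE (Below.sup a b).1.1 i = min (numLE a.1.1 i) (numLE b.1.1 i) := numLE_sup_eq_min a.1 b.1 i
  have h2 : numLE (Below.sup a b).1.1 i + numLE (Below.inf a b).1.1 i = numLE a.1.1 i + numLE b.1.1 i := by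
    simp only [numLE_eq_cont, Below.sup, Below.inf, cont_sup_add_inf]
  rcases le_total (numLE a.1.1 i) (numLE b.1.1 i) with h | h
  · rw [min_eq_left h] at h1
    rw [h1, show numLE (Below.inf a b).1.1 i = numLE b.1.1 i by omega]
  · rw [min_eq_right h] at h1
    rw [h1, show numLE (Below.inf a b).1.1 i = numLE a.1.1 i by omega, add_comm]

lemma eHibi_lt {a b α β : Below w} (h : Strict a b α β) : eHibi α + eHibi β < eHibi a + eHibi b := by
  rw [← eHibi_sup_inf a b]
  simp only [eHibi, ← sum_add_distrib]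
  have key : ∀ i : Fin n, numLE α.1.1 i ≤ numLE (Below.sup a b).1.1 i ∧
      numLE (Below.sup a b).1.1 i ≤ numLE (Below.inf a b).1.1 i ∧
      numLE α.1.1 i + numLE β.1.1 i = numLE (Below.sup a b).1.1 i + numLE (Below.inf a b).1.1 i := by
    intro i
    refine ⟨numLE_anti (show (Below.sup a b).1 ≤ α.1 from h.2.1.le) i,
      numLE_anti (show (Below.inf a b).1 ≤ (Below.sup a b).1 from fun t => min_le_max) i, ?_⟩
    rw [numLE_sum h.2.2.2 i]
    simp only [numLE_eq_cont, Below.sup, Below.inf, cont_sup_add_inf]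
  obtain ⟨i₀, hi₀⟩ : ∃ i, numLE α.1.1 i < numLE (Below.sup a b).1.1 i := by
    by_contra hc
    simp only [not_exists, not_lt] at hc
    exact not_le_of_gt h.2.1 (le_of_numLE (a := α.1) (b := W4bk4grassmannian.sup a.1 b.1) hc)
  refine sum_lt_sum (fun i _ => ?_) ⟨i₀, mem_univ _, ?_⟩
  · obtain ⟨h1, h2, h3⟩ := key i
    have := Nat.pow_le_pow_left (numLE_le α.1.1 i) 2
    have := Nat.pow_le_pow_left (numLE_le β.1.1 i) 2
    have := Nat.pow_le_pow_left (numLE_le (Below.sup a b).1.1 i) 2
    have := Nat.pow_le_pow_left (numLE_le (Below.inf a b).1.1 i) 2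
    have : numLE (Below.sup a b).1.1 i ^ 2 + numLE (Below.inf a b).1.1 i ^ 2 ≤
        numLE α.1.1 i ^ 2 + numLE β.1.1 i ^ 2 := by nlinarith
    omega
  · obtain ⟨h1, h2, h3⟩ := key i₀
    have := Nat.pow_le_pow_left (numLE_le α.1.1 i₀) 2
    have := Nat.pow_le_pow_left (numLE_le β.1.1 i₀) 2
    have := Nat.pow_le_pow_left (numLE_le (Below.sup a b).1.1 i₀) 2
    have := Nat.pow_le_pow_left (numLE_le (Below.inf a b).1.1 i₀) 2
    have : numLE (Below.sup a b).1.1 i₀ ^ 2 + numLE (Below.inf a b).1.1 i₀ ^ 2 <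
        numLE α.1.1 i₀ ^ 2 + numLE β.1.1 i₀ ^ 2 := by nlinarith
    omega

lemma eSR_lt_of_up {a b α β : Below w} (h : Up a b α β) : eSR α + eSR β < eSR a + eSR b := by
  obtain ⟨h1, h2, h3⟩ := h
  have := Nat.pow_le_pow_left (wt_le a.1.1) 2
  have := Nat.pow_le_pow_left (wt_le b.1.1) 2
  have := Nat.pow_le_pow_left (wt_le α.1.1) 2
  have := Nat.pow_le_pow_left (wt_le β.1.1) 2
  have : wt a.1.1 ^ 2 + wt b.1.1 ^ 2 < wt α.1.1 ^ 2 + wt β.1.1 ^ 2 := by nlinarith
  simp only [eSR]
  omega

variable (K : Type u) [Field K]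

lemma hibiIdeal_eq : hibiIdeal K w = limIdeal (1 : K) w := by
  refine le_antisymm (Ideal.span_le.2 ?_) (Ideal.span_le.2 ?_)
  · rintro _ ⟨a, b, rfl⟩
    by_cases h1 : a ≤ b
    · have hs : Below.sup a b = b := Subtype.ext (Subtype.ext (funext fun t => max_eq_right (h1 t)))
      have hi : Below.inf a b = a := Subtype.ext (Subtype.ext (funext fun t => min_eq_left (h1 t)))
      rw [hs, hi, mul_comm, sub_self]
      exact zero_mem _
    by_cases h2 : b ≤ a
    · have hs : Below.sup a b = a := Subtype.ext (Subtype.ext (funext fun t => max_eq_left (h2 t)))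
      have hi : Below.inf a b = b := Subtype.ext (Subtype.ext (funext fun t => min_eq_right (h2 t)))
      rw [hs, hi, sub_self]
      exact zero_mem _
    exact Ideal.subset_span ⟨a, b, h1, h2, by rw [map_one, one_mul]⟩
  · rintro _ ⟨a, b, -, -, rfl⟩
    exact Ideal.subset_span ⟨a, b, by rw [map_one, one_mul]⟩

lemma srIdeal_eq : srIdeal K w = limIdeal (0 : K) w := by
  refine congrArg Ideal.span (Set.ext fun f => ?_)
  simp only [map_zero, zero_mul, sub_zero]

variable [Infinite K]

/-- The classes of the coordinates. -/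
noncomputable def coordClass (θ : Below w) : PlRing K d n ⧸ schubertVanishing K d n w :=
  Ideal.Quotient.mk (schubertVanishing K d n w) (X θ.1)

lemma linearIndependent_coordClass (hd : 0 < d) : LinearIndependent K (stdProd (coordClass K (w := w))) := by
  have h := linearIndependent_mk_chainMon (K := K) hd (schubertVanishing K d n w) {w}
    (by rintro _ rfl; exact (Cell.schubertVanishing_eq_ker hd _).le)
    (fun c : Std w => (⟨c.1, fun i => (c.2.1 i).1⟩ : Σ m, Fin m → Idx d n)) ?_
    (fun c => c.2.2) (fun c => ⟨w, rfl, fun i => (c.2.1 i).2⟩)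
  · have he : stdProd (coordClass K (w := w)) = fun c : Std w =>
        Ideal.Quotient.mk (schubertVanishing K d n w) (chainMon K fun i => (c.2.1 i).1) := by
      funext c
      simp [stdProd, coordClass, chainMon]
    rw [he]
    exact h
  · rintro ⟨m, c, hc⟩ ⟨m', c', hc'⟩ hh
    simp only [Sigma.mk.injEq] at hh
    obtain ⟨rfl, hh⟩ := hh
    obtain rfl : c = c' := funext fun i => Subtype.ext (congrFun (eq_of_heq hh) i)
    rfl

lemma span_coordClass (hd : 0 < d) : Submodule.span K (Set.range (stdProd (coordClass K (w := w)))) = ⊤ := by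
  have h : Straighten.stdSpan (schubertVanishing K d n w) (fun φ => φ ≤ w) = ⊤ :=
    stdSpan_eq_top (fun i j r hp => plIdealTop_le hd w (Ideal.subset_span ⟨i, j, r, hp, rfl⟩))
      (fun φ hφ => (X_mem_schubert_iff hd).2 hφ)
  rw [eq_top_iff, ← h, Straighten.stdSpan, Submodule.span_le]
  rintro _ ⟨⟨m, c, hc, hle⟩, rfl⟩
  refine Submodule.subset_span ⟨⟨m, ⟨fun i => ⟨c i, hle i⟩, fun i j h => hc h⟩⟩, ?_⟩
  simp [stdProd, coordClass, chainMon]

lemma straighten_coordClass (hd : 0 < d) (a b : Below w) :
    coordClass K a * coordClass K b - coordClass K (Below.sup a b) * coordClass K (Below.inf a b) ∈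
      Submodule.span K {y | ∃ α β, Strict a b α β ∧ y = coordClass K α * coordClass K β} := by
  obtain ⟨g, hg, hmem⟩ := straighten_shape_content (K := K) hd a.1 b.1
  have heq : coordClass K a * coordClass K b - coordClass K (Below.sup a b) * coordClass K (Below.inf a b) =
      Ideal.Quotient.mkₐ K (schubertVanishing K d n w) g := by
    show _ = Ideal.Quotient.mk _ g
    simp only [coordClass, ← map_mul, ← map_sub, Ideal.Quotient.eq]
    refine Cell.mem_schubertVanishing.2 fun A _ => ?_
    simp only [vanishing, Submodule.mem_iInf, RingHom.mem_ker] at hmem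
    exact hmem A
  rw [heq]
  clear heq hmem
  induction hg using Submodule.span_induction with
  | mem y hy =>
    obtain ⟨α, β, hba, hS, hI, hc, rfl⟩ := hy
    by_cases hα : α ≤ w
    · refine Submodule.subset_span ⟨⟨α, hα⟩, ⟨β, hba.trans hα⟩, ⟨hba, hS, hI, hc⟩, ?_⟩
      simp [coordClass]
    · have : Ideal.Quotient.mkₐ K (schubertVanishing K d n w) (X α * X β) = 0 :=
        Ideal.Quotient.eq_zero_iff_mem.2 (Ideal.mul_mem_right _ _ ((X_mem_schubert_iff hd).2 hα))
      rw [this]
      exact zero_mem _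
  | zero => simp
  | add y z _ _ hy hz => rw [map_add]; exact add_mem hy hz
  | smul r y _ hy => rw [map_smul]; exact Submodule.smul_mem _ _ hy

/-- Degeneration to the Hibi ring. -/
theorem exists_family_hibi (hd : 0 < d) :
    ∃ (R : Type u) (_ : CommRing R) (_ : Algebra K R) (_ : Algebra (Polynomial K) R)
      (_ : IsScalarTower K (Polynomial K) R),
      Module.Free (Polynomial K) R ∧
      Nonempty ((R ⧸ Ideal.span {algebraMap (Polynomial K) R Polynomial.X}) ≃ₐ[K]
        (MvPolynomial (Below w) K ⧸ hibiIdeal K w)) ∧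
      ∀ c : K, c ≠ 0 →
        Nonempty ((R ⧸ Ideal.span {algebraMap (Polynomial K) R (Polynomial.X - Polynomial.C c)}) ≃ₐ[K]
          (PlRing K d n ⧸ schubertVanishing K d n w)) := by
  rw [hibiIdeal_eq]
  exact exists_family (K := K) eHibi (coordClass K) 1 (linearIndependent_coordClass K hd) (span_coordClass K hd)
    (fun a b _ _ => straighten_coordClass K hd a b) (fun a b _ _ => (eHibi_sup_inf a b).le)
    (fun a b α β _ _ h => eHibi_lt h) (fun a b _ _ => by rw [eHibi_sup_inf, Nat.sub_self]; simp)

/-- Degeneration to the Stanley–Reisner ring. -/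
theorem exists_family_sr (hd : 0 < d) :
    ∃ (R : Type u) (_ : CommRing R) (_ : Algebra K R) (_ : Algebra (Polynomial K) R)
      (_ : IsScalarTower K (Polynomial K) R),
      Module.Free (Polynomial K) R ∧
      Nonempty ((R ⧸ Ideal.span {algebraMap (Polynomial K) R Polynomial.X}) ≃ₐ[K]
        (MvPolynomial (Below w) K ⧸ srIdeal K w)) ∧
      ∀ c : K, c ≠ 0 →
        Nonempty ((R ⧸ Ideal.span {algebraMap (Polynomial K) R (Polynomial.X - Polynomial.C c)}) ≃ₐ[K]
          (PlRing K d n ⧸ schubertVanishing K d n w)) := by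
  rw [srIdeal_eq]
  exact exists_family (K := K) eSR (coordClass K) 0 (linearIndependent_coordClass K hd) (span_coordClass K hd)
    (fun a b _ _ => straighten_coordClass K hd a b) (fun a b h1 h2 => (eSR_lt_of_up (up_sup_inf h1 h2)).le)
    (fun a b α β _ _ h => eSR_lt_of_up (up_of_strict h))
    (fun a b h1 h2 => by
      have := eSR_lt_of_up (up_sup_inf h1 h2)
      rw [Polynomial.coeff_X_pow, if_neg (by omega)])

end Groth.Agent.Lib.Grass.DegenSchubert
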