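import Groth.Agent.Lib.Grass.StraightenShape
import Mathlib.RingTheory.PolynomialAlgebra
import Mathlib.Algebra.MvPolynomial.Funext
import Mathlib.LinearAlgebra.FreeModule.Basic

/-!
# Degenerations of Schubert cones to Hibi and Stanley–Reisner rings
-/

set_option linter.unusedSectionVars false
set_option maxHeartbeats 1000000

namespace Groth.Agent.Lib.Grass.Degeneration

open W4bk4grassmannian Finset Minors Straighten Basis Ideals StraightenShape

universe u

variable {d n : ℕ} {w : Idx d n}

/-- Standard chains below `w`. -/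
abbrev Std (w : Idx d n) := Σ m : ℕ, {c : Fin m → Below w // Antitone c}

/-- The product along a chain. -/
def stdProd {M : Type*} [CommMonoid M] (h : Below w → M) (c : Std w) : M := ∏ i, h (c.2.1 i)

/-- A reducing pair. -/
def Up (a b α β : Below w) : Prop :=
  wt a.1.1 < wt α.1.1 ∧ wt b.1.1 < wt α.1.1 ∧ wt α.1.1 + wt β.1.1 = wt a.1.1 + wt b.1.1

/-- The strict terms of a straightening relation. -/
def Strict (a b α β : Below w) : Prop :=
  β ≤ α ∧ W4bk4grassmannian.sup a.1 b.1 < α.1 ∧ β.1 < W4bk4grassmannian.inf a.1 b.1 ∧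
    ∀ g, cont g α.1.1 + cont g β.1.1 = cont g a.1.1 + cont g b.1.1

lemma up_sup_inf {a b : Below w} (h1 : ¬ a ≤ b) (h2 : ¬ b ≤ a) :
    Up a b (Below.sup a b) (Below.inf a b) := by
  refine ⟨wt_strictMono (lt_of_le_of_ne (fun t => le_max_left _ _) fun e => h2 fun t => ?_),
    wt_strictMono (lt_of_le_of_ne (fun t => le_max_right _ _) fun e => h1 fun t => ?_),
    cont_sup_add_inf (fun x => x.val) a.1 b.1⟩
  · exact le_of_le_of_eq (le_max_right _ _) (congrArg (fun x : Idx d n => x.1 t) e).symm
  · exact le_of_le_of_eq (le_max_left _ _) (congrArg (fun x : Idx d n => x.1 t) e).symm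

lemma up_of_strict {a b α β : Below w} (h : Strict a b α β) : Up a b α β := by
  have h1 := wt_strictMono h.2.1
  have ha : wt a.1.1 ≤ wt (W4bk4grassmannian.sup a.1 b.1).1 := sum_le_sum fun t _ => le_max_left (a.1.1 t) (b.1.1 t)
  have hb : wt b.1.1 ≤ wt (W4bk4grassmannian.sup a.1 b.1).1 := sum_le_sum fun t _ => le_max_right (a.1.1 t) (b.1.1 t)
  exact ⟨by omega, by omega, h.2.2.2 fun x => x.val⟩

lemma exists_antitone_perm' {m : ℕ} (c : Fin m → Below w) (h : ∀ k l, c k ≤ c l ∨ c l ≤ c k) :
    ∃ σ : Equiv.Perm (Fin m), Antitone (c ∘ σ) :=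
  exists_antitone_perm (fun k => (c k).1) h

section span

variable {k M : Type*} [CommRing k] [CommRing M] [Algebra k M] (h : Below w → M)
  (hred : ∀ a b : Below w, ¬ a ≤ b → ¬ b ≤ a →
    h a * h b ∈ Submodule.span k {y | ∃ α β, Up a b α β ∧ y = h α * h β})

include hred

theorem prod_mem_span_std : ∀ {m : ℕ} (c : Fin m → Below w),
    ∏ i, h (c i) ∈ Submodule.span k (Set.range (stdProd h)) := by
  intro m
  suffices H : ∀ (N : ℕ) (c : Fin m → Below w), m * (d * n) ^ 2 - ∑ i, wt (c i).1.1 ^ 2 = N →
      ∏ i, h (c i) ∈ Submodule.span k (Set.range (stdProd h)) from fun c => H _ c rfl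
  intro N
  induction N using Nat.strong_induction_on with
  | _ N IH =>
    intro c hN
    by_cases hcomp : ∀ i j, c i ≤ c j ∨ c j ≤ c i
    · obtain ⟨σ, hσ⟩ := exists_antitone_perm' c hcomp
      rw [← Equiv.prod_comp σ]
      exact Submodule.subset_span ⟨⟨m, c ∘ σ, hσ⟩, rfl⟩
    simp only [not_forall, not_or] at hcomp
    obtain ⟨i, j, hij, hji⟩ := hcomp
    have hne : i ≠ j := fun e => hij (e ▸ le_rfl)
    have hj : j ∈ univ.erase i := by simp [hne.symm]
    rw [← mul_prod_erase univ _ (mem_univ i), ← mul_prod_erase _ _ hj, ← mul_assoc]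
    have hmem : ∀ y ∈ Submodule.span k {y | ∃ α β, Up (c i) (c j) α β ∧ y = h α * h β},
        y * (∏ q ∈ (univ.erase i).erase j, h (c q)) ∈ Submodule.span k (Set.range (stdProd h)) := by
      intro y hy
      induction hy using Submodule.span_induction with
      | mem y hy => ?_
      | zero => simp
      | add y z _ _ hy hz => rw [add_mul]; exact add_mem hy hz
      | smul a y _ hy => rw [smul_mul_assoc]; exact Submodule.smul_mem _ _ hy
      obtain ⟨α, β, ⟨u1, u2, u3⟩, rfl⟩ := hy
      set c' := Function.update (Function.update c i α) j β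
      have ei : c' i = α := by simp [c', Function.update_of_ne hne]
      have ej : c' j = β := by simp [c']
      have eo : ∀ q ∈ (univ.erase i).erase j, c' q = c q := fun q hq => by
        simp only [mem_erase] at hq
        simp [c', Function.update_of_ne hq.1, Function.update_of_ne hq.2.1]
      have s1 : ∀ b : Fin m → Below w, ∑ q, wt (b q).1.1 ^ 2 =
          wt (b i).1.1 ^ 2 + (wt (b j).1.1 ^ 2 + ∑ q ∈ (univ.erase i).erase j, wt (b q).1.1 ^ 2) :=
        fun b => by rw [← add_sum_erase univ _ (mem_univ i), ← add_sum_erase _ _ hj]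
      have hbound : ∑ q, wt (c' q).1.1 ^ 2 ≤ m * (d * n) ^ 2 := by
        refine (sum_le_card_nsmul _ _ ((d * n) ^ 2)
          fun q _ => Nat.pow_le_pow_left (wt_le _) 2).trans (by simp)
      have hlt : ∑ q, wt (c q).1.1 ^ 2 < ∑ q, wt (c' q).1.1 ^ 2 := by
        rw [s1 c, s1 c', ei, ej, sum_congr rfl (fun q hq => by rw [eo q hq] :
          ∀ q ∈ (univ.erase i).erase j, wt (c' q).1.1 ^ 2 = wt (c q).1.1 ^ 2)]
        nlinarith
      have hm := IH _ (show m * (d * n) ^ 2 - ∑ q, wt (c' q).1.1 ^ 2 < N by omega) c' rfl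
      rw [← mul_prod_erase univ _ (mem_univ i), ← mul_prod_erase _ _ hj, ← mul_assoc, ei, ej,
        prod_congr rfl (fun q hq => by rw [eo q hq] :
          ∀ q ∈ (univ.erase i).erase j, h (c' q) = h (c q))] at hm
      exact hm
    exact hmem _ (hred (c i) (c j) hij hji)

theorem aeval_mem_span_std (p : MvPolynomial (Below w) k) :
    MvPolynomial.aeval h p ∈ Submodule.span k (Set.range (stdProd h)) := by
  suffices H : MvPolynomial.aeval h p ∈
      Submodule.span k (Set.range fun c : Σ m : ℕ, Fin m → Below w => ∏ i, h (c.2 i)) by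
    refine Submodule.span_le.2 ?_ H
    rintro _ ⟨c, rfl⟩
    exact prod_mem_span_std h hred c.2
  induction p using MvPolynomial.induction_on with
  | C a =>
    rw [MvPolynomial.aeval_C, Algebra.algebraMap_eq_smul_one]
    exact Submodule.smul_mem _ _ (Submodule.subset_span ⟨⟨0, Fin.elim0⟩, by simp⟩)
  | add p q hp hq => rw [map_add]; exact add_mem hp hq
  | mul_X p θ hp =>
    rw [map_mul, MvPolynomial.aeval_X]
    generalize MvPolynomial.aeval h p = z at hp ⊢
    induction hp using Submodule.span_induction with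
    | mem y hy =>
      obtain ⟨⟨m, c⟩, rfl⟩ := hy
      refine Submodule.subset_span ⟨⟨m + 1, Fin.cons θ c⟩, ?_⟩
      simp [Fin.prod_univ_succ, mul_comm]
    | zero => simp
    | add y z _ _ hy hz => rw [add_mul]; exact add_mem hy hz
    | smul a y _ hy => rw [smul_mul_assoc]; exact Submodule.smul_mem _ _ hy

end span

attribute [local instance] Polynomial.algebra

open Polynomial

variable (K : Type u) [Field K] (A : Type u) [CommRing A] [Algebra K A]

local instance tower : IsScalarTower K K[X] A[X] :=
  IsScalarTower.of_algebraMap_eq fun a => by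
    show Polynomial.C (algebraMap K A a) = Polynomial.map (algebraMap K A) (Polynomial.C a)
    rw [Polynomial.map_C]

variable {K A}

lemma smul_eq_map_mul (a : K[X]) (y : A[X]) : a • y = a.map (algebraMap K A) * y :=
  Algebra.smul_def a y

lemma coeff_smul_monomial (a : K[X]) (E : ℕ) (y : A) (N : ℕ) :
    (a • monomial E y).coeff N = (a * Polynomial.X ^ E).coeff N • y := by
  rw [smul_eq_map_mul, ← C_mul_X_pow_eq_monomial, mul_left_comm, ← Polynomial.map_X (algebraMap K A),
    ← Polynomial.map_pow, ← Polynomial.map_mul, coeff_C_mul, Polynomial.coeff_map, Algebra.smul_def, mul_comm]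

lemma X_pow_smul_monomial (j E : ℕ) (y : A) :
    (Polynomial.X ^ j : K[X]) • monomial E y = monomial (j + E) y := by
  rw [smul_eq_map_mul, Polynomial.map_pow, Polynomial.map_X, X_pow_mul_monomial, add_comm]

variable (e : Below w → ℕ) (x : Below w → A)

/-- The homogenised generators. -/
noncomputable def gen (θ : Below w) : A[X] := monomial (e θ) (x θ)

variable (K)

/-- The total space of the degeneration. -/
noncomputable def family : Subalgebra K[X] A[X] := (MvPolynomial.aeval (R := K[X]) (gen e x)).range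

variable {K}

/-- The generators in the family. -/
noncomputable def genR (θ : Below w) : family K e x :=
  ⟨gen e x θ, MvPolynomial.X θ, MvPolynomial.aeval_X _ θ⟩

lemma stdProd_genR (c : Std w) :
    (family K e x).val (stdProd (genR (K := K) e x) c) = monomial (∑ i, e (c.2.1 i)) (stdProd x c) := by
  simp only [stdProd, Subalgebra.coe_val, SubmonoidClass.coe_finsetProd, genR, gen, ← C_mul_X_pow_eq_monomial,
    prod_mul_distrib, map_prod, prod_pow_eq_pow_sum]

variable (ε : K)

/-- The ideal of the special fibre. -/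
noncomputable def limIdeal (w : Idx d n) : Ideal (MvPolynomial (Below w) K) :=
  Ideal.span {f | ∃ a b : Below w, ¬ a ≤ b ∧ ¬ b ≤ a ∧
    f = MvPolynomial.X a * MvPolynomial.X b -
      MvPolynomial.C ε * (MvPolynomial.X (Below.sup a b) * MvPolynomial.X (Below.inf a b))}

variable (hind : LinearIndependent K (stdProd x))
  (hspan : Submodule.span K (Set.range (stdProd x)) = ⊤)
  (hrel : ∀ a b : Below w, ¬ a ≤ b → ¬ b ≤ a → x a * x b - x (Below.sup a b) * x (Below.inf a b) ∈
    Submodule.span K {y | ∃ α β, Strict a b α β ∧ y = x α * x β})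
  (hle : ∀ a b : Below w, ¬ a ≤ b → ¬ b ≤ a → e (Below.sup a b) + e (Below.inf a b) ≤ e a + e b)
  (hlt : ∀ a b α β : Below w, ¬ a ≤ b → ¬ b ≤ a → Strict a b α β → e α + e β < e a + e b)
  (hε : ∀ a b : Below w, ¬ a ≤ b → ¬ b ≤ a →
    (Polynomial.X ^ (e a + e b - (e (Below.sup a b) + e (Below.inf a b))) : K[X]).coeff 0 = ε)

include hrel hle hlt

lemma exists_rel (a b : Below w) (h1 : ¬ a ≤ b) (h2 : ¬ b ≤ a) :
    ∃ z ∈ Submodule.span K[X] {y | ∃ α β, Strict a b α β ∧ y = genR (K := K) e x α * genR e x β},
      genR e x a * genR e x b =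
        (Polynomial.X ^ (e a + e b - (e (Below.sup a b) + e (Below.inf a b))) : K[X]) •
          (genR e x (Below.sup a b) * genR e x (Below.inf a b)) + (Polynomial.X : K[X]) • z := by
  have h3 := hle a b h1 h2
  suffices H : ∀ g ∈ Submodule.span K {y | ∃ α β, Strict a b α β ∧ y = x α * x β},
      ∃ z : family K e x, z ∈ Submodule.span K[X] {y | ∃ α β, Strict a b α β ∧ y = genR (K := K) e x α * genR e x β} ∧
        monomial (e a + e b) g = (Polynomial.X : K[X]) • (z : A[X]) by
    obtain ⟨z, hz, hg⟩ := H _ (hrel a b h1 h2)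
    refine ⟨z, hz, Subtype.ext ?_⟩
    show gen e x a * gen e x b = (Polynomial.X ^ _ : K[X]) • (gen e x _ * gen e x _) + (Polynomial.X : K[X]) • (z : A[X])
    rw [← hg, gen, gen, gen, gen, monomial_mul_monomial, monomial_mul_monomial, X_pow_smul_monomial,
      Nat.sub_add_cancel h3, map_sub, add_sub_cancel]
  intro g hg
  induction hg using Submodule.span_induction with
  | mem y hy =>
    obtain ⟨α, β, hs, rfl⟩ := hy
    have h4 := hlt a b α β h1 h2 hs
    refine ⟨(Polynomial.X ^ (e a + e b - (e α + e β) - 1) : K[X]) • (genR (K := K) e x α * genR e x β),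
      Submodule.smul_mem _ _ (Submodule.subset_span ⟨α, β, hs, rfl⟩), ?_⟩
    show _ = (Polynomial.X : K[X]) • ((Polynomial.X ^ _ : K[X]) • (gen e x α * gen e x β))
    rw [smul_smul, ← pow_succ', gen, gen, monomial_mul_monomial, X_pow_smul_monomial]
    congr 2
    omega
  | zero => exact ⟨0, zero_mem _, by simp⟩
  | add y z _ _ hy hz =>
    obtain ⟨z1, h5, h6⟩ := hy
    obtain ⟨z2, h7, h8⟩ := hz
    exact ⟨z1 + z2, add_mem h5 h7, by rw [map_add, h6, h8]; simp [smul_add]⟩
  | smul r y _ hy =>
    obtain ⟨z1, h5, h6⟩ := hy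
    refine ⟨(Polynomial.C r : K[X]) • z1, Submodule.smul_mem _ _ h5, ?_⟩
    show _ = (Polynomial.X : K[X]) • ((Polynomial.C r : K[X]) • (z1 : A[X]))
    rw [smul_comm, ← h6, smul_eq_map_mul, Polynomial.map_C, C_mul_monomial, Algebra.smul_def]

lemma span_genR : Submodule.span K[X] (Set.range (stdProd (genR (K := K) e x))) = ⊤ := by
  have hred : ∀ a b : Below w, ¬ a ≤ b → ¬ b ≤ a → genR (K := K) e x a * genR e x b ∈
      Submodule.span K[X] {y | ∃ α β, Up a b α β ∧ y = genR (K := K) e x α * genR e x β} := by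
    intro a b h1 h2
    obtain ⟨z, hz, h⟩ := exists_rel (K := K) e x hrel hle hlt a b h1 h2
    rw [h]
    refine add_mem (Submodule.smul_mem _ _ (Submodule.subset_span ⟨_, _, up_sup_inf h1 h2, rfl⟩))
      (Submodule.smul_mem _ _ (Submodule.span_mono ?_ hz))
    rintro _ ⟨α, β, hs, rfl⟩
    exact ⟨α, β, up_of_strict hs, rfl⟩
  rw [eq_top_iff]
  rintro ⟨z, p, rfl⟩ -
  have heq : (⟨MvPolynomial.aeval (gen e x) p, p, rfl⟩ : family K e x) =
      MvPolynomial.aeval (genR (K := K) e x) p := by
    apply Subtype.ext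
    show MvPolynomial.aeval (gen e x) p = ((family K e x).val.comp (MvPolynomial.aeval (genR e x))) p
    congr 1
    exact MvPolynomial.algHom_ext fun θ => by simp [genR]
  rw [show (⟨_, p, rfl⟩ : family K e x) = _ from heq]
  exact aeval_mem_span_std (genR (K := K) e x) hred p

omit hrel hle hlt

include hind in
lemma linearIndependent_genR : LinearIndependent K[X] (stdProd (genR (K := K) e x)) := by
  rw [linearIndependent_iff']
  intro s g hg c hc
  have h0 : ∑ i ∈ s, g i • (family K e x).val (stdProd (genR (K := K) e x) i) = 0 := by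
    have := congrArg (family K e x).val hg
    rw [map_sum, map_zero] at this
    rw [← this]
    exact sum_congr rfl fun i _ => (map_smul (family K e x).val (g i) _).symm
  simp only [stdProd_genR] at h0
  have hz : g c * Polynomial.X ^ (∑ i, e (c.2.1 i)) = 0 := by
    refine Polynomial.ext fun N => ?_
    rw [Polynomial.coeff_zero]
    have := congrArg (fun p : A[X] => p.coeff N) h0
    simp only [finsetSum_coeff, coeff_smul_monomial, Polynomial.coeff_zero] at this
    exact linearIndependent_iff'.1 hind s _ this c hc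
  exact (mul_eq_zero.1 hz).resolve_right (pow_ne_zero _ X_ne_zero)

/-- The limit ring is spanned by standard monomials. -/
lemma exists_std_coords (p : MvPolynomial (Below w) K) : ∃ g : Std w →₀ K,
    p - ∑ c ∈ g.support, g c • stdProd (MvPolynomial.X : Below w → MvPolynomial (Below w) K) c ∈
      limIdeal ε w := by
  set mk := Ideal.Quotient.mkₐ K (limIdeal ε w)
  set h : Below w → MvPolynomial (Below w) K ⧸ limIdeal ε w := fun θ => mk (MvPolynomial.X θ)
  have hred : ∀ a b : Below w, ¬ a ≤ b → ¬ b ≤ a →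
      h a * h b ∈ Submodule.span K {y | ∃ α β, Up a b α β ∧ y = h α * h β} := by
    intro a b h1 h2
    have : h a * h b = ε • (h (Below.sup a b) * h (Below.inf a b)) := by
      simp only [h, ← map_mul, ← map_smul, MvPolynomial.smul_eq_C_mul]
      exact Ideal.Quotient.eq.2 (Ideal.subset_span ⟨a, b, h1, h2, rfl⟩)
    rw [this]
    exact Submodule.smul_mem _ _ (Submodule.subset_span ⟨_, _, up_sup_inf h1 h2, rfl⟩)
  have hp := aeval_mem_span_std h hred p
  rw [show MvPolynomial.aeval h p = mk p from AlgHom.congr_fun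
    (MvPolynomial.algHom_ext (fun θ => by simp [h]) : MvPolynomial.aeval h = mk) p,
    Finsupp.mem_span_range_iff_exists_finsupp] at hp
  obtain ⟨g, hg⟩ := hp
  refine ⟨g, Ideal.Quotient.eq.1 ?_⟩
  show mk p = mk _
  rw [← hg, map_sum]
  exact sum_congr rfl fun c _ => by rw [map_smul]; simp only [stdProd, h, map_prod]

include hrel hle hlt

lemma exists_coord (z : family K e x) :
    ∃ g : Std w →₀ K[X], ∑ c ∈ g.support, g c • stdProd (genR (K := K) e x) c = z :=
  Finsupp.mem_span_range_iff_exists_finsupp.1 ((span_genR (K := K) e x hrel hle hlt) ▸ Submodule.mem_top :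
    z ∈ Submodule.span K[X] (Set.range (stdProd (genR (K := K) e x))))

include hε hind in
lemma nonempty_fibre_zero :
    Nonempty ((family K e x ⧸ Ideal.span {algebraMap (Polynomial K) (family K e x) Polynomial.X}) ≃ₐ[K]
      (MvPolynomial (Below w) K ⧸ limIdeal ε w)) := by
  classical
  have hindR := linearIndependent_genR (K := K) e x hind
  have hcoord := exists_coord (K := K) e x hrel hle hlt
  set v := stdProd (genR (K := K) e x) with hv
  set T : Ideal (family K e x) := Ideal.span {algebraMap K[X] (family K e x) Polynomial.X}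
  have hT : ∀ z : family K e x, Ideal.Quotient.mk T ((Polynomial.X : K[X]) • z) = 0 := fun z => by
    rw [Ideal.Quotient.eq_zero_iff_mem, Algebra.smul_def]
    exact Ideal.mul_mem_right _ _ (Ideal.mem_span_singleton_self _)
  have hsm : ∀ (a : K[X]) (z : family K e x),
      Ideal.Quotient.mk T (a • z) = a.coeff 0 • Ideal.Quotient.mk T z := fun a z => by
    conv_lhs => rw [← Polynomial.X_mul_divX_add a, add_smul, mul_smul, map_add, hT, zero_add]
    rw [← Ideal.Quotient.mkₐ_eq_mk K, ← map_smul]
    congr 1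
    rw [Polynomial.C_eq_algebraMap, algebraMap_smul]
  let ψ : MvPolynomial (Below w) K →ₐ[K] family K e x ⧸ T :=
    MvPolynomial.aeval fun θ => Ideal.Quotient.mk T (genR e x θ)
  have hψ : ∀ c : Std w, ψ (stdProd MvPolynomial.X c) = Ideal.Quotient.mk T (v c) := fun c => by
    simp only [stdProd, hv, map_prod, ψ, MvPolynomial.aeval_X]
  have hsurj : Function.Surjective ψ := by
    intro y
    obtain ⟨z, rfl⟩ := Ideal.Quotient.mk_surjective y
    obtain ⟨g, rfl⟩ := hcoord z
    refine ⟨∑ c ∈ g.support, (g c).coeff 0 • stdProd MvPolynomial.X c, ?_⟩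
    simp only [map_sum, map_smul, hψ, hsm]
  have hle' : limIdeal ε w ≤ RingHom.ker ψ := by
    rw [limIdeal, Ideal.span_le]
    rintro _ ⟨a, b, h1, h2, rfl⟩
    obtain ⟨z, -, hz⟩ := exists_rel (K := K) e x hrel hle hlt a b h1 h2
    show ψ _ = 0
    simp only [ψ, map_sub, map_mul, MvPolynomial.aeval_X, MvPolynomial.aeval_C]
    rw [← map_mul, ← map_mul, hz, map_add, hT, add_zero, hsm, hε a b h1 h2]
    rw [← Ideal.Quotient.mkₐ_eq_mk K, ← map_smul, Algebra.smul_def, map_mul, AlgHom.commutes, sub_self]
  have hker : RingHom.ker ψ = limIdeal ε w := by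
    refine le_antisymm (fun p hp => ?_) hle'
    obtain ⟨g, hg⟩ := exists_std_coords (w := w) ε p
    have h0 : ψ (∑ c ∈ g.support, g c • stdProd MvPolynomial.X c) = 0 := by
      have := hle' hg
      rw [RingHom.mem_ker, map_sub, sub_eq_zero] at this
      rw [← this]; exact hp
    simp only [map_sum, map_smul, hψ] at h0
    have h1 : Ideal.Quotient.mk T (∑ c ∈ g.support, (Polynomial.C (g c)) • v c) = 0 := by
      rw [map_sum, ← h0]
      exact sum_congr rfl fun c _ => by rw [hsm, Polynomial.coeff_C_zero]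
    rw [Ideal.Quotient.eq_zero_iff_mem, Ideal.mem_span_singleton'] at h1
    obtain ⟨z, hz⟩ := h1
    obtain ⟨q, rfl⟩ := hcoord z
    have hall : ∀ c, g c = 0 := by
      intro c
      have he : ∑ c ∈ g.support ∪ q.support, (Polynomial.C (g c) - Polynomial.X * q c) • v c = 0 := by
        simp only [sub_smul, sum_sub_distrib, mul_smul, ← smul_sum]
        rw [← sum_subset subset_union_left fun c _ hc => by simp [Finsupp.notMem_support_iff.1 hc],
          ← sum_subset subset_union_right fun c _ hc => by simp [Finsupp.notMem_support_iff.1 hc],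
          ← hz, Algebra.smul_def, mul_comm, sub_self]
      by_cases hc : c ∈ g.support
      · have := congrArg (fun p : K[X] => p.coeff 0)
          (linearIndependent_iff'.1 hindR _ _ he c (mem_union_left _ hc))
        simpa using this
      · exact Finsupp.notMem_support_iff.1 hc
    rwa [sum_eq_zero (fun c _ => by rw [hall c, zero_smul]), sub_zero] at hg
  exact ⟨(Ideal.quotientKerAlgEquivOfSurjective hsurj).symm.trans (Ideal.quotientEquivAlgOfEq K hker)⟩

include hind hspan in
lemma nonempty_fibre_ne_zero (c : K) (hc0 : c ≠ 0) :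
    Nonempty ((family K e x ⧸ Ideal.span {algebraMap (Polynomial K) (family K e x)
      (Polynomial.X - Polynomial.C c)}) ≃ₐ[K] A) := by
  classical
  have hindR := linearIndependent_genR (K := K) e x hind
  have hcoord := exists_coord (K := K) e x hrel hle hlt
  set v := stdProd (genR (K := K) e x) with hv
  let φ : family K e x →ₐ[K] A :=
    ((Polynomial.aeval (algebraMap K A c)).restrictScalars K).comp ((family K e x).val.restrictScalars K)
  have hsmul : ∀ (a : K[X]) (z : family K e x), φ (a • z) = a.eval c • φ z := fun a z => by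
    show Polynomial.aeval (algebraMap K A c) (a • (z : A[X])) = _
    rw [smul_eq_map_mul, map_mul, Algebra.smul_def, Polynomial.coe_aeval_eq_eval, Polynomial.eval_map,
      Polynomial.eval₂_at_apply]
    rfl
  have hφv : ∀ i : Std w, φ (v i) = c ^ (∑ j, e (i.2.1 j)) • stdProd x i := fun i => by
    show Polynomial.aeval (algebraMap K A c) ((family K e x).val (v i)) = _
    rw [hv, stdProd_genR, Polynomial.aeval_monomial, Algebra.smul_def, map_pow, mul_comm]
    rfl
  have hsurj : Function.Surjective φ := by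
    intro y
    obtain ⟨g, rfl⟩ := Finsupp.mem_span_range_iff_exists_finsupp.1
      (hspan ▸ Submodule.mem_top : y ∈ Submodule.span K (Set.range (stdProd x)))
    refine ⟨∑ i ∈ g.support, (g i * (c ^ (∑ j, e (i.2.1 j)))⁻¹) • v i, ?_⟩
    rw [map_sum]
    refine sum_congr rfl fun i _ => ?_
    rw [map_smul, hφv, smul_smul, mul_assoc, inv_mul_cancel₀ (pow_ne_zero _ hc0), mul_one]
  have hker : RingHom.ker φ =
      Ideal.span {algebraMap K[X] (family K e x) (Polynomial.X - Polynomial.C c)} := by
    refine le_antisymm (fun z hz => ?_) ?_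
    · obtain ⟨g, rfl⟩ := hcoord z
      refine Submodule.sum_mem _ fun i hi => ?_
      rw [RingHom.mem_ker, map_sum] at hz
      simp only [hsmul, hφv, smul_smul] at hz
      have h0 := linearIndependent_iff'.1 hind _ _ hz i hi
      obtain ⟨q, hq⟩ := Polynomial.dvd_iff_isRoot.2 ((mul_eq_zero.1 h0).resolve_right (pow_ne_zero _ hc0))
      rw [hq, Algebra.smul_def, map_mul, mul_assoc]
      exact Ideal.mul_mem_right _ _ (Ideal.mem_span_singleton_self _)
    · rw [Ideal.span_singleton_le_iff_mem, RingHom.mem_ker, Algebra.algebraMap_eq_smul_one, hsmul]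
      simp
  exact ⟨(Ideal.quotientEquivAlgOfEq K hker.symm).trans (Ideal.quotientKerAlgEquivOfSurjective hsurj)⟩


include hind hspan hε

/-- The degeneration theorem. -/
theorem exists_family :
    ∃ (R : Type u) (_ : CommRing R) (_ : Algebra K R) (_ : Algebra (Polynomial K) R)
      (_ : IsScalarTower K (Polynomial K) R),
      Module.Free (Polynomial K) R ∧
      Nonempty ((R ⧸ Ideal.span {algebraMap (Polynomial K) R Polynomial.X}) ≃ₐ[K]
        (MvPolynomial (Below w) K ⧸ limIdeal ε w)) ∧
      ∀ c : K, c ≠ 0 →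
        Nonempty ((R ⧸ Ideal.span {algebraMap (Polynomial K) R (Polynomial.X - Polynomial.C c)}) ≃ₐ[K] A) :=
  ⟨family K e x, inferInstance, inferInstance, inferInstance, inferInstance,
    Module.Free.of_basis (Module.Basis.mk (linearIndependent_genR (K := K) e x hind)
      (span_genR (K := K) e x hrel hle hlt).ge),
    nonempty_fibre_zero (K := K) e x ε hind hrel hle hlt hε,
    nonempty_fibre_ne_zero (K := K) e x hind hspan hrel hle hlt⟩

end Groth.Agent.Lib.Grass.Degeneration
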