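import Groth.Agent.Lib.Grass.Semigroup
import Mathlib.RingTheory.IntegralClosure.IntegrallyClosed
import Mathlib.RingTheory.Polynomial.RationalRoot
import Mathlib.RingTheory.IntegralClosure.IsIntegral.AlmostIntegral
import Mathlib.RingTheory.Polynomial.UniqueFactorization
import Mathlib.RingTheory.Localization.FractionRing
import Mathlib.Algebra.MvPolynomial.NoZeroDivisors

/-!
# Normality of Schubert coordinate rings
-/

set_option linter.unusedSectionVars false

namespace Groth.Agent.Lib.Grass.Normal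

open W4bk4grassmannian MvPolynomial Finset Minors Cell Straighten Basis Semigroup

universe u

variable {d n : ℕ}

/-- A criterion for normality of a domain inside a normal domain. -/
theorem isIntegrallyClosed_of_injective {R B : Type u} [CommRing R] [CommRing B] [IsDomain R]
    [IsDomain B] [IsIntegrallyClosed B] (ψ : R →+* B) (hψ : Function.Injective ψ)
    (h : ∀ (g : B) (a b c : R), b ≠ 0 → c ≠ 0 → ψ b * g = ψ a →
      (∀ m : ℕ, ∃ r, ψ c * g ^ m = ψ r) → g ∈ Set.range ψ) :
    IsIntegrallyClosed R := by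
  refine (isIntegrallyClosed_iff (FractionRing R)).2 fun {x} hx => ?_
  obtain ⟨a, b, hb, rfl⟩ := IsFractionRing.div_surjective (A := R) x
  obtain ⟨c, hc, hcm⟩ := hx.isAlmostIntegral
  have hb0 : b ≠ 0 := nonZeroDivisors.ne_zero hb
  let Φ : R →+* FractionRing B := (algebraMap B (FractionRing B)).comp ψ
  have hΦ : Function.Injective Φ := (IsFractionRing.injective B (FractionRing B)).comp hψ
  let Ψ : FractionRing R →+* FractionRing B := IsFractionRing.lift hΦ
  have hΨ : ∀ r, Ψ (algebraMap R _ r) = algebraMap B _ (ψ r) := fun r =>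
    IsFractionRing.lift_algebraMap hΦ r
  set x := algebraMap R (FractionRing R) a / algebraMap R (FractionRing R) b
  have hint : IsIntegral B (Ψ x) := hx.map_of_comp_eq ψ Ψ (RingHom.ext fun r => (hΨ r).symm)
  obtain ⟨g, hg⟩ := IsIntegrallyClosed.isIntegral_iff.1 hint
  have hbx : algebraMap R _ b * x = algebraMap R (FractionRing R) a :=
    mul_div_cancel₀ _ (IsFractionRing.to_map_ne_zero_of_mem_nonZeroDivisors hb)
  have h1 : ψ b * g = ψ a := by
    apply IsFractionRing.injective B (FractionRing B)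
    rw [map_mul, hg, ← hΨ, ← hΨ, ← map_mul, hbx]
  have h2 : ∀ m : ℕ, ∃ r, ψ c * g ^ m = ψ r := fun m => by
    obtain ⟨r, hr⟩ := hcm m
    refine ⟨r, ?_⟩
    apply IsFractionRing.injective B (FractionRing B)
    rw [map_mul, map_pow, hg, ← hΨ, ← hΨ, ← map_pow, ← map_mul, hr, Algebra.smul_def]
  obtain ⟨y, hy⟩ := h g a b c hb0 (nonZeroDivisors.ne_zero hc) h1 h2
  refine ⟨y, Ψ.injective ?_⟩
  rw [hΨ, hy, hg]

variable {K : Type u} [Field K]

lemma isSST_of_isolated (hd : 0 < d) (τ : Idx d n) {g : CRing K d n} {b c : PlRing K d n}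
    (hg : g ≠ 0) (hb : cellMap K τ b ≠ 0) (hc : cellMap K τ c ≠ 0)
    (h1 : cellMap K τ b * g ∈ (cellMap K τ).range)
    (h2 : ∀ m : ℕ, cellMap K τ c * g ^ m ∈ (cellMap K τ).range) : IsSST τ (ord.degree g) := by
  have hB := isSST_degree hd τ hb
  set B := ord.degree (cellMap K τ b)
  set C := ord.degree (cellMap K τ c)
  set e := ord.degree g
  have h1' : IsSST τ (B + e) := by
    obtain ⟨f, hf⟩ := h1
    have hf0 : cellMap K τ f ≠ 0 := by
      change cellMap K τ f = _ at hf
      rw [hf]; exact mul_ne_zero hb hg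
    have := isSST_degree hd τ hf0
    change cellMap K τ f = _ at hf
    rwa [hf, MonomialOrder.degree_mul hb hg] at this
  have h2' : ∀ m : ℕ, IsSST τ (C + m • e) := fun m => by
    obtain ⟨f, hf⟩ := h2 m
    change cellMap K τ f = _ at hf
    have hf0 : cellMap K τ f ≠ 0 := by rw [hf]; exact mul_ne_zero hc (pow_ne_zero _ hg)
    have := isSST_degree hd τ hf0
    rwa [hf, MonomialOrder.degree_mul hc (pow_ne_zero _ hg), MonomialOrder.degree_pow] at this
  refine ⟨fun t t' => ?_, fun t t' ht i => ?_, fun t i hi => ?_⟩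
  · have := h1'.col t t'
    rw [tailN_add, tailN_add, hB.col t t'] at this
    omega
  · have := (h2' (tailN C t' (i + 1) + 1)).step t t' ht i
    rw [tailN_add, tailN_add, tailN_nsmul, tailN_nsmul] at this
    by_contra hlt
    have h3 : tailN e t' (i + 1) + 1 ≤ tailN e t i := by omega
    have := Nat.mul_le_mul_left (tailN C t' (i + 1) + 1) h3
    rw [mul_add, mul_one] at this
    omega
  · have := (h2' 1).supp t i hi
    simp only [one_smul, Finsupp.add_apply] at this
    omega

/-- The Schubert coordinate ring is integrally closed. -/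
theorem isIntegrallyClosed_quotient (hd : 0 < d) (τ : Idx d n) :
    IsIntegrallyClosed (PlRing K d n ⧸ RingHom.ker (cellMap K τ)) := by
  have : (RingHom.ker (cellMap K τ)).IsPrime := RingHom.ker_isPrime _
  refine isIntegrallyClosed_of_injective (RingHom.kerLift (cellMap K τ).toRingHom)
    (RingHom.kerLift_injective _) fun g a b c hb hc hab hcm => ?_
  obtain ⟨b, rfl⟩ := Ideal.Quotient.mk_surjective b
  obtain ⟨c, rfl⟩ := Ideal.Quotient.mk_surjective c
  obtain ⟨a, rfl⟩ := Ideal.Quotient.mk_surjective a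
  have hb' : cellMap K τ b ≠ 0 := fun h => hb (Ideal.Quotient.eq_zero_iff_mem.2 h)
  have hc' : cellMap K τ c ≠ 0 := fun h => hc (Ideal.Quotient.eq_zero_iff_mem.2 h)
  let Q : CRing K d n → Prop := fun g => cellMap K τ b * g ∈ (cellMap K τ).range ∧
    ∀ m : ℕ, cellMap K τ c * g ^ m ∈ (cellMap K τ).range
  have hQ : Q g := ⟨⟨a, hab.symm⟩, fun m => by
    obtain ⟨r, hr⟩ := hcm m
    obtain ⟨r, rfl⟩ := Ideal.Quotient.mk_surjective r
    exact ⟨r, hr.symm⟩⟩
  have hsub : ∀ g (s : K) (f : PlRing K d n), Q g → Q (g - s • cellMap K τ f) := by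
    rintro g s f ⟨hg1, hg2⟩
    have hf : ∀ f, cellMap K τ f ∈ (cellMap K τ).range := fun f => ⟨f, rfl⟩
    refine ⟨?_, fun m => ?_⟩
    · rw [mul_sub]
      exact sub_mem hg1 (mul_mem (hf b) (Subalgebra.smul_mem _ (hf f) s))
    · rw [sub_eq_add_neg, add_pow, Finset.mul_sum]
      refine sum_mem fun j _ => ?_
      rw [← mul_assoc, ← mul_assoc]
      exact mul_mem (mul_mem (hg2 j) (pow_mem (neg_mem (Subalgebra.smul_mem _ (hf f) s)) _))
        (natCast_mem _ _)
  obtain ⟨f, hf⟩ := mem_range_of_induct hd τ Q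
    (fun g hg hne => isSST_of_isolated hd τ hne hb' hc' hg.1 hg.2) hsub hQ
  exact ⟨Ideal.Quotient.mk _ f, hf⟩

theorem isDomain_quotient (τ : Idx d n) : IsDomain (PlRing K d n ⧸ RingHom.ker (cellMap K τ)) := by
  have : (RingHom.ker (cellMap K τ)).IsPrime := RingHom.ker_isPrime _
  infer_instance

end Groth.Agent.Lib.Grass.Normal
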