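import Groth.Agent.Lib.Grass.Determinantal
import Groth.Agent.Lib.Grass.Normal
import Groth.Agent.Lib.Grass.CM

/-!
# Determinantal rings: kernel of the pairing map, normality, Cohen–Macaulayness, dimension
-/

set_option linter.unusedSectionVars false

namespace Groth.Agent.Lib.Grass.DetRing

open W4bk4grassmannian MvPolynomial Finset Minors Cell Straighten Ideals BigCell Invariant Determinantal

universe u v

/-- Cohen–Macaulayness passes to the quotient by a nonzero element of a domain. -/
theorem isCohenMacaulayRing_quotient {R : Type u} [CommRing R] [IsNoetherianRing R] [IsDomain R]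
    [LocCoh.IsCohenMacaulayRing R] {x : R} (hx : x ≠ 0) :
    LocCoh.IsCohenMacaulayRing (R ⧸ Ideal.span {x}) := by
  refine FreeCM.isCohenMacaulayRing_of_forall_isMaximal _ fun n hn => ?_
  set m := n.comap (Ideal.Quotient.mk (Ideal.span {x}))
  have hL : LocCoh.IsCohenMacaulayLocalRing (Localization.AtPrime m) :=
    LocCoh.IsCohenMacaulayRing.isCohenMacaulayLocalRing_localization m
  set y := algebraMap R (Localization.AtPrime m) x
  let φ : Localization.AtPrime m →+* Localization.AtPrime n :=
    Localization.localRingHom m n (Ideal.Quotient.mk (Ideal.span {x})) rfl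
  have hφ : ∀ (a : R) (s : m.primeCompl), φ (IsLocalization.mk' _ a s) =
      IsLocalization.mk' _ (Ideal.Quotient.mk (Ideal.span {x}) a)
        (⟨Ideal.Quotient.mk (Ideal.span {x}) s, s.2⟩ : n.primeCompl) := fun a s =>
    Localization.localRingHom_mk' _ _ _ _ a s
  have hsurj : Function.Surjective φ := by
    intro z
    obtain ⟨⟨a, s⟩, rfl⟩ := IsLocalization.mk'_surjective (S := Localization.AtPrime n) (M := n.primeCompl) z
    obtain ⟨a, rfl⟩ := Ideal.Quotient.mk_surjective a
    obtain ⟨s, hs⟩ := s
    obtain ⟨s, rfl⟩ := Ideal.Quotient.mk_surjective s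
    exact ⟨IsLocalization.mk' _ a (⟨s, hs⟩ : m.primeCompl), hφ a ⟨s, hs⟩⟩
  have hyφ : φ y = 0 := by
    simp only [y, φ, Localization.localRingHom_to_map, Ideal.Quotient.eq_zero_iff_mem.2
      (Ideal.mem_span_singleton_self x), map_zero]
  have hker : RingHom.ker φ = Ideal.span {y} := by
    refine le_antisymm (fun z hz => ?_) ?_
    · obtain ⟨⟨a, s⟩, rfl⟩ := IsLocalization.mk'_surjective (S := Localization.AtPrime m) (M := m.primeCompl) z
      rw [RingHom.mem_ker, hφ, IsLocalization.mk'_eq_zero_iff] at hz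
      obtain ⟨⟨t, ht⟩, hta⟩ := hz
      obtain ⟨t, rfl⟩ := Ideal.Quotient.mk_surjective t
      rw [← map_mul, Ideal.Quotient.eq_zero_iff_mem, Ideal.mem_span_singleton] at hta
      obtain ⟨c, hc⟩ := hta
      refine Ideal.mem_span_singleton.2 ⟨IsLocalization.mk' _ c (⟨t, ht⟩ * s), ?_⟩
      simp only [y, IsLocalization.mul_mk'_eq_mk'_of_mul, ← hc]
      exact (IsLocalization.mk'_eq_iff_eq.2 (by push_cast; ring)).symm
    · rw [Ideal.span_singleton_le_iff_mem]; exact hyφ
  have hy0 : y ≠ 0 := fun h => hx ((IsLocalization.to_map_eq_zero_iff _ m.primeCompl_le_nonZeroDivisors).1 h)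
  have : IsDomain (Localization.AtPrime m) :=
    IsLocalization.isDomain_localization m.primeCompl_le_nonZeroDivisors
  have hreg : IsSMulRegular (Localization.AtPrime m) y :=
    isSMulRegular_iff_right_eq_zero_of_smul.2 fun z hz => (mul_eq_zero.1 hz).resolve_left hy0
  let e : (Localization.AtPrime m ⧸ Ideal.span {y}) ≃+* Localization.AtPrime n :=
    (Ideal.quotEquivOfEq hker.symm).trans (RingHom.quotientKerEquivOfSurjective hsurj)
  have : IsLocalRing (Localization.AtPrime m ⧸ Ideal.span {y}) := e.symm.isLocalRing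
  have hymax : y ∈ IsLocalRing.maximalIdeal (Localization.AtPrime m) := by
    refine fun hu => zero_ne_one (α := Localization.AtPrime n) ?_
    exact ((hyφ ▸ hu.map φ : IsUnit (0 : Localization.AtPrime n))).mul_left_cancel (by simp)
  have := (Groth.Agent.Lib.Depth.CM.isCohenMacaulayLocalRing_quotient_span_singleton_iff hymax hreg).2 hL
  exact Groth.Agent.Lib.Excellent.Transport.isCohenMacaulayLocalRing_of_ringEquiv e

variable {K : Type u} [Field K] {d r : ℕ}

lemma constantCoeff_sub_one : constantCoeff (X (β d r) - 1 : PlRing K d (d + r)) = -1 := by simp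

variable [Infinite K]

/-- The determinantal ring as a quotient of the Plücker ring. -/
noncomputable def quotEquivDet (hd : 0 < d) (τ : Idx d (d + r)) :
    ((PlRing K d (d + r) ⧸ schubertVanishing K d (d + r) τ) ⧸
        Ideal.span {Ideal.Quotient.mk (schubertVanishing K d (d + r) τ) (X (β d r) - 1)}) ≃+*
      (CellRing K d r ⧸ detVan (K := K) τ) :=
  (Ideal.quotEquivOfEq (by rw [Ideal.map_span, Set.image_singleton])).trans <|
    (DoubleQuot.quotQuotEquivQuotSup _ _).trans <|
      (Ideal.quotEquivOfEq (by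
        rw [← comap_detVan hd, ← RingHom.comap_ker]
        simp [Ideal.mk_ker]
        rfl)).trans
        (RingHom.quotientKerEquivOfSurjective
          (f := (Ideal.Quotient.mk (detVan τ)).comp (cellRes K d r).toRingHom)
          (Ideal.Quotient.mk_surjective.comp cellRes_surjective))

lemma mk_sub_one_ne_zero (hd : 0 < d) (τ : Idx d (d + r)) :
    Ideal.Quotient.mk (schubertVanishing K d (d + r) τ) (X (β d r) - 1) ≠ 0 := fun h => by
  have := Bottom.constantCoeff_eq_zero hd (Ideal.Quotient.eq_zero_iff_mem.1 h)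
  simp at this

theorem isCohenMacaulayRing_detVan [IsAlgClosed K] (hd : 0 < d) (τ : Idx d (d + r)) :
    LocCoh.IsCohenMacaulayRing (CellRing K d r ⧸ detVan (K := K) τ) := by
  haveI := CM.isCohenMacaulayRing_schubert (K := K) hd τ
  haveI := isPrime_schubert (K := K) hd τ
  have h := isCohenMacaulayRing_quotient (mk_sub_one_ne_zero (K := K) hd τ)
  exact Groth.Agent.Lib.Excellent.Transport.isoInvariant_isCohenMacaulayRing _ _ (quotEquivDet hd τ) h

theorem ringKrullDim_detVan (hd : 0 < d) (τ : Idx d (d + r)) :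
    ringKrullDim (CellRing K d r ⧸ detVan (K := K) τ) = ((codeg τ : ℕ) : WithBot ℕ∞) := by
  set J := schubertVanishing K d (d + r) τ
  haveI := isPrime_schubert (K := K) hd τ
  set R := PlRing K d (d + r) ⧸ J
  set x : R := Ideal.Quotient.mk J (X (β d r) - 1)
  let e := quotEquivDet (K := K) hd τ
  refine (ringKrullDim_eq_of_ringEquiv (R := R ⧸ Ideal.span {x}) e).symm.trans ?_
  haveI := isPrime_detVan (K := K) hd τ
  haveI : IsDomain (R ⧸ Ideal.span {x}) := e.toMulEquiv.isDomain
  haveI hP : (Ideal.span {x}).IsPrime := (Ideal.Quotient.isDomain_iff_prime _).1 this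
  have hx : x ≠ 0 := mk_sub_one_ne_zero hd τ
  have hne : Ideal.span {x} ≠ ⊥ := by simpa using hx
  have hmin : Ideal.span {x} ∈ (Ideal.span {x}).minimalPrimes := by
    rw [Ideal.minimalPrimes_eq_subsingleton_self]; rfl
  have hh : (Ideal.span {x}).height = 1 :=
    le_antisymm (Ideal.height_le_one_of_isPrincipal_of_mem_minimalPrimes _ _ hmin)
      (by simpa [Order.one_le_iff_ne_zero, Ideal.height_eq_zero_iff] using hne)
  rw [Groth.Agent.Lib.Dim.Basic.ringKrullDim_quotient_prime K]
  have h1 := Groth.Agent.Lib.Dim.Basic.dimQ_add_one_of_height_one K (Ideal.span {x}) hh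
  have h2 : (Groth.Agent.Lib.Dim.Basic.trdegNat K R : WithBot ℕ∞) = ((codeg τ + 1 : ℕ) : WithBot ℕ∞) :=
    (Groth.Agent.Lib.Dim.Basic.ringKrullDim_eq_trdegNat K R).symm.trans (Dim.ringKrullDim_schubert hd τ)
  have h3 : Groth.Agent.Lib.Dim.Basic.trdegNat K R = codeg τ + 1 := by exact_mod_cast h2
  rw [show Groth.Agent.Lib.Dim.Basic.dimQ K (Ideal.span {x}) = codeg τ by omega]

theorem isIntegrallyClosed_detVan (hd : 0 < d) (τ : Idx d (d + r)) :
    IsIntegrallyClosed (CellRing K d r ⧸ detVan (K := K) τ) := by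
  haveI := isPrime_detVan (K := K) hd τ
  haveI := isPrime_schubert (K := K) hd τ
  set J := schubertVanishing K d (d + r) τ
  set R := PlRing K d (d + r) ⧸ J
  haveI : IsIntegrallyClosed R := by
    have h := Normal.isIntegrallyClosed_quotient (K := K) hd τ
    rw [← schubertVanishing_eq_ker hd] at h
    exact h
  set π : PlRing K d (d + r) →+* CellRing K d r ⧸ detVan (K := K) τ :=
    (Ideal.Quotient.mk (detVan τ)).comp (cellRes K d r).toRingHom with hπ
  have hπs : Function.Surjective π := Ideal.Quotient.mk_surjective.comp cellRes_surjective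
  have hπb : π (X (β d r)) = 1 := by simp [π, cellRes_bot]
  have hhom : ∀ (G : PlRing K d (d + r)) (M : ℕ), G.totalDegree ≤ M → π (homog M G) = π G := by
    intro G M h
    simp only [π, RingHom.comp_apply, AlgHom.toRingHom_eq_coe, RingHom.coe_coe, cellRes_homog h]
  refine (isIntegrallyClosed_iff (FractionRing (CellRing K d r ⧸ detVan (K := K) τ))).2 fun {z} hz => ?_
  obtain ⟨a, b, hb, rfl⟩ := IsFractionRing.div_surjective (A := CellRing K d r ⧸ detVan (K := K) τ) z
  have hb0 : algebraMap _ (FractionRing (CellRing K d r ⧸ detVan (K := K) τ)) b ≠ 0 :=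
    IsFractionRing.to_map_ne_zero_of_mem_nonZeroDivisors hb
  obtain ⟨p, hp, hp0⟩ := hz
  obtain ⟨A, rfl⟩ := hπs a
  obtain ⟨B, rfl⟩ := hπs b
  set N := p.natDegree
  choose C hC using fun i => hπs (p.coeff i)
  set M := max A.totalDegree B.totalDegree
  set e := (Finset.range N).sup fun i => (C i).totalDegree
  set A' := homog M A
  set B' := homog M B
  set C' := fun i => homog e (C i)
  have hA' : π A' = π A := hhom A M (le_max_left _ _)
  have hB' : π B' = π B := hhom B M (le_max_right _ _)
  have hC' : ∀ i ∈ Finset.range N, π (C' i) = p.coeff i := fun i hi => by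
    rw [hhom (C i) e (Finset.le_sup (f := fun i => (C i).totalDegree) hi), hC]
  set G := X (β d r) ^ e * A' ^ N + ∑ i ∈ Finset.range N, C' i * (A' ^ i * B' ^ (N - i))
  have hGhom : G.IsHomogeneous (e + M * N) := by
    refine IsHomogeneous.add ((isHomogeneous_X_pow (R := K) (β d r) e).mul ?_) ?_
    · exact (homog_isHomogeneous M A).pow N
    · refine IsHomogeneous.sum _ _ _ fun i hi => ?_
      have := (homog_isHomogeneous e (C i)).mul (((homog_isHomogeneous M A).pow i).mul
        ((homog_isHomogeneous M B).pow (N - i)))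
      rw [← mul_add, show i + (N - i) = N by simp at hi; omega] at this
      exact this
  have hG0 : π G = 0 := by
    apply IsFractionRing.injective (CellRing K d r ⧸ detVan (K := K) τ)
      (FractionRing (CellRing K d r ⧸ detVan (K := K) τ))
    simp only [G, map_add, map_mul, map_pow, map_sum, map_zero, hπb, one_pow, one_mul, hA', hB']
    rw [Polynomial.eval₂_eq_sum_range, Finset.sum_range_succ, hp.coeff_natDegree, map_one, one_mul] at hp0
    have h2 := congrArg (· * algebraMap _ (FractionRing (CellRing K d r ⧸ detVan (K := K) τ)) (π B) ^ N) hp0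
    simp only [add_mul, Finset.sum_mul, zero_mul, div_pow] at h2
    rw [div_mul_cancel₀ _ (pow_ne_zero _ hb0)] at h2
    rw [← h2, add_comm]
    congr 1
    refine Finset.sum_congr rfl fun i hi => ?_
    rw [hC' i hi, mul_assoc, div_mul_eq_mul_div, ← pow_sub_mul_pow _ (show i ≤ N by simp at hi; omega),
      ← mul_assoc (algebraMap _ _ (π A) ^ i), mul_div_cancel_right₀ _ (pow_ne_zero _ hb0)]
  have hGJ : G ∈ J := mem_of_cellRes_mem hd τ hGhom (Ideal.Quotient.eq_zero_iff_mem.1 hG0)
  set q := Ideal.Quotient.mk J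
  have hB0 : q B' ≠ 0 := by
    intro h
    refine hb0 ?_
    rw [← hB']
    have hmem : cellRes K d r B' ∈ detVan τ :=
      Ideal.mem_map_of_mem _ (Ideal.Quotient.eq_zero_iff_mem.1 h)
    have : π B' = 0 := Ideal.Quotient.eq_zero_iff_mem.2 hmem
    rw [this, map_zero]
  set Z : FractionRing R := algebraMap R _ (q (X (β d r)) ^ e * q A') / algebraMap R _ (q B')
  have hBf : algebraMap R (FractionRing R) (q B') ≠ 0 :=
    IsFractionRing.to_map_ne_zero_of_mem_nonZeroDivisors (mem_nonZeroDivisors_of_ne_zero hB0)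
  have hint : IsIntegral R Z := by
    refine ⟨Polynomial.X ^ N + ∑ i ∈ Finset.range N,
      Polynomial.C (q (X (β d r)) ^ (e * (N - 1 - i)) * q (C' i)) * Polynomial.X ^ i, ?_, ?_⟩
    · refine Polynomial.monic_X_pow_add ((Polynomial.degree_sum_le _ _).trans_lt ?_)
      refine (Finset.sup_lt_iff (WithBot.bot_lt_coe N)).2 fun i hi => ?_
      exact (Polynomial.degree_C_mul_X_pow_le i _).trans_lt (WithBot.coe_lt_coe.2 (by simpa using hi))
    · apply mul_right_cancel₀ (pow_ne_zero N hBf)
      rw [zero_mul, Polynomial.eval₂_add, Polynomial.eval₂_X_pow, Polynomial.eval₂_finsetSum]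
      simp only [Polynomial.eval₂_mul, Polynomial.eval₂_C, Polynomial.eval₂_X_pow, Z, div_pow]
      rw [add_mul, div_mul_cancel₀ _ (pow_ne_zero N hBf), Finset.sum_mul]
      rcases Nat.eq_zero_or_pos N with hN | hN
      · have h0 : q G = 0 := Ideal.Quotient.eq_zero_iff_mem.2 hGJ
        have := congrArg (algebraMap R (FractionRing R)) h0
        simp only [G, hN, Finset.range_zero, Finset.sum_empty, add_zero, pow_zero, mul_one, map_pow, map_zero] at this ⊢
        exact absurd this (pow_ne_zero _ fun h =>
          (X_mem_schubert_iff hd).1 (Ideal.Quotient.eq_zero_iff_mem.1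
            (IsFractionRing.injective R (FractionRing R) (h.trans (map_zero _).symm))) (bot_le _ τ))
      have h0 : q (X (β d r) ^ (e * (N - 1)) * G) = 0 :=
        Ideal.Quotient.eq_zero_iff_mem.2 (J.mul_mem_left _ hGJ)
      have := congrArg (algebraMap R (FractionRing R)) h0
      simp only [G, mul_add, Finset.mul_sum, map_add, map_mul, map_pow, map_sum, map_zero] at this
      rw [← this]
      congr 1
      · rw [map_mul, map_pow, mul_pow, ← pow_mul, ← mul_assoc, ← pow_add]
        congr 2
        conv_lhs => rw [show N = N - 1 + 1 by omega]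
        ring
      · refine Finset.sum_congr rfl fun i hi => ?_
        have hi' : i < N := by simpa using hi
        rw [map_mul, map_pow, map_mul, map_pow, mul_pow, ← pow_mul, mul_assoc, div_mul_eq_mul_div,
          ← pow_sub_mul_pow _ hi'.le, ← mul_assoc _ (algebraMap R (FractionRing R) (q B') ^ (N - i)),
          mul_div_cancel_right₀ _ (pow_ne_zero _ hBf)]
        have he : e * (N - 1 - i) + e * i = e * (N - 1) := by
          rw [← mul_add]; congr 1; omega
        rw [← he, pow_add]
        ring
  obtain ⟨H, hH⟩ := (IsIntegrallyClosed.isIntegral_iff).1 hint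
  obtain ⟨H, rfl⟩ := Ideal.Quotient.mk_surjective H
  have key : X (β d r) ^ e * A' - H * B' ∈ J := by
    rw [← Ideal.Quotient.eq_zero_iff_mem, map_sub, sub_eq_zero, map_mul, map_mul, map_pow]
    apply IsFractionRing.injective R (FractionRing R)
    rw [map_mul (algebraMap R (FractionRing R)) (q H), hH, div_mul_cancel₀ _ hBf]
  refine ⟨π H, ?_⟩
  rw [eq_div_iff hb0, ← map_mul]
  congr 1
  have : π (X (β d r) ^ e * A' - H * B') = 0 :=
    Ideal.Quotient.eq_zero_iff_mem.2 (Ideal.mem_map_of_mem _ key)
  rw [map_sub, sub_eq_zero, map_mul, map_mul, map_pow, hπb, one_pow, one_mul, hA', hB'] at this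
  exact this.symm

theorem minorIdeal_eq_bot {R : Type u} [CommRing R] {m q t : ℕ} (A : Matrix (Fin m) (Fin q) R)
    (h : m < t ∨ q < t) : CAlgX.minorIdeal A t = ⊥ := by
  rw [CAlgX.minorIdeal, Ideal.span_eq_bot]
  rintro _ ⟨⟨f, g⟩, rfl⟩
  rcases h with h | h
  · obtain ⟨a, b, hne, he⟩ := Fintype.exists_ne_map_eq_of_card_lt f (by simpa using h)
    exact Matrix.det_zero_of_row_eq hne (funext fun j => by simp [he])
  · obtain ⟨a, b, hne, he⟩ := Fintype.exists_ne_map_eq_of_card_lt g (by simpa using h)
    exact Matrix.det_zero_of_column_eq hne fun j => by simp [he]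

lemma exists_factor {m q n : ℕ} (Z : Matrix (Fin m) (Fin q) K)
    (h : ∀ (f : Fin (n + 1) → Fin m) (g : Fin (n + 1) → Fin q), (Z.submatrix f g).det = 0) :
    ∃ (U : Matrix (Fin m) (Fin n) K) (W : Matrix (Fin n) (Fin q) K), Z = U * W := by
  classical
  set S := Submodule.span K (Set.range Z.transpose)
  obtain ⟨b, hb, hspan, hind⟩ := exists_linearIndependent K (Set.range Z.transpose)
  have hbfin : b.Finite := (Set.finite_range _).subset hb
  haveI : Fintype b := hbfin.fintype
  choose g hg using fun x : b => hb x.2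
  have hcard : Fintype.card b ≤ n := by
    by_contra hc
    obtain ⟨e⟩ : Nonempty (Fin (n + 1) ↪ b) :=
      Function.Embedding.nonempty_of_card_le (by rw [Fintype.card_fin]; omega)
    have hli : LinearIndependent K (Z.submatrix id (g ∘ e)).transpose := by
      have : (Z.submatrix id (g ∘ e)).transpose = (fun x : b => (x : Fin m → K)) ∘ e :=
        funext fun k => hg (e k)
      rw [this]
      exact hind.comp e e.injective
    obtain ⟨θ, hθ⟩ := Rank.exists_minor_ne_zero _ hli
    apply hθ
    rw [mdet, Matrix.submatrix_submatrix]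
    exact h _ _
  obtain ⟨ι⟩ : Nonempty (b ↪ Fin n) := Function.Embedding.nonempty_of_card_le (by simpa using hcard)
  have hmem : ∀ j, ∃ c : b → K, ∑ x, c x • (x : Fin m → K) = Z.transpose j := fun j => by
    refine (Submodule.mem_span_range_iff_exists_fun K).1 ?_
    rw [Subtype.range_coe, hspan]
    exact Submodule.subset_span ⟨j, rfl⟩
  choose c hc using hmem
  refine ⟨Matrix.of fun i k => if h : ∃ x, ι x = k then (h.choose : Fin m → K) i else 0,
    Matrix.of fun k j => if h : ∃ x, ι x = k then c j h.choose else 0, ?_⟩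
  ext i j
  rw [Matrix.mul_apply, show Z i j = Z.transpose j i from rfl, ← hc j, Finset.sum_apply]
  rw [← Finset.sum_subset (Finset.subset_univ (univ.image ι))]
  · rw [Finset.sum_image ι.injective.injOn]
    refine Finset.sum_congr rfl fun x _ => ?_
    have h : ∃ y, ι y = ι x := ⟨x, rfl⟩
    simp only [Matrix.of_apply, dif_pos h, ι.injective h.choose_spec, Pi.smul_apply, smul_eq_mul, mul_comm]
  · intro k _ hk
    simp only [mem_image, mem_univ, true_and] at hk
    simp only [Matrix.of_apply, dif_neg hk, zero_mul]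

theorem ker_pairingMap (m q n : ℕ) :
    RingHom.ker (pairingMap K n m q).toRingHom = CAlgX.minorIdeal (genMatrix K m q) (n + 1) := by
  refine le_antisymm (fun g hg => ?_) (Ideal.span_le.2 ?_)
  swap
  · rintro _ ⟨⟨f, g⟩, rfl⟩
    show pairingMap K n m q ((genMatrix K m q).submatrix f g).det = 0
    rw [AlgHom.map_det]
    let U : Matrix (Fin (n + 1)) (Fin n ⊕ Fin 1) (PairRing K n m q) :=
      Matrix.of fun a => Sum.elim (fun k => X (Sum.inl (f a, k))) fun _ => 0
    let W : Matrix (Fin n ⊕ Fin 1) (Fin (n + 1)) (PairRing K n m q) :=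
      Matrix.of fun k b => Sum.elim (fun k => X (Sum.inr (k, g b))) (fun _ => 0) k
    have : (pairingMap K n m q).mapMatrix ((genMatrix K m q).submatrix f g) =
        U.submatrix id finSumFinEquiv.symm * W.submatrix finSumFinEquiv.symm id := by
      rw [Matrix.submatrix_mul_equiv, Matrix.submatrix_id_id]
      ext a b
      simp [U, W, Matrix.mul_apply, genMatrix, pairingMap, Fintype.sum_sum_type]
    rw [this, Matrix.det_mul, Matrix.det_eq_zero_of_column_eq_zero (finSumFinEquiv (Sum.inr 0))
      (fun a => by rw [Matrix.submatrix_apply, Equiv.symm_apply_apply]; rfl), zero_mul]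
  have hvan : ∀ Z : Fin m × Fin q → K, (∃ (U : Matrix (Fin m) (Fin n) K) (W : Matrix (Fin n) (Fin q) K),
      ∀ i j, Z (i, j) = (U * W) i j) → eval Z g = 0 := by
    rintro Z ⟨U, W, hZ⟩
    have := congrArg (eval (Sum.elim (fun p => U p.1 p.2) fun p => W p.1 p.2)) hg
    rw [map_zero] at this
    rw [← this, ← aeval_eq_eval, ← aeval_eq_eval]
    show aeval Z g = ((aeval _).comp (pairingMap K n m q)) g
    congr 1
    refine MvPolynomial.algHom_ext fun ⟨i, j⟩ => ?_
    simp [pairingMap, hZ, Matrix.mul_apply]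
  by_cases hbig : m < n + 1 ∨ q < n + 1
  · rw [minorIdeal_eq_bot _ hbig, Ideal.mem_bot]
    refine MvPolynomial.funext fun Z => ?_
    rw [map_zero]
    obtain ⟨U, W, h⟩ := exists_factor (Matrix.of fun i j => Z (i, j)) (n := n) fun f g => by
      rcases hbig with hlt | hlt
      · obtain ⟨a, b, hne, he⟩ := Fintype.exists_ne_map_eq_of_card_lt f (by simpa using hlt)
        exact Matrix.det_zero_of_row_eq hne (funext fun j => by simp [he])
      · obtain ⟨a, b, hne, he⟩ := Fintype.exists_ne_map_eq_of_card_lt g (by simpa using hlt)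
        exact Matrix.det_zero_of_column_eq hne fun j => by simp [he]
    exact hvan Z ⟨U, W, fun i j => congrFun (congrFun h i) j⟩
  simp only [not_or, not_lt] at hbig
  rw [← detVan_tau (K := K) (show 0 < q by omega) (show 1 ≤ n + 1 by omega) hbig.2
    (show n + 1 ≤ m + 1 by omega), mem_detVan_iff (show 0 < q by omega)]
  intro Z hZ
  obtain ⟨U, W, h⟩ := exists_factor (Matrix.of fun i j => Z (i, j)) (n := n) fun f g => by
    have hmem : ((genMatrix K m q).submatrix f g).det ∈ CAlgX.minorIdeal (genMatrix K m q) (n + 1) :=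
      Ideal.subset_span ⟨(f, g), rfl⟩
    rw [← detVan_tau (K := K) (show 0 < q by omega) (show 1 ≤ n + 1 by omega) hbig.2
      (show n + 1 ≤ m + 1 by omega)] at hmem
    have h0 := vanish_of_mem hmem Z hZ
    rw [RingHom.map_det] at h0
    rw [← h0]
    refine congrArg Matrix.det (Matrix.ext fun a b => ?_)
    simp [genMatrix]
  exact hvan Z ⟨U, W, fun i j => congrFun (congrFun h i) j⟩

lemma codeg_tau {t : ℕ} (ht : 1 ≤ t) (htd : t ≤ d + 1) (htr : t ≤ r + 1) :
    codeg (tau (d := d) (r := r) ht htd htr) = (t - 1) * (r + d - t + 1) := by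
  have h : ∀ s : Fin d, ((tau (d := d) (r := r) ht htd htr).1 s).val - s.val =
      if s.val < d + 1 - t then t - 1 else r := fun s => by
    simp only [tau]
    split_ifs <;> simp only <;> omega
  unfold codeg
  rw [Finset.sum_congr rfl fun s _ => h s, Finset.sum_ite, Finset.sum_const, Finset.sum_const,
    Finset.filter_not, Finset.card_sdiff_of_subset (Finset.filter_subset _ _), Fin.card_filter_val_lt,
    Finset.card_univ, Fintype.card_fin, smul_eq_mul, smul_eq_mul, min_eq_right (by omega)]
  obtain ⟨t, rfl⟩ : ∃ t', t = t' + 1 := ⟨t - 1, by omega⟩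
  rw [show d + 1 - (t + 1) = d - t by omega, show d - (d - t) = t by omega, Nat.add_sub_cancel]
  by_cases h0 : t = 0
  · subst h0; simp
  rw [show r + d - (t + 1) + 1 = (d - t) + r by omega, mul_add, mul_comm (d - t) t]

end Groth.Agent.Lib.Grass.DetRing
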