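import Groth.Agent.Lib.Grass.Invariant
import Mathlib.LinearAlgebra.Matrix.Rank
import Mathlib.LinearAlgebra.Matrix.NonsingularInverse
import Mathlib.LinearAlgebra.Dimension.Constructions

/-!
# Full rank matrices and their minors
-/

set_option linter.unusedSectionVars false

namespace Groth.Agent.Lib.Grass.Rank

open W4bk4grassmannian Finset Minors Invariant

universe u

variable {K : Type u} [Field K] {d n : ℕ}

/-- A matrix with independent columns has a nonzero maximal minor. -/
theorem exists_minor_ne_zero (A : Matrix (Fin n) (Fin d) K) (hA : LinearIndependent K A.transpose) :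
    ∃ θ : Idx d n, mdet A θ.1 ≠ 0 := by
  have hr : A.rank = d := by
    have h : LinearIndependent K A.transpose.row := hA
    rw [← Matrix.rank_transpose, h.rank_matrix, Fintype.card_fin]
  have htop : Submodule.span K (Set.range A.row) = ⊤ := by
    apply Submodule.eq_top_of_finrank_eq
    rw [← Matrix.rank_eq_finrank_span_row, hr, Module.finrank_fintype_fun_eq_card, Fintype.card_fin]
  obtain ⟨b, hb, hspan, hind⟩ := exists_linearIndependent K (Set.range A.row)
  rw [htop] at hspan
  let B : Module.Basis b K (Fin d → K) := Module.Basis.mk hind (by rw [Subtype.range_coe, hspan])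
  let e : Fin d ≃ b := (Pi.basisFun K (Fin d)).indexEquiv B
  have hpre : ∀ k, ∃ i, A.row i = (e k : Fin d → K) := fun k => hb (e k).2
  choose a ha using hpre
  have hindA : LinearIndependent K (A.submatrix a id).row := by
    have : (A.submatrix a id).row = (fun x : b => (x : Fin d → K)) ∘ e := funext fun k => ha k
    rw [this]
    exact hind.comp e e.injective
  have hne : mdet A a ≠ 0 := ((Matrix.isUnit_iff_isUnit_det _).1
    (Matrix.linearIndependent_rows_iff_isUnit.1 hindA)).ne_zero
  have hinj : Function.Injective a := fun k l h => e.injective (Subtype.ext (by rw [← ha, ← ha, h]))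
  have hcard : (univ.image a).card = d := by
    rw [card_image_of_injective _ hinj, card_univ, Fintype.card_fin]
  obtain ⟨σ, hσ, -⟩ := exists_sort a hcard
  refine ⟨sortIdx d n a hcard, fun h0 => hne ?_⟩
  rw [← hσ, mdet_comp_perm, h0, mul_zero]

lemma mul_mdet (A : Matrix (Fin n) (Fin d) K) (g : Matrix (Fin d) (Fin d) K) (a : Fin d → Fin n) :
    mdet (A * g) a = mdet A a * g.det := by
  rw [mdet, mdet, Matrix.submatrix_mul A g _ _ id Function.bijective_id,
    Matrix.submatrix_id_id, Matrix.det_mul]

/-- Matrices with proportional minors differ by a change of basis. -/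
theorem exists_eq_mul_of_minors (A A' : Matrix (Fin n) (Fin d) K) (c : K) (hc : c ≠ 0)
    {θ₀ : Idx d n} (h₀ : mdet A' θ₀.1 ≠ 0)
    (h : ∀ θ : Idx d n, mdet A θ.1 = c * mdet A' θ.1) :
    ∃ g : Matrix (Fin d) (Fin d) K, IsUnit g.det ∧ A = A' * g := by
  set P := A.submatrix θ₀.1 id
  set P' := A'.submatrix θ₀.1 id
  have hP : IsUnit P.det := isUnit_iff_ne_zero.2 (by
    change mdet A θ₀.1 ≠ 0
    rw [h]; exact mul_ne_zero hc h₀)
  have hP' : IsUnit P'.det := isUnit_iff_ne_zero.2 h₀
  have hall : ∀ a, mdet A a = c * mdet A' a := by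
    intro a
    rcases Classical.em (Function.Injective a) with hi | hi
    · have hcard : (univ.image a).card = d := by
        rw [card_image_of_injective _ hi, card_univ, Fintype.card_fin]
      obtain ⟨σ, hσ, -⟩ := exists_sort a hcard
      rw [← hσ, mdet_comp_perm, mdet_comp_perm, h]; ring
    · simp only [Function.Injective, not_forall] at hi
      obtain ⟨s, t, hst, hne⟩ := hi
      rw [mdet_eq_zero_of_eq A a hne hst, mdet_eq_zero_of_eq A' a hne hst, mul_zero]
  have key : A * P⁻¹ = A' * P'⁻¹ := by
    ext i t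
    have h1 : (A * P⁻¹).submatrix θ₀.1 id = 1 := by
      rw [Matrix.submatrix_mul A P⁻¹ _ _ id Function.bijective_id, Matrix.submatrix_id_id]
      exact Matrix.mul_nonsing_inv P hP
    have h2 : (A' * P'⁻¹).submatrix θ₀.1 id = 1 := by
      rw [Matrix.submatrix_mul A' P'⁻¹ _ _ id Function.bijective_id, Matrix.submatrix_id_id]
      exact Matrix.mul_nonsing_inv P' hP'
    rw [← mdet_update_one _ θ₀.1 t i h1, ← mdet_update_one _ θ₀.1 t i h2, mul_mdet, mul_mdet, hall,
      Matrix.det_nonsing_inv, Matrix.det_nonsing_inv, Ring.inverse_eq_inv',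
      show P.det = c * P'.det from h θ₀]
    have : P'.det ≠ 0 := h₀
    field_simp
  refine ⟨P'⁻¹ * P, ?_, ?_⟩
  · rw [Matrix.det_mul, Matrix.det_nonsing_inv]
    rw [Ring.inverse_eq_inv']; exact (isUnit_iff_ne_zero.2 (inv_ne_zero hP'.ne_zero)).mul hP
  · rw [← Matrix.mul_assoc, ← key, Matrix.mul_assoc, Matrix.nonsing_inv_mul P hP, Matrix.mul_one]

lemma span_cols_mul (A : Matrix (Fin n) (Fin d) K) (g : Matrix (Fin d) (Fin d) K) :
    Submodule.span K (Set.range (A * g).transpose) ≤ Submodule.span K (Set.range A.transpose) := by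
  rw [Submodule.span_le]
  rintro _ ⟨t, rfl⟩
  have : (A * g).transpose t = ∑ k, g k t • A.transpose k := by
    funext i
    simp [Matrix.mul_apply, Finset.sum_apply, mul_comm]
  rw [this]
  exact Submodule.sum_mem _ fun k _ => Submodule.smul_mem _ _ (Submodule.subset_span ⟨k, rfl⟩)

end Groth.Agent.Lib.Grass.Rank
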