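import Groth.Agent.Lib.Grass.UFD
import Mathlib.RingTheory.MvPolynomial.Homogeneous
import Mathlib.Algebra.Polynomial.Roots

/-!
# Unions of Schubert divisors: lattice lemmas, homogeneity, dimension, radical of the rank sums
-/

set_option linter.unusedSectionVars false

namespace Groth.Agent.Lib.Grass.Union

open W4bk4grassmannian MvPolynomial Finset Minors Cell Straighten Ideals

universe u

variable {d n : ℕ} {K : Type u} [Field K] [Infinite K]

/-- The ideal of a union of Schubert varieties. -/
noncomputable def unionIdeal (S : Finset (Idx d n)) : Ideal (PlRing K d n) :=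
  ⨅ φ ∈ S, schubertVanishing K d n φ

lemma mem_unionIdeal {S : Finset (Idx d n)} {f : PlRing K d n} :
    f ∈ unionIdeal S ↔ ∀ φ ∈ S, f ∈ schubertVanishing K d n φ := by
  simp [unionIdeal, Submodule.mem_iInf]

lemma unionIdeal_singleton (φ : Idx d n) : unionIdeal (K := K) {φ} = schubertVanishing K d n φ := by
  ext f; simp [mem_unionIdeal]

lemma unionIdeal_insert (φ : Idx d n) (S : Finset (Idx d n)) :
    unionIdeal (K := K) (insert φ S) = schubertVanishing K d n φ ⊓ unionIdeal S := by
  ext f; simp [mem_unionIdeal, Submodule.mem_inf]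

theorem schubert_sup_union (hd : 0 < d) (φ : Idx d n) (S : Finset (Idx d n)) :
    schubertVanishing K d n φ ⊔ unionIdeal S =
      unionIdeal (S.image fun ψ => W4bk4grassmannian.inf φ ψ) := by
  refine le_antisymm (sup_le ?_ ?_) fun f hf => ?_
  · intro f hf
    rw [mem_unionIdeal]
    intro a ha
    obtain ⟨ψ, -, rfl⟩ := Finset.mem_image.1 ha
    exact schubert_anti hd (fun t => min_le_left _ _) hf
  · intro f hf
    rw [mem_unionIdeal]
    intro a ha
    obtain ⟨ψ, hψ, rfl⟩ := Finset.mem_image.1 ha
    exact schubert_anti hd (fun t => min_le_right _ _) (mem_unionIdeal.1 hf ψ hψ)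
  rw [mem_unionIdeal] at hf
  obtain ⟨g, hg⟩ := exists_coords f
  refine mem_of_coords (I := _ ⊔ _) ((plIdealTop_le hd φ).trans le_sup_left) hg fun x hx hne => ?_
  by_cases h : ∀ k, x.2.1 k ≤ φ
  · refine Ideal.mem_sup_right (mem_unionIdeal.2 fun ψ hψ => chainMon_mem_schubert hd fun h' => ?_)
    exact hne ((mem_schubert_iff_coords hd _ hg).1 (hf _ (mem_image_of_mem _ hψ)) x hx
      fun k t => le_min (h k t) (h' k t))
  · exact Ideal.mem_sup_left (chainMon_mem_schubert hd h)

lemma inf_mem_divisors {φ ψ τ : Idx d n} (hφ : φ ∈ divisors τ) (hψ : ψ ∈ divisors τ) (hne : φ ≠ ψ) :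
    W4bk4grassmannian.inf φ ψ ∈ divisors φ := by
  obtain ⟨s, hs1, hs2⟩ := UFD.divisor_exists_pos hφ
  obtain ⟨t, ht1, ht2⟩ := UFD.divisor_exists_pos hψ
  have hst : s ≠ t := by
    rintro rfl
    refine hne (Subtype.ext (funext fun x => ?_))
    by_cases hx : x = s
    · subst hx; exact Fin.ext (by omega)
    · rw [hs2 x hx, ht2 x hx]
  have hsum : codeg (W4bk4grassmannian.inf φ ψ) + codeg τ = codeg φ + codeg ψ := by
    unfold codeg
    rw [← Finset.sum_add_distrib, ← Finset.sum_add_distrib]
    refine Finset.sum_congr rfl fun x _ => ?_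
    have hl1 : (φ.1 x).val ≤ (τ.1 x).val := hφ.1.le x
    have hl2 : (ψ.1 x).val ≤ (τ.1 x).val := hψ.1.le x
    have hor : (φ.1 x).val = (τ.1 x).val ∨ (ψ.1 x).val = (τ.1 x).val := by
      by_cases hx : x = s
      · subst hx; exact Or.inr (congrArg Fin.val (ht2 x hst))
      · exact Or.inl (congrArg Fin.val (hs2 x hx))
    show (min (φ.1 x) (ψ.1 x)).val - x.val + _ = _
    rcases le_total (φ.1 x) (ψ.1 x) with h | h
    · rw [min_eq_left h]; rw [Fin.le_def] at h; omega
    · rw [min_eq_right h]; rw [Fin.le_def] at h; omega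
  have h1 := hφ.2
  have h2 := hψ.2
  refine ⟨lt_of_le_of_ne (fun x => min_le_left _ _) fun e => ?_, by omega⟩
  rw [e] at hsum
  omega

lemma homogeneousComponent_mem_schubert (hd : 0 < d) (τ : Idx d n) {f : PlRing K d n}
    (hf : f ∈ schubertVanishing K d n τ) (m : ℕ) :
    homogeneousComponent m f ∈ schubertVanishing K d n τ := by
  classical
  rw [mem_schubertVanishing] at hf ⊢
  intro A hA
  set v : Idx d n → K := fun θ => mdet A θ.1
  have he : ∀ g : PlRing K d n, evalAt A g = eval v g := fun g => by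
    rw [← aeval_eq_eval]; rfl
  set M := max m f.totalDegree + 1
  set P : Polynomial K := ∑ j ∈ Finset.range M, Polynomial.monomial j (eval v (homogeneousComponent j f))
  have hP : P = 0 := by
    refine Polynomial.funext fun c => ?_
    have hscale : ∀ θ : Idx d n, mdet (A * Matrix.diagonal
        (Function.update (fun _ => (1 : K)) ⟨0, hd⟩ c)) θ.1 = c * mdet A θ.1 := fun θ => by
      rw [Rank.mul_mdet, Matrix.det_diagonal, Finset.prod_update_of_mem (mem_univ _)]
      simp [mul_comm]
    have h0 := hf _ fun φ hφ => by rw [hscale, hA φ hφ, mul_zero]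
    have hev : ∀ j, eval (fun θ => c * v θ) (homogeneousComponent j f) =
        eval v (homogeneousComponent j f) * c ^ j := fun j => by
      rw [eval_eq', eval_eq', Finset.sum_mul]
      refine Finset.sum_congr rfl fun e he => ?_
      have hdeg : e.degree = j := by
        rw [support_homogeneousComponent] at he
        exact (Finset.mem_filter.1 he).2
      simp only [mul_pow, Finset.prod_mul_distrib, Finset.prod_pow_eq_pow_sum]
      rw [← hdeg, Finsupp.degree_eq_sum]
      ring
    rw [Polynomial.eval_zero, ← h0]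
    simp only [P, Polynomial.eval_finsetSum, Polynomial.eval_monomial, ← hev]
    rw [← map_sum]
    have : ∑ j ∈ Finset.range M, homogeneousComponent j f = f := by
      conv_rhs => rw [← sum_homogeneousComponent f]
      refine (Finset.sum_subset (Finset.range_mono (by omega)) fun j _ hj => ?_).symm
      exact homogeneousComponent_eq_zero j f (by simp at hj; omega)
    rw [this, evalAt]
    simp only [hscale, aeval_eq_eval]
    rfl
  have hc := congrArg (fun P : Polynomial K => P.coeff m) hP
  simp only [P, Polynomial.finsetSum_coeff, Polynomial.coeff_monomial, Finset.sum_ite_eq', Finset.mem_range,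
    Polynomial.coeff_zero] at hc
  rw [he, ← hc, if_pos (by omega)]

lemma homogeneousComponent_mem_unionIdeal (hd : 0 < d) {S : Finset (Idx d n)} {f : PlRing K d n}
    (hf : f ∈ unionIdeal S) (m : ℕ) : homogeneousComponent m f ∈ unionIdeal S :=
  mem_unionIdeal.2 fun φ hφ => homogeneousComponent_mem_schubert hd φ (mem_unionIdeal.1 hf φ hφ) m

theorem ringKrullDim_unionIdeal_le (hd : 0 < d) (S : Finset (Idx d n)) (k : ℕ)
    (hS : ∀ φ ∈ S, codeg φ + 1 ≤ k) :
    ringKrullDim (PlRing K d n ⧸ unionIdeal (K := K) S) ≤ (k : WithBot ℕ∞) := by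
  rw [ringKrullDim_quotient, Order.krullDim]
  refine iSup_le fun l => ?_
  have hp : l.head.1.asIdeal.IsPrime := l.head.1.isPrime
  have hmem : unionIdeal (K := K) S ≤ l.head.1.asIdeal := l.head.2
  have hinf : S.inf (schubertVanishing K d n) ≤ l.head.1.asIdeal := by
    refine le_trans (fun f hf => mem_unionIdeal.2 fun φ hφ => ?_) hmem
    exact Finset.inf_le (f := schubertVanishing K d n) hφ hf
  obtain ⟨φ, hφ, hle⟩ := hp.inf_le'.1 hinf
  let l' : LTSeries (PrimeSpectrum.zeroLocus (R := PlRing K d n) (schubertVanishing K d n φ)) :=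
    LTSeries.mk l.length (fun i => ⟨(l i).1, fun x hx => (l.monotone (Fin.zero_le i)) (hle hx)⟩)
      (fun i j hij => l.strictMono hij)
  have h1 : (l.length : WithBot ℕ∞) ≤ ringKrullDim (PlRing K d n ⧸ schubertVanishing K d n φ) := by
    rw [ringKrullDim_quotient]
    exact Order.LTSeries.length_le_krullDim l'
  rw [Dim.ringKrullDim_schubert hd] at h1
  exact h1.trans (by exact_mod_cast hS φ hφ)

/-- The sum of all coordinates of a given codimension. -/
noncomputable def rankSum (r : ℕ) : PlRing K d n :=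
  ∑ φ ∈ univ.filter (fun φ : Idx d n => codeg φ = r), X φ

lemma rankSum_isHomogeneous (r : ℕ) : (rankSum (K := K) (d := d) (n := n) r).IsHomogeneous 1 :=
  IsHomogeneous.sum _ _ _ fun φ _ => isHomogeneous_X K φ

lemma wt_eq_codeg_add (φ : Idx d n) : wt φ.1 = codeg φ + ∑ t : Fin d, t.val := by
  rw [wt, codeg, ← Finset.sum_add_distrib]
  exact Finset.sum_congr rfl fun t _ => by have := Dim.le_apply φ t; omega

/-- The rank sums cut out only the vertex of a Schubert variety. -/
theorem X_mem_radical (hd : 0 < d) (τ : Idx d n) {I : Ideal (PlRing K d n)}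
    (hI : schubertVanishing K d n τ ≤ I) (hr : ∀ r ≤ codeg τ, rankSum r ∈ I) (φ : Idx d n) :
    X φ ∈ I.radical := by
  classical
  rw [Ideal.radical_eq_sInf, Submodule.mem_sInf]
  intro (P : Ideal (PlRing K d n)) hh
  obtain ⟨hIP, hP⟩ := hh
  suffices H : ∀ (N : ℕ) (φ : Idx d n), d * n - wt φ.1 = N → X φ ∈ P from H _ φ rfl
  intro N
  induction N using Nat.strong_induction_on with
  | _ N IH =>
    intro φ hN
    by_cases hφ : φ ≤ τ
    swap
    · exact hIP (hI ((X_mem_schubert_iff hd).2 hφ))
    have hbig : ∀ ψ : Idx d n, wt φ.1 < wt ψ.1 → X ψ ∈ P := fun ψ h => by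
      refine IH _ ?_ ψ rfl
      have := wt_le ψ.1
      omega
    have hpair : ∀ ψ, ψ ≠ φ → codeg ψ = codeg φ → X φ * X ψ ∈ P := by
      intro ψ hne hc
      have hnle : ¬ ψ ≤ φ := fun h => by
        rcases h.eq_or_lt with h | h
        · exact hne h
        · have := UFD.codeg_lt h; omega
      obtain ⟨r, hpv⟩ := exists_pivot hnle
      have hrel : shuffleRel K φ ψ r ∈ P := hIP (hI (by
        rw [← Basis.plIdeal_eq_schubertVanishing hd]
        exact Ideal.subset_span (Or.inl ⟨φ, ψ, r, hpv, rfl⟩)))
      rw [shuffleRel, ← Finset.add_sum_erase univ _ (mem_univ (frontSet r)), shuffleTerm_front] at hrel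
      have hrest : ∑ A ∈ univ.erase (frontSet r), shuffleTerm K φ ψ r A ∈ P := sum_mem fun A hA => by
        rcases shuffleTerm_cases (K := K) hpv.2 A (ne_of_mem_erase hA) with h | ⟨I', J', a, hI', -, h⟩
        · rw [h]; exact zero_mem _
        · rw [h]
          exact P.mul_mem_left _ (P.mul_mem_right _ (hbig I' hI'))
      simpa using P.sub_mem hrel hrest
    have hθ : rankSum (codeg φ) ∈ P := by
      refine hIP (hr _ ?_)
      rcases hφ.eq_or_lt with h | h
      · rw [h]
      · exact (UFD.codeg_lt h).le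
    have hsq := P.mul_mem_left (X φ) hθ
    rw [rankSum, Finset.mul_sum, ← Finset.add_sum_erase _ _
      (show φ ∈ univ.filter (fun ψ : Idx d n => codeg ψ = codeg φ) by simp)] at hsq
    have hothers : ∑ ψ ∈ (univ.filter (fun ψ : Idx d n => codeg ψ = codeg φ)).erase φ,
        X φ * X ψ ∈ P := sum_mem fun ψ hψ => by
      simp only [mem_erase, mem_filter, mem_univ, true_and] at hψ
      exact hpair ψ hψ.1 hψ.2
    have : X φ * X φ ∈ P := by simpa using P.sub_mem hsq hothers
    exact (hP.mem_or_mem this).elim id id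

end Groth.Agent.Lib.Grass.Union
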