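import Groth.Agent.Lib.Grass.BigCell
import Groth.Agent.Lib.Grass.Union
import Groth.Agent.Lib.Grass.Rank

/-!
# Dehomogenisation of Schubert ideals on the opposite big cell
-/

set_option linter.unusedSectionVars false

namespace Groth.Agent.Lib.Grass.Determinantal

open W4bk4grassmannian MvPolynomial Finset Minors Cell Straighten Ideals BigCell Invariant

universe u

variable {K : Type u} [Field K] {d r : ℕ}

/-- The bottom index of the big cell. -/
abbrev β (d r : ℕ) : Idx d (d + r) := bot (Nat.le_add_right d r)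

lemma cellMatrix_submatrix_bot : (cellMatrix K d r).submatrix (β d r).1 id = 1 := by
  ext i j
  simp only [Matrix.submatrix_apply, id]
  rw [cellMatrix_of_lt (show ((β d r).1 i).val < d from i.isLt), Matrix.one_apply]
  simp [bot, Fin.val_inj]

lemma cellRes_bot : cellRes K d r (X (β d r)) = 1 := by
  rw [cellRes_X, cellMinor_eq, mdet, cellMatrix_submatrix_bot, Matrix.det_one]

theorem cellRes_surjective : Function.Surjective (cellRes K d r) := by
  intro g
  induction g using MvPolynomial.induction_on with
  | C a => exact ⟨C a, (cellRes K d r).commutes a⟩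
  | add p q hp hq =>
    obtain ⟨p, rfl⟩ := hp
    obtain ⟨q, rfl⟩ := hq
    exact ⟨p + q, map_add _ _ _⟩
  | mul_X p v hp =>
    obtain ⟨p, rfl⟩ := hp
    obtain ⟨i, j⟩ := v
    obtain ⟨a, -, he⟩ := exists_extend (K := K) (fun _ : Fin 1 => i) (fun _ : Fin 1 => j)
      (fun a b _ => Subsingleton.elim a b)
    refine ⟨p * coord K d (d + r) a, ?_⟩
    rw [map_mul, cellRes, evalAt_coord, he, Matrix.det_fin_one]
    simp [genMatrix]

/-- The dehomogenised ideal of a Schubert variety. -/
noncomputable def detVan (τ : Idx d (d + r)) : Ideal (CellRing K d r) :=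
  (schubertVanishing K d (d + r) τ).map (cellRes K d r)

/-- The points of the big cell lying on the Schubert variety. -/
def Cond (τ : Idx d (d + r)) (Z : Fin r × Fin d → K) : Prop :=
  ∀ φ : Idx d (d + r), ¬ φ ≤ τ → eval Z (cellMinor K d r φ) = 0

lemma eval_cellRes (Z : Fin r × Fin d → K) (f : PlRing K d (d + r)) :
    eval Z (cellRes K d r f) = evalAt ((cellMatrix K d r).map (eval Z)) f := by
  rw [← aeval_eq_eval]
  exact evalAt_comp (aeval Z) (cellMatrix K d r) f

lemma mdet_map_eval (Z : Fin r × Fin d → K) (a : Fin d → Fin (d + r)) :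
    mdet ((cellMatrix K d r).map (eval Z)) a = eval Z (mdet (cellMatrix K d r) a) :=
  (mdet_map (eval Z) _ _).symm

lemma evalAt_scale {n M : ℕ} (A B : Matrix (Fin n) (Fin d) K) (c : K)
    (h : ∀ θ : Idx d n, mdet A θ.1 = c * mdet B θ.1) {G : PlRing K d n} (hG : G.IsHomogeneous M) :
    evalAt A G = c ^ M * evalAt B G := by
  simp only [evalAt, aeval_eq_eval]
  rw [eval_eq', eval_eq', Finset.mul_sum]
  refine Finset.sum_congr rfl fun e he => ?_
  have hdeg : ∑ θ, e θ = M := by
    have := hG (mem_support_iff.1 he)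
    rw [← this, Finsupp.weight_apply, Finsupp.sum_fintype _ _ (fun _ => by simp)]
    simp
  simp only [h, mul_pow, Finset.prod_mul_distrib, Finset.prod_pow_eq_pow_sum, hdeg]
  ring

variable [Infinite K]

/-- A homogeneous polynomial vanishing on the cell part of a Schubert variety lies in its ideal. -/
theorem mem_of_vanish (hd : 0 < d) (τ : Idx d (d + r)) {G : PlRing K d (d + r)} {M : ℕ}
    (hG : G.IsHomogeneous M) (h : ∀ Z, Cond τ Z → eval Z (cellRes K d r G) = 0) :
    G ∈ schubertVanishing K d (d + r) τ := by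
  have hmul : X (β d r) * G ∈ schubertVanishing K d (d + r) τ := by
    rw [mem_schubertVanishing]
    intro A hA
    rw [map_mul, evalAt_X]
    rcases eq_or_ne (mdet A (β d r).1) 0 with h0 | h0
    · rw [h0, zero_mul]
    set P := A.submatrix (β d r).1 id
    have hP : IsUnit P.det := isUnit_iff_ne_zero.2 h0
    set B := A * P⁻¹
    have hB1 : B.submatrix (β d r).1 id = 1 := by
      rw [Matrix.submatrix_mul A P⁻¹ _ _ id Function.bijective_id, Matrix.submatrix_id_id]
      exact Matrix.mul_nonsing_inv P hP
    set Z : Fin r × Fin d → K := fun p => B (Fin.natAdd d p.1) p.2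
    have hBZ : (cellMatrix K d r).map (eval Z) = B := by
      refine Matrix.ext fun i j => ?_
      rw [Matrix.map_apply]
      induction i using Fin.addCases with
      | left i =>
        have := congrFun (congrFun hB1 i) j
        rw [cellMatrix_of_lt (show (Fin.castAdd r i).val < d from i.isLt)]
        simp only [Matrix.submatrix_apply, id, Matrix.one_apply] at this
        rw [show Fin.castAdd r i = (β d r).1 i from rfl, this]
        simp [bot, Fin.val_inj, apply_ite (eval Z)]
      | right i => rw [cellMatrix_natAdd]; simp [Z, genMatrix]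
    have hA' : ∀ θ : Idx d (d + r), mdet A θ.1 = P.det * mdet B θ.1 := fun θ => by
      rw [Rank.mul_mdet, Matrix.det_nonsing_inv, Ring.inverse_eq_inv']
      field_simp [hP.ne_zero]
    have hZ : Cond τ Z := fun φ hφ => by
      rw [cellMinor_eq, ← mdet_map_eval, hBZ, Rank.mul_mdet, hA φ hφ, zero_mul]
    rw [evalAt_scale A B _ hA' hG, ← hBZ, ← eval_cellRes, h Z hZ, mul_zero, mul_zero]
  exact ((isPrime_schubert hd τ).mem_or_mem hmul).resolve_left fun hx =>
    (X_mem_schubert_iff hd).1 hx (bot_le _ τ)

lemma cond_vanish {τ : Idx d (d + r)} {f : PlRing K d (d + r)}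
    (hf : f ∈ schubertVanishing K d (d + r) τ) (Z : Fin r × Fin d → K) (hZ : Cond τ Z) :
    eval Z (cellRes K d r f) = 0 := by
  rw [eval_cellRes]
  refine mem_schubertVanishing.1 hf _ fun φ hφ => ?_
  rw [mdet_map_eval, ← cellMinor_eq]
  exact hZ φ hφ

lemma vanish_of_mem {τ : Idx d (d + r)} {g : CellRing K d r} (hg : g ∈ detVan τ)
    (Z : Fin r × Fin d → K) (hZ : Cond τ Z) : eval Z g = 0 := by
  rw [detVan, Ideal.mem_map_iff_of_surjective _ cellRes_surjective] at hg
  obtain ⟨f, hf, rfl⟩ := hg
  exact cond_vanish hf Z hZ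

/-- Homogenisation with respect to the bottom coordinate. -/
noncomputable def homog (M : ℕ) (G : PlRing K d (d + r)) : PlRing K d (d + r) :=
  ∑ j ∈ Finset.range (M + 1), X (β d r) ^ (M - j) * homogeneousComponent j G

lemma homog_isHomogeneous (M : ℕ) (G : PlRing K d (d + r)) : (homog M G).IsHomogeneous M := by
  refine IsHomogeneous.sum _ _ _ fun j hj => ?_
  have h : j ≤ M := by simp at hj; omega
  have := (isHomogeneous_X_pow (R := K) (β d r) (M - j)).mul (homogeneousComponent_isHomogeneous j G)
  rwa [show M - j + j = M by omega] at this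

lemma cellRes_homog {M : ℕ} {G : PlRing K d (d + r)} (h : G.totalDegree ≤ M) :
    cellRes K d r (homog M G) = cellRes K d r G := by
  have : G = ∑ j ∈ Finset.range (M + 1), homogeneousComponent j G := by
    conv_lhs => rw [← sum_homogeneousComponent G]
    refine Finset.sum_subset (Finset.range_mono (by omega)) fun j _ hj => ?_
    exact homogeneousComponent_eq_zero j G (by simp at hj; omega)
  conv_rhs => rw [this]
  simp only [homog, map_sum, map_mul, map_pow, cellRes_bot, one_pow, one_mul]

theorem mem_detVan_iff (hd : 0 < d) (τ : Idx d (d + r)) {g : CellRing K d r} :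
    g ∈ detVan τ ↔ ∀ Z, Cond τ Z → eval Z g = 0 := by
  refine ⟨fun hg => vanish_of_mem hg, fun h => ?_⟩
  obtain ⟨G, rfl⟩ := cellRes_surjective g
  rw [← cellRes_homog (le_refl G.totalDegree)]
  exact Ideal.mem_map_of_mem _ (mem_of_vanish hd τ (homog_isHomogeneous _ G) fun Z hZ => by
    rw [cellRes_homog le_rfl]; exact h Z hZ)

/-- A homogeneous preimage of an element of the dehomogenised ideal lies in the Schubert ideal. -/
theorem mem_of_cellRes_mem (hd : 0 < d) (τ : Idx d (d + r)) {G : PlRing K d (d + r)} {M : ℕ}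
    (hG : G.IsHomogeneous M) (h : cellRes K d r G ∈ detVan τ) : G ∈ schubertVanishing K d (d + r) τ :=
  mem_of_vanish hd τ hG fun Z hZ => vanish_of_mem h Z hZ

theorem isPrime_detVan (hd : 0 < d) (τ : Idx d (d + r)) : (detVan (K := K) τ).IsPrime := by
  refine ⟨fun h => ?_, fun {g g'} hgg => ?_⟩
  · have := mem_of_cellRes_mem (K := K) hd τ (isHomogeneous_X K (β d r))
      (by rw [cellRes_bot, h]; trivial)
    exact (X_mem_schubert_iff hd).1 this (bot_le _ τ)
  obtain ⟨G, rfl⟩ := cellRes_surjective g
  obtain ⟨G', rfl⟩ := cellRes_surjective g'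
  rw [← cellRes_homog (le_refl G.totalDegree), ← cellRes_homog (le_refl G'.totalDegree), ← map_mul] at hgg
  rcases (isPrime_schubert hd τ).mem_or_mem
      (mem_of_cellRes_mem hd τ ((homog_isHomogeneous _ G).mul (homog_isHomogeneous _ G')) hgg) with h | h
  · left; rw [← cellRes_homog (le_refl G.totalDegree)]; exact Ideal.mem_map_of_mem _ h
  · right; rw [← cellRes_homog (le_refl G'.totalDegree)]; exact Ideal.mem_map_of_mem _ h

/-- The kernel of dehomogenisation on a Schubert variety. -/
theorem comap_detVan (hd : 0 < d) (τ : Idx d (d + r)) :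
    (detVan τ).comap (cellRes K d r) =
      schubertVanishing K d (d + r) τ ⊔ Ideal.span {X (β d r) - 1} := by
  refine le_antisymm (fun f hf => ?_) (sup_le Ideal.le_comap_map ?_)
  · rw [Ideal.mem_comap] at hf
    have hG := mem_of_cellRes_mem hd τ (homog_isHomogeneous f.totalDegree f)
      (by rwa [cellRes_homog le_rfl])
    have hdiff : f - homog f.totalDegree f ∈ Ideal.span {X (β d r) - 1} := by
      nth_rewrite 1 [← sum_homogeneousComponent f]
      rw [homog, ← Finset.sum_sub_distrib]
      refine sum_mem fun j _ => ?_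
      rw [Ideal.mem_span_singleton, show homogeneousComponent j f -
          X (β d r) ^ (f.totalDegree - j) * homogeneousComponent j f =
          (1 - X (β d r) ^ (f.totalDegree - j)) * homogeneousComponent j f by ring]
      refine Dvd.dvd.mul_right ?_ _
      exact dvd_sub_comm.1 (sub_one_dvd_pow_sub_one _ _)
    have := add_mem (Ideal.mem_sup_left hG) (Ideal.mem_sup_right hdiff)
    rwa [add_sub_cancel] at this
  · rw [Ideal.span_singleton_le_iff_mem, Ideal.mem_comap, map_sub, cellRes_bot, map_one, sub_self]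
    exact zero_mem _

/-- The index cutting out the rank `< t` locus. -/
def tau {t : ℕ} (ht : 1 ≤ t) (htd : t ≤ d + 1) (htr : t ≤ r + 1) : Idx d (d + r) :=
  ⟨fun s => if s.val + t < d + 1 then ⟨s.val + (t - 1), by omega⟩ else ⟨s.val + r, by omega⟩,
    fun a b hab => by
      rw [Fin.lt_def] at hab ⊢
      dsimp only
      split_ifs <;> simp only <;> omega⟩

lemma le_tau_iff {t : ℕ} (ht : 1 ≤ t) (htd : t ≤ d + 1) (htr : t ≤ r + 1) (φ : Idx d (d + r)) :
    φ ≤ tau ht htd htr ↔ zCount φ.1 < t := by
  rcases eq_or_lt_of_le htd with e | e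
  · refine iff_of_true (fun s => ?_) ?_
    · have h : (φ.1 s).val ≤ d + r - d + s.val := le_top (Nat.le_add_right d r) φ s
      show (φ.1 s).val ≤ ((tau ht htd htr).1 s).val
      simp only [tau]
      split_ifs <;> simp only <;> omega
    · have : zCount φ.1 ≤ d := (Finset.card_filter_le _ _).trans (by simp)
      omega
  rw [← not_le, ← le_apply_iff_zCount φ (show 0 < t by omega) (show t ≤ d by omega), not_le]
  constructor
  · intro h
    have h2 : (φ.1 ⟨d - t, by omega⟩).val ≤ ((tau ht htd htr).1 ⟨d - t, by omega⟩).val := h ⟨d - t, by omega⟩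
    simp only [tau] at h2
    rw [if_pos (by omega)] at h2
    simp only at h2
    omega
  · intro h s
    show (φ.1 s).val ≤ ((tau ht htd htr).1 s).val
    simp only [tau]
    split_ifs with hs
    · set x₀ : Fin d := ⟨d - t, by omega⟩ with hx₀
      have hsx : s.val ≤ d - t := by omega
      have hc := Finset.card_le_card_of_injOn φ.1 (s := Finset.Icc s x₀)
        (t := Finset.Icc (φ.1 s) (φ.1 x₀))
        (fun x hx => by
          simp only [coe_Icc, Set.mem_Icc] at hx ⊢
          exact ⟨φ.2.monotone hx.1, φ.2.monotone hx.2⟩) φ.2.injective.injOn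
      have hm : (φ.1 s).val ≤ (φ.1 x₀).val := φ.2.monotone (show s ≤ x₀ from hsx)
      simp only [Fin.card_Icc] at hc
      have hval : x₀.val = d - t := rfl
      have hx : (φ.1 x₀).val < d := h
      simp only
      omega
    · have h2 : (φ.1 s).val ≤ d + r - d + s.val := le_top (Nat.le_add_right d r) φ s
      simp only
      omega

theorem detVan_tau (hd : 0 < d) {t : ℕ} (ht : 1 ≤ t) (htd : t ≤ d) (htr : t ≤ r + 1) :
    detVan (tau ht (Nat.le_succ_of_le htd) htr) = CAlgX.minorIdeal (genMatrix K r d) t := by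
  rw [detVan, ← Basis.plIdeal_eq_schubertVanishing hd, plIdeal, Ideal.map_span,
    ← span_cellMinor_eq (show 0 < t by omega) htd]
  refine le_antisymm (Ideal.span_le.2 ?_) (Ideal.span_le.2 ?_)
  · rintro _ ⟨f, (⟨i, j, s, -, rfl⟩ | ⟨φ, hφ, rfl⟩), rfl⟩
    · show cellRes K d r (shuffleRel K i j s) ∈ _
      rw [cellRes, evalAt_shuffleRel]
      exact zero_mem _
    · refine Ideal.subset_span ⟨φ, ?_, cellRes_X φ⟩
      rw [le_apply_iff_zCount φ (show 0 < t by omega) htd]
      rw [le_tau_iff] at hφ
      omega
  · rintro _ ⟨θ, hθ, rfl⟩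
    refine Ideal.subset_span ⟨X θ, Or.inr ⟨θ, ?_, rfl⟩, cellRes_X θ⟩
    rw [le_apply_iff_zCount θ (show 0 < t by omega) htd] at hθ
    rw [le_tau_iff]
    omega

end Groth.Agent.Lib.Grass.Determinantal
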