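import Groth.Agent.Lib.Grass.Ideals
import Groth.Agent.Lib.Grass.Rank
import Groth.Agent.Lib.Grass.Bottom
import Groth.Agent.Lib.Dim.Basic
import Mathlib.Data.Fintype.Option
import Mathlib.Data.Fintype.Sigma
import Mathlib.Data.Fintype.BigOperators

/-!
# The dimension of a Schubert coordinate ring
-/

set_option linter.unusedSectionVars false

namespace Groth.Agent.Lib.Grass.Dim

open W4bk4grassmannian MvPolynomial Finset Minors Cell Straighten Basis Semigroup Invariant Ideals
open Groth.Agent.Lib.Dim.Basic

universe u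

variable {d n : ℕ}

/-- The free parameters of the open cell with a scalar. -/
abbrev NVar (w : Idx d n) := Option (Σ t : Fin d, {i : Fin n // i < w.1 t ∧ ∀ s, w.1 s ≠ i})

lemma le_apply (w : Idx d n) (t : Fin d) : t.val ≤ (w.1 t).val :=
  bot_le (by simpa using Fintype.card_le_of_injective _ w.2.injective) w t

lemma card_NVar (w : Idx d n) : Fintype.card (NVar w) = codeg w + 1 := by
  classical
  rw [Fintype.card_option, Fintype.card_sigma, codeg]
  congr 1
  refine Finset.sum_congr rfl fun t _ => ?_
  rw [Fintype.card_subtype,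
    show (univ.filter fun i => i < w.1 t ∧ ∀ s, w.1 s ≠ i) = Finset.Iio (w.1 t) \ (Finset.Iio t).image w.1 from ?_,
    Finset.card_sdiff_of_subset, card_image_of_injective _ w.2.injective, Fin.card_Iio, Fin.card_Iio]
  · intro x hx
    obtain ⟨s, hs, rfl⟩ := Finset.mem_image.1 hx
    exact Finset.mem_Iio.2 (w.2 (Finset.mem_Iio.1 hs))
  · ext i
    simp only [mem_filter, mem_univ, true_and, mem_sdiff, Finset.mem_Iio, mem_image, not_exists,
      not_and]
    exact ⟨fun h => ⟨h.1, fun s _ => h.2 s⟩,
      fun h => ⟨h.1, fun s hs => h.2 s (w.2.lt_iff_lt.1 (hs ▸ h.1)) hs⟩⟩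

variable {K : Type u} [Field K]

/-- The normalised matrix of the open cell. -/
noncomputable def cellN (hd : 0 < d) (w : Idx d n) : Matrix (Fin n) (Fin d) (MvPolynomial (NVar w) K) :=
  Matrix.of fun i t =>
    (if i = w.1 t then 1 else if h : i < w.1 t ∧ ∀ s, w.1 s ≠ i then X (some ⟨t, i, h⟩) else 0) *
      (if t = ⟨0, hd⟩ then X none else 1)

theorem ker_evalAt_cellN [Infinite K] (hd : 0 < d) (w : Idx d n) {f : PlRing K d n}
    (hf : evalAt (cellN (K := K) hd w) f = 0) : f ∈ schubertVanishing K d n w := by
  classical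
  rw [schubertVanishing_eq_ker hd, RingHom.mem_ker]
  have hne : cellMap K w (X w) ≠ 0 := by
    rw [show cellMap K w (X w) = mdet (cellMat K w) w.1 from evalAt_X _ _]
    exact mdet_cellMat_ne_zero le_rfl
  refine (mul_eq_zero.1 (?_ : cellMap K w (X w) * cellMap K w f = 0)).resolve_left hne
  refine MvPolynomial.funext fun x => ?_
  rw [map_mul, map_zero]
  have e1 : ∀ p, eval x (cellMap K w p) = evalAt ((cellMat K w).map (eval x)) p := fun p => by
    rw [← aeval_eq_eval]; exact evalAt_comp (aeval x) (cellMat K w) p
  rw [e1, e1, evalAt_X]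
  set A := (cellMat K w).map (eval x)
  rcases eq_or_ne (mdet A w.1) 0 with h0 | h0
  · rw [h0, zero_mul]
  set P := A.submatrix w.1 id
  have hP : IsUnit P.det := isUnit_iff_ne_zero.2 h0
  set B := A * P⁻¹
  have hB1 : B.submatrix w.1 id = 1 := by
    rw [Matrix.submatrix_mul A P⁻¹ _ _ id Function.bijective_id, Matrix.submatrix_id_id]
    exact Matrix.mul_nonsing_inv P hP
  have hAz : ∀ φ : Idx d n, ¬ φ ≤ w → mdet A φ.1 = 0 := fun φ hφ => by
    rw [← mdet_map (R := CRing K d n) (eval x) (cellMat K w), mdet_cellMat_eq_zero w φ hφ, map_zero]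
  have hzero : ∀ i t, w.1 t < i → (∀ s, w.1 s ≠ i) → B i t = 0 := by
    intro i t hi hnr
    rw [← mdet_update_one B w.1 t i hB1, Rank.mul_mdet]
    set a := Function.update w.1 t i
    have ha : Function.Injective a := by
      intro p q hpq
      by_cases hp : p = t <;> by_cases hq : q = t
      · rw [hp, hq]
      · subst hp; simp [a, hq] at hpq; exact absurd hpq.symm (hnr q)
      · subst hq; simp [a, hp] at hpq; exact absurd hpq (hnr p)
      · simp [a, hp, hq] at hpq; exact w.2.injective hpq
    have hcard : (univ.image a).card = d := by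
      rw [card_image_of_injective _ ha, card_univ, Fintype.card_fin]
    obtain ⟨σ, hσ, -⟩ := exists_sort a hcard
    have h : mdet A (sortIdx d n a hcard).1 = 0 := by
      refine hAz _ fun hle => ?_
      have h1 : wt (sortIdx d n a hcard).1 ≤ wt w.1 := Finset.sum_le_sum fun s _ => hle s
      have h2 : wt (sortIdx d n a hcard).1 = wt a := by
        conv_rhs => rw [← hσ]
        exact (Equiv.sum_comp σ fun s => ((sortIdx d n a hcard).1 s).val).symm
      have h3 : wt w.1 < wt a := by
        refine Finset.sum_lt_sum (fun s _ => ?_) ⟨t, mem_univ _, by simpa [a] using hi⟩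
        by_cases hs : s = t
        · subst hs; simpa [a] using hi.le
        · simp [a, hs]
      omega
    rw [← hσ, mdet_comp_perm, h]
    simp
  let D : Fin d → K := Function.update (fun _ => 1) ⟨0, hd⟩ P.det
  let y : NVar w → K := fun v => v.elim P.det fun p => B p.2.1 p.1
  have hN : (cellN (K := K) hd w).map (aeval y) = A * (P⁻¹ * Matrix.diagonal D) := by
    rw [← Matrix.mul_assoc]
    ext i t
    rw [Matrix.mul_diagonal]
    simp only [Matrix.map_apply, cellN, Matrix.of_apply, map_mul]
    change _ * _ = B i t * D t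
    congr 1
    · split_ifs with h1 h2
      · subst h1
        have := congrFun (congrFun hB1 t) t
        simp only [Matrix.submatrix_apply, id, Matrix.one_apply_eq] at this
        rw [map_one, this]
      · simp [y]
      · rw [map_zero]
        by_cases hr : ∃ s, w.1 s = i
        · obtain ⟨s, rfl⟩ := hr
          have := congrFun (congrFun hB1 s) t
          simp only [Matrix.submatrix_apply, id] at this
          rw [this, Matrix.one_apply_ne]
          rintro rfl
          exact h1 rfl
        · simp only [not_exists] at hr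
          refine (hzero i t (lt_of_le_of_ne ?_ (Ne.symm h1)) hr).symm
          exact not_lt.1 fun h => h2 ⟨h, hr⟩
    · simp only [D, Function.update_apply]
      split_ifs <;> simp [y]
  have hdet : (P⁻¹ * Matrix.diagonal D).det = 1 := by
    rw [Matrix.det_mul, Matrix.det_diagonal, Finset.prod_update_of_mem (mem_univ _),
      Matrix.det_nonsing_inv, Ring.inverse_eq_inv']
    simp [inv_mul_cancel₀ (show P.det ≠ 0 from h0)]
  have eA : (evalAt A : PlRing K d n →ₐ[K] K) = evalAt (A * (P⁻¹ * Matrix.diagonal D)) :=
    MvPolynomial.algHom_ext fun θ => by simp [Rank.mul_mdet, hdet]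
  rw [eA, ← hN, ← evalAt_comp, hf, map_zero, mul_zero]

lemma codeg_eq_zero {w : Idx d n} (h : ∀ φ : Idx d n, ¬ φ < w) : codeg w = 0 := by
  have hdn : d ≤ n := by simpa using Fintype.card_le_of_injective _ w.2.injective
  obtain rfl : bot hdn = w := (bot_le hdn w).eq_or_lt.resolve_right (h _)
  simp [codeg, bot]

theorem le_dimQ [Infinite K] (hd : 0 < d) (w : Idx d n) :
    codeg w + 1 ≤ dimQ K (schubertVanishing K d n w) := by
  induction hc : codeg w using Nat.strong_induction_on generalizing w with
  | _ N IH =>
    have hP : (schubertVanishing K d n w).IsPrime := isPrime_schubert hd w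
    by_cases h : ∃ φ, φ < w
    · obtain ⟨φ₀, hφ₀⟩ := h
      obtain ⟨φ, ⟨hlt, hcd⟩, -⟩ := exists_divisor hφ₀
      have : (schubertVanishing K d n φ).IsPrime := isPrime_schubert hd φ
      have h1 := IH (codeg φ) (by omega) φ rfl
      have h2 : schubertVanishing K d n w < schubertVanishing K d n φ :=
        lt_of_le_not_ge (schubert_anti hd hlt.le) fun h => not_le_of_gt hlt ((schubert_le_iff hd).1 h)
      have := dimQ_lt_of_lt K h2
      omega
    · simp only [not_exists] at h
      rw [← hc, codeg_eq_zero h]
      have hm : (RingHom.ker (constantCoeff : PlRing K d n →+* K)).IsPrime := RingHom.ker_isPrime _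
      have hlt : schubertVanishing K d n w < RingHom.ker (constantCoeff : PlRing K d n →+* K) := by
        refine lt_of_le_not_ge (fun f hf => Bottom.constantCoeff_eq_zero hd hf) fun hle => ?_
        exact (X_mem_schubert_iff hd).1 (hle (by simp : X w ∈ _)) le_rfl
      have := dimQ_lt_of_lt K hlt
      omega

theorem dimQ_le [Infinite K] (hd : 0 < d) (w : Idx d n) :
    dimQ K (schubertVanishing K d n w) ≤ codeg w + 1 := by
  have hP : (schubertVanishing K d n w).IsPrime := isPrime_schubert hd w
  let ξ : PlRing K d n →ₐ[K] MvPolynomial (NVar w) K := evalAt (cellN hd w)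
  have hker : ∀ f ∈ schubertVanishing K d n w, ξ f = 0 := by
    intro f hf
    refine MvPolynomial.funext fun y => ?_
    rw [map_zero, ← aeval_eq_eval]
    refine (evalAt_comp (aeval y) (cellN hd w) f).trans (mem_schubertVanishing.1 hf _ fun φ hφ => ?_)
    obtain ⟨t, ht⟩ : ∃ t, w.1 t < φ.1 t := by
      by_contra hc
      simp only [not_exists, not_lt] at hc
      exact hφ hc
    rw [mdet, Matrix.det_apply]
    refine Finset.sum_eq_zero fun σ _ => ?_
    obtain ⟨s, hs, hσs⟩ : ∃ s, s ≤ t ∧ t ≤ σ s := by
      by_contra hc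
      simp only [not_exists, not_and, not_le] at hc
      have := Finset.card_le_card_of_injOn σ (s := Finset.Iic t) (t := Finset.Iio t)
        (fun s hs => by simpa using hc s (by simpa using hs)) σ.injective.injOn
      simp at this
    rw [Finset.prod_eq_zero (mem_univ s) ?_, smul_zero]
    have hgt : w.1 s < φ.1 (σ s) := (w.2.monotone hs).trans_lt (ht.trans_le (φ.2.monotone hσs))
    simp [cellN, hgt.ne', not_lt.2 hgt.le]
  let g : PlRing K d n ⧸ schubertVanishing K d n w →ₐ[K] MvPolynomial (NVar w) K :=
    Ideal.Quotient.liftₐ _ ξ hker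
  have hg : Function.Injective g := by
    rw [injective_iff_map_eq_zero]
    intro x hx
    obtain ⟨f, rfl⟩ := Ideal.Quotient.mk_surjective x
    exact Ideal.Quotient.eq_zero_iff_mem.2 (ker_evalAt_cellN hd w hx)
  have h1 := trdeg_le_of_injective g hg
  rw [trdeg_quotient, MvPolynomial.trdeg_of_isDomain, Cardinal.mk_fintype, Cardinal.lift_natCast,
    card_NVar] at h1
  exact_mod_cast h1

theorem ringKrullDim_schubert [Infinite K] (hd : 0 < d) (w : Idx d n) :
    ringKrullDim (PlRing K d n ⧸ schubertVanishing K d n w) = ((codeg w + 1 : ℕ) : WithBot ℕ∞) := by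
  have hP : (schubertVanishing K d n w).IsPrime := isPrime_schubert hd w
  rw [ringKrullDim_quotient_prime K, le_antisymm (dimQ_le hd w) (le_dimQ hd w)]

end Groth.Agent.Lib.Grass.Dim
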