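import Mathlib.RingTheory.GradedAlgebra.HomogeneousLocalization
import Mathlib.RingTheory.GradedAlgebra.Basic
import Mathlib.RingTheory.Algebraic.Defs
import Mathlib.RingTheory.Algebraic.Basic
import Mathlib.RingTheory.Polynomial.UniqueFactorization
import Mathlib.RingTheory.Ideal.UFD
import Mathlib.GroupTheory.MonoidLocalization.UniqueFactorization
import Mathlib.RingTheory.Localization.Away.Basic

/-!
# The homogeneous localization and the Laurent polynomials over it
-/

namespace Groth.Agent.Lib.Grass.HomogLoc

open HomogeneousLocalization Polynomial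

universe u v

variable {K : Type u} [Field K] {R : Type v} [CommRing R] [Algebra K R]
  (𝒜 : ℕ → Submodule K R) [GradedAlgebra 𝒜]

lemma eq_zero_of_sum_eq_zero {ι : Type*} (t : Finset ι) (g : ι → ℕ) (hg : Set.InjOn g t)
    (y : ι → R) (hy : ∀ i ∈ t, y i ∈ 𝒜 (g i)) (h : ∑ i ∈ t, y i = 0) : ∀ i ∈ t, y i = 0 := by
  intro i hi
  have := congrArg (GradedRing.proj 𝒜 (g i)) h
  rw [map_sum, map_zero, Finset.sum_eq_single i] at this
  · rwa [GradedRing.proj_apply, DirectSum.decompose_of_mem_same 𝒜 (hy i hi)] at this
  · intro j hj hji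
    rw [GradedRing.proj_apply, DirectSum.decompose_of_mem_ne 𝒜 (hy j hj)]
    exact fun e => hji (hg hj hi e)
  · exact fun h => absurd hi h

lemma val_mk_mul {e : ℕ} {s : R} (hs : s ∈ 𝒜 e) (n : ℕ) (x : R) (hx : x ∈ 𝒜 (n • e)) :
    (Away.mk 𝒜 hs n x hx).val * algebraMap R (Localization.Away s) (s ^ n) =
      algebraMap R (Localization.Away s) x := by
  rw [Away.val_mk, Localization.mk_eq_mk']
  exact IsLocalization.mk'_spec (Localization.Away s) x (⟨s ^ n, n, rfl⟩ : Submonoid.powers s)

theorem transcendental_self [IsDomain R] {e : ℕ} (he : 0 < e) {s : R} (hs : s ∈ 𝒜 e) :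
    Transcendental (HomogeneousLocalization.Away 𝒜 s) (algebraMap R (Localization.Away s) s) := by
  rcases eq_or_ne s 0 with rfl | hs0
  · have := HomogeneousLocalization.subsingleton 𝒜 (x := Submonoid.powers (0 : R)) ⟨1, pow_one _⟩
    rintro ⟨p, hp, -⟩
    exact hp (Subsingleton.elim _ _)
  rw [transcendental_iff]
  intro p hp
  have hsur : ∀ k, ∃ (n : ℕ) (a : R) (ha : a ∈ 𝒜 (n • e)), Away.mk 𝒜 hs n a ha = p.coeff k :=
    fun k => Away.mk_surjective 𝒜 hs (p.coeff k)
  choose N x hx hcoeff using hsur
  set t := Finset.range (p.natDegree + 1)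
  set M := ∑ k ∈ t, N k
  have hN : ∀ k ∈ t, N k ≤ M := fun k hk => Finset.single_le_sum (fun _ _ => Nat.zero_le _) hk
  have key : ∑ k ∈ t, x k * s ^ (M - N k + k) = 0 := by
    apply IsLocalization.injective (Localization.Away s)
      (powers_le_nonZeroDivisors_of_noZeroDivisors hs0)
    rw [map_sum, map_zero]
    rw [aeval_eq_sum_range] at hp
    calc ∑ k ∈ t, algebraMap R (Localization.Away s) (x k * s ^ (M - N k + k))
        = ∑ k ∈ t, algebraMap R (Localization.Away s) (s ^ M) *
            ((p.coeff k) • algebraMap R (Localization.Away s) s ^ k) := by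
          refine Finset.sum_congr rfl fun k hk => ?_
          rw [Algebra.smul_def, HomogeneousLocalization.algebraMap_apply, ← hcoeff k, map_mul,
            ← val_mk_mul 𝒜 hs (N k) (x k) (hx k)]
          simp only [map_pow]
          rw [mul_assoc, ← pow_add, mul_left_comm, ← pow_add]
          congr 2
          have := hN k hk
          omega
      _ = 0 := by rw [← Finset.mul_sum, hp, mul_zero]
  have hz := eq_zero_of_sum_eq_zero 𝒜 t (fun k => (M + k) * e)
    (fun a _ b _ h => by simpa using Nat.eq_of_mul_eq_mul_right he h) (fun k => x k * s ^ (M - N k + k))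
    (fun k hk => by
      have h1 := SetLike.GradedMul.mul_mem (hx k) (SetLike.pow_mem_graded (M - N k + k) hs)
      rw [← add_smul, smul_eq_mul] at h1
      have := hN k hk
      show x k * s ^ (M - N k + k) ∈ 𝒜 ((M + k) * e)
      convert h1 using 2
      congr 1
      omega) key
  refine Polynomial.ext fun k => ?_
  rw [coeff_zero]
  by_cases hk : k ∈ t
  · have : x k = 0 := (mul_eq_zero.1 (hz k hk)).resolve_right (pow_ne_zero _ hs0)
    rw [← hcoeff k]
    apply HomogeneousLocalization.val_injective
    rw [Away.val_mk, HomogeneousLocalization.val_zero, this, Localization.mk_zero]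
  · exact coeff_eq_zero_of_natDegree_lt (by simpa [t] using hk)

theorem ufd_of_away [IsDomain R] [IsNoetherianRing R] {s : R} (hs : s ∈ 𝒜 1) (hp : Prime s)
    (h : UniqueFactorizationMonoid (HomogeneousLocalization.Away 𝒜 s)) :
    UniqueFactorizationMonoid R := by
  let A := HomogeneousLocalization.Away 𝒜 s
  let L := Localization.Away s
  have : IsDomain L := IsLocalization.isDomain_localization
    (powers_le_nonZeroDivisors_of_noZeroDivisors hp.ne_zero)
  have : IsDomain A := Function.Injective.isDomain (algebraMap A L)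
    (HomogeneousLocalization.val_injective _)
  let σ : L := algebraMap R L s
  let φ : A[X] →ₐ[A] L := Polynomial.aeval σ
  letI : Algebra A[X] L := φ.toRingHom.toAlgebra
  have hinj : Function.Injective φ := transcendental_iff_injective.1 (transcendental_self 𝒜 one_pos hs)
  have hmem : ∀ x : R, algebraMap R L x ∈ φ.range := by
    intro x
    classical
    rw [← DirectSum.sum_support_decompose 𝒜 x, map_sum]
    refine Subalgebra.sum_mem _ fun j _ => ?_
    have hj : (DirectSum.decompose 𝒜 x j : R) ∈ 𝒜 (j • 1) := by simp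
    refine ⟨C (Away.mk 𝒜 hs j _ hj) * X ^ j, ?_⟩
    show φ (C (Away.mk 𝒜 hs j _ hj) * X ^ j) = _
    simp only [φ, map_mul, aeval_C, map_pow, aeval_X]
    rw [HomogeneousLocalization.algebraMap_apply, ← map_pow]
    exact val_mk_mul 𝒜 hs j _ hj
  have : IsLocalization.Away (X : A[X]) L := by
    refine (isLocalization_iff _ _).2 ⟨?_, ?_, ?_⟩
    · rintro ⟨_, k, rfl⟩
      show IsUnit (φ (X ^ k))
      rw [map_pow, aeval_X]
      exact (IsLocalization.Away.algebraMap_isUnit s).pow k
    · intro z
      obtain ⟨k, x, hx⟩ := IsLocalization.Away.surj s z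
      obtain ⟨q, hq⟩ := hmem x
      refine ⟨(q, ⟨X ^ k, k, rfl⟩), ?_⟩
      show z * φ (X ^ k) = φ q
      have hq' : φ q = algebraMap R L x := hq
      rw [map_pow, aeval_X, hq', ← hx]
    · intro a b hab
      exact ⟨1, by rw [hinj hab]⟩
  have : UniqueFactorizationMonoid L :=
    UniqueFactorizationMonoid.of_isLocalization (Submonoid.powers (X : A[X])) L
  exact (UniqueFactorizationMonoid.iff_of_isLocalizationAway_of_prime hp L).2 this

end Groth.Agent.Lib.Grass.HomogLoc
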