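import Groth.Agent.Lib.Grass.Invariant

/-!
# Sums and intersections of Schubert ideals
-/

set_option linter.unusedSectionVars false

namespace Groth.Agent.Lib.Grass.Ideals

open W4bk4grassmannian MvPolynomial Finset Minors Cell Straighten Basis Semigroup Invariant

universe u

variable {d n : ℕ}

/-- All standard chains. -/
abbrev Chains (d n : ℕ) := Σ m : ℕ, {c : Fin m → Idx d n // Antitone c}

lemma chains_inj : Function.Injective (fun x : Chains d n => (⟨x.1, x.2.1⟩ : Σ m, Fin m → Idx d n)) := by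
  rintro ⟨m, c, h⟩ ⟨m', c', h'⟩ hh
  simp only [Sigma.mk.injEq] at hh
  obtain ⟨rfl, hh⟩ := hh
  obtain rfl := eq_of_heq hh
  rfl

variable {K : Type u}

lemma plIdealTop_eq [CommRing K] (hdn : d ≤ n) : plIdeal K (top hdn) = plIdealTop (d := d) (n := n) K := by
  refine le_antisymm ?_ (Ideal.span_mono Set.subset_union_left)
  rw [plIdeal, Ideal.span_le]
  rintro f (h | ⟨φ, hφ, rfl⟩)
  · exact Ideal.subset_span h
  · exact absurd (le_top hdn φ) hφ

variable [Field K] [Infinite K]

lemma plIdealTop_le (hd : 0 < d) (τ : Idx d n) :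
    plIdealTop (d := d) (n := n) K ≤ schubertVanishing K d n τ := by
  rw [← plIdeal_eq_schubertVanishing hd]
  exact Ideal.span_mono Set.subset_union_left

lemma exists_coords (f : PlRing K d n) : ∃ g : Chains d n →₀ K,
    f - ∑ x ∈ g.support, g x • chainMon K x.2.1 ∈ plIdealTop (d := d) (n := n) K := by
  set I := plIdealTop (d := d) (n := n) K
  have hs : Ideal.Quotient.mk I f ∈ Submodule.span K
      (Set.range fun x : Chains d n => Ideal.Quotient.mk I (chainMon K x.2.1)) := by
    have h := stdSpan_eq_top (I := I) (P := fun _ => True)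
      (fun i j r h => Ideal.subset_span ⟨i, j, r, h, rfl⟩) (fun φ h => absurd trivial h)
    have h2 : Ideal.Quotient.mk I f ∈ stdSpan I (fun _ => True) := h ▸ trivial
    refine Submodule.span_mono ?_ h2
    rintro _ ⟨⟨m, c, hc, -⟩, rfl⟩
    exact ⟨⟨m, c, hc⟩, rfl⟩
  rw [Finsupp.mem_span_range_iff_exists_finsupp] at hs
  obtain ⟨g, hg⟩ := hs
  refine ⟨g, ?_⟩
  rw [← Ideal.Quotient.eq_zero_iff_mem, map_sub, mk_linearCombination, ← hg, sub_eq_zero]
  rfl

lemma mem_schubert_iff_coords (hd : 0 < d) (τ : Idx d n) {f : PlRing K d n} {g : Chains d n →₀ K}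
    (hg : f - ∑ x ∈ g.support, g x • chainMon K x.2.1 ∈ plIdealTop (d := d) (n := n) K) :
    f ∈ schubertVanishing K d n τ ↔ ∀ x ∈ g.support, (∀ k, x.2.1 k ≤ τ) → g x = 0 := by
  classical
  have hsub := plIdealTop_le hd τ hg
  rw [schubertVanishing_eq_ker hd, RingHom.mem_ker] at hsub ⊢
  rw [map_sub, sub_eq_zero, map_sum] at hsub
  simp only [map_smul] at hsub
  rw [hsub, ← Finset.sum_filter_add_sum_filter_not g.support (fun x => ∀ k, x.2.1 k ≤ τ),
    Finset.sum_eq_zero (s := g.support.filter fun x => ¬ _) (fun x hx => by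
      rw [cellMap_chainMon_eq_zero (Finset.mem_filter.1 hx).2, smul_zero]), add_zero]
  constructor
  · intro h0 x hx hle
    refine eq_zero_of_degree_injOn ord
      (fun i hi => cellMap_chainMon_ne_zero (Finset.mem_filter.1 hi).2) ?_ h0 x
      (Finset.mem_filter.2 ⟨hx, hle⟩)
    intro a ha b hb hab
    simp only [Finset.coe_filter, Set.mem_setOf_eq] at ha hb
    simp only [degree_chainMon ha.2, degree_chainMon hb.2] at hab
    exact chains_inj (chainExp_injective hd a.2.2 b.2.2 hab)
  · intro h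
    refine Finset.sum_eq_zero fun x hx => ?_
    rw [h x (Finset.mem_filter.1 hx).1 (Finset.mem_filter.1 hx).2, zero_smul]

lemma chainMon_mem_schubert (hd : 0 < d) {τ : Idx d n} {m : ℕ} {c : Fin m → Idx d n}
    (h : ¬ ∀ k, c k ≤ τ) : chainMon K c ∈ schubertVanishing K d n τ := by
  rw [schubertVanishing_eq_ker hd, RingHom.mem_ker]
  exact cellMap_chainMon_eq_zero h

lemma schubert_anti (hd : 0 < d) {φ τ : Idx d n} (h : φ ≤ τ) :
    schubertVanishing K d n τ ≤ schubertVanishing K d n φ := fun f hf => by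
  rw [mem_schubertVanishing] at hf ⊢
  exact fun A hA => hf A fun θ hθ => hA θ fun hh => hθ (hh.trans h)

lemma mem_of_coords {I : Ideal (PlRing K d n)} (hI : plIdealTop (d := d) (n := n) K ≤ I)
    {f : PlRing K d n} {g : Chains d n →₀ K}
    (hg : f - ∑ x ∈ g.support, g x • chainMon K x.2.1 ∈ plIdealTop (d := d) (n := n) K)
    (h : ∀ x ∈ g.support, g x ≠ 0 → chainMon K x.2.1 ∈ I) : f ∈ I := by
  have : ∑ x ∈ g.support, g x • chainMon K x.2.1 ∈ I := sum_mem fun x hx => by
    rw [smul_eq_C_mul]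
    exact I.mul_mem_left _ (h x hx (Finsupp.mem_support_iff.1 hx))
  simpa using I.add_mem (hI hg) this

/-- The sum of two Schubert ideals is the ideal of the meet. -/
theorem schubert_sup (hd : 0 < d) (w₁ w₂ : Idx d n) :
    schubertVanishing K d n w₁ ⊔ schubertVanishing K d n w₂ =
      schubertVanishing K d n (W4bk4grassmannian.inf w₁ w₂) := by
  refine le_antisymm (sup_le (schubert_anti hd fun t => min_le_left _ _)
    (schubert_anti hd fun t => min_le_right _ _)) fun f hf => ?_
  obtain ⟨g, hg⟩ := exists_coords f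
  refine mem_of_coords (I := _ ⊔ _) ((plIdealTop_le hd w₁).trans le_sup_left) hg fun x hx hne => ?_
  have : ¬ ∀ k, x.2.1 k ≤ W4bk4grassmannian.inf w₁ w₂ := fun h =>
    hne ((mem_schubert_iff_coords hd _ hg).1 hf x hx h)
  obtain ⟨k, hk⟩ := not_forall.1 this
  by_cases h1 : x.2.1 k ≤ w₁
  · refine Ideal.mem_sup_right (chainMon_mem_schubert hd fun h => hk fun t => le_min (h1 t) (h k t))
  · exact Ideal.mem_sup_left (chainMon_mem_schubert hd fun h => h1 (h k))

lemma isPrime_schubert (hd : 0 < d) (τ : Idx d n) : (schubertVanishing K d n τ).IsPrime := by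
  rw [schubertVanishing_eq_ker hd]
  exact RingHom.ker_isPrime _

lemma X_mem_schubert_iff (hd : 0 < d) {τ φ : Idx d n} :
    X φ ∈ schubertVanishing K d n τ ↔ ¬ φ ≤ τ := by
  rw [schubertVanishing_eq_ker hd, RingHom.mem_ker,
    show cellMap K τ (X φ) = mdet (cellMat K τ) φ.1 from evalAt_X _ _]
  exact ⟨fun h hle => mdet_cellMat_ne_zero hle h, mdet_cellMat_eq_zero τ φ⟩

lemma schubert_le_iff (hd : 0 < d) {φ τ : Idx d n} :
    schubertVanishing K d n τ ≤ schubertVanishing K d n φ ↔ φ ≤ τ := by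
  refine ⟨fun h => ?_, schubert_anti hd⟩
  by_contra hc
  exact (X_mem_schubert_iff hd).1 (h ((X_mem_schubert_iff hd).2 hc)) le_rfl

/-- Every proper Schubert subvariety lies in a divisor. -/
theorem exists_divisor {τ w : Idx d n} (h : τ < w) : ∃ φ ∈ divisors w, τ ≤ φ := by
  have hle : τ ≤ w := h.le
  have hne : (univ.filter fun t => τ.1 t < w.1 t).Nonempty := by
    by_contra hc
    refine h.ne (Subtype.ext (funext fun t => le_antisymm (hle t) (not_lt.1 fun ht => hc ⟨t, ?_⟩)))
    simpa using ht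
  set t₀ := (univ.filter fun t => τ.1 t < w.1 t).min' hne
  have ht₀ : τ.1 t₀ < w.1 t₀ := by simpa using (univ.filter fun t => τ.1 t < w.1 t).min'_mem hne
  have hbefore : ∀ t < t₀, w.1 t = τ.1 t := fun t ht => le_antisymm (not_lt.1 fun hlt =>
    not_le.2 ht ((univ.filter fun t => τ.1 t < w.1 t).min'_le t (by simpa using hlt))) (hle t)
  have hpos : (τ.1 t₀).val < (w.1 t₀).val := ht₀
  set v : Fin n := ⟨(w.1 t₀).val - 1, by omega⟩ with hv
  have hmono : StrictMono (Function.update w.1 t₀ v) := by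
    intro a b hab
    by_cases ha : a = t₀ <;> by_cases hb : b = t₀
    · subst ha; subst hb; exact absurd hab (lt_irrefl _)
    · subst ha
      rw [Function.update_self, Function.update_of_ne hb, Fin.lt_def, hv]
      have h2 : w.1 t₀ < w.1 b := w.2 hab
      rw [Fin.lt_def] at h2
      show (w.1 t₀).val - 1 < _
      omega
    · subst hb
      rw [Function.update_self, Function.update_of_ne ha, Fin.lt_def, hv, hbefore a hab]
      have h2 : τ.1 a < τ.1 t₀ := τ.2 hab
      rw [Fin.lt_def] at h2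
      show _ < (w.1 t₀).val - 1
      omega
    · rw [Function.update_of_ne ha, Function.update_of_ne hb]
      exact w.2 hab
  have hφt : ∀ t, t ≠ t₀ → Function.update w.1 t₀ v t = w.1 t := fun t ht =>
    Function.update_of_ne ht _ _
  refine ⟨⟨_, hmono⟩, ⟨lt_of_le_of_ne (fun t => ?_) fun e => ?_, ?_⟩, fun t => ?_⟩
  · show Function.update w.1 t₀ v t ≤ w.1 t
    by_cases ht : t = t₀
    · subst ht; rw [Function.update_self, Fin.le_def]; show (w.1 t₀).val - 1 ≤ _; omega
    · rw [hφt t ht]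
  · have := congrFun (congrArg Subtype.val e) t₀
    simp only [Function.update_self, hv, Fin.ext_iff] at this
    omega
  · unfold codeg
    rw [← Finset.add_sum_erase univ _ (mem_univ t₀),
      ← Finset.add_sum_erase univ (fun t => (w.1 t).val - t.val) (mem_univ t₀)]
    rw [Finset.sum_congr rfl (fun t ht => by rw [hφt t (ne_of_mem_erase ht)] :
      ∀ t ∈ univ.erase t₀, ((Function.update w.1 t₀ v) t).val - t.val = (w.1 t).val - t.val)]
    have h1 : ((bot (show d ≤ n by
      simpa using Fintype.card_le_of_injective _ w.2.injective)).1 t₀).val ≤ (τ.1 t₀).val := bot_le _ τ t₀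
    simp only [bot] at h1
    simp only [Function.update_self, hv]
    omega
  · show τ.1 t ≤ Function.update w.1 t₀ v t
    by_cases ht : t = t₀
    · subst ht; rw [Function.update_self, Fin.le_def]; show _ ≤ (w.1 t₀).val - 1; omega
    · rw [hφt t ht]; exact hle t

lemma schubert_sup_span (hd : 0 < d) (τ : Idx d n) (hτ : ∃ φ : Idx d n, φ < τ) :
    schubertVanishing K d n τ ⊔ Ideal.span {X τ} = ⨅ φ ∈ divisors τ, schubertVanishing K d n φ := by
  refine le_antisymm (le_iInf₂ fun φ hφ => sup_le (schubert_anti hd hφ.1.le) ?_) fun f hf => ?_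
  · rw [Ideal.span_singleton_le_iff_mem, X_mem_schubert_iff hd]
    exact fun h => not_le_of_gt hφ.1 h
  simp only [Submodule.mem_iInf] at hf
  obtain ⟨g, hg⟩ := exists_coords f
  refine mem_of_coords (I := _ ⊔ _) ((plIdealTop_le hd τ).trans le_sup_left) hg fun x hx hne => ?_
  obtain ⟨m, c, hc⟩ := x
  by_cases hall : ∀ k, c k ≤ τ
  swap
  · exact Ideal.mem_sup_left (chainMon_mem_schubert hd hall)
  have hdiv : ∀ φ ∈ divisors τ, ¬ ∀ k, c k ≤ φ := fun φ hφ h =>
    hne ((mem_schubert_iff_coords hd φ hg).1 (hf φ hφ) _ hx h)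
  rcases Nat.eq_zero_or_pos m with rfl | hm
  · obtain ⟨φ₀, hφ₀⟩ := hτ
    obtain ⟨φ, hφ, -⟩ := exists_divisor hφ₀
    exact absurd (fun k => k.elim0) (hdiv φ hφ)
  rcases eq_or_lt_of_le (hall ⟨0, hm⟩) with e | e
  · refine Ideal.mem_sup_right (Ideal.mem_span_singleton.2 ?_)
    rw [← e]
    exact Finset.dvd_prod_of_mem (fun k => (X (c k) : PlRing K d n)) (mem_univ (⟨0, hm⟩ : Fin m))
  · obtain ⟨φ, hφ, hle⟩ := exists_divisor e
    exact absurd (fun k => (hc (show (⟨0, hm⟩ : Fin m) ≤ k from Nat.zero_le _)).trans hle) (hdiv φ hφ)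

end Groth.Agent.Lib.Grass.Ideals
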