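import Groth.Agent.Lib.Grass.Semigroup
import Mathlib.RingTheory.Adjoin.Basic
import Mathlib.Algebra.MvPolynomial.NoZeroDivisors
import Mathlib.Algebra.MvPolynomial.Funext

/-!
# First fundamental theorem for the special linear group
-/

set_option linter.unusedSectionVars false

namespace Groth.Agent.Lib.Grass.Invariant

open W4bk4grassmannian MvPolynomial Finset Minors Cell Straighten Basis Semigroup

universe u

variable {d n : ℕ}

/-- The bottom index. -/
def bot (hdn : d ≤ n) : Idx d n := ⟨fun t => ⟨t.val, lt_of_lt_of_le t.isLt hdn⟩, fun _ _ h => h⟩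

/-- The top index. -/
def top (hdn : d ≤ n) : Idx d n :=
  ⟨fun t => ⟨n - d + t.val, by omega⟩, fun a b h => by
    rw [Fin.lt_def] at h ⊢; simp only; omega⟩

lemma le_top (hdn : d ≤ n) (φ : Idx d n) : φ ≤ top hdn := fun t => by
  have := Finset.card_le_card_of_injOn φ.1 (s := Finset.Ici t) (t := Finset.Ici (φ.1 t))
    (fun s hs => by simpa using φ.2.monotone (Finset.mem_Ici.1 hs)) φ.2.injective.injOn
  simp only [Fin.card_Ici] at this
  show (φ.1 t).val ≤ n - d + t.val
  have := (φ.1 t).isLt
  omega

lemma bot_le (hdn : d ≤ n) (φ : Idx d n) : bot hdn ≤ φ := fun t => by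
  have := Finset.card_le_card_of_injOn φ.1 (s := Finset.Iic t) (t := Finset.Iic (φ.1 t))
    (fun s hs => by simpa using φ.2.monotone (Finset.mem_Iic.1 hs)) φ.2.injective.injOn
  simp only [Fin.card_Iic] at this
  show t.val ≤ (φ.1 t).val
  omega

lemma tailN_diagExp (a : Fin d → Fin n) (t : Fin d) (i : ℕ) :
    tailN (diagExp a) t i = if i ≤ (a t).val then 1 else 0 := by
  simp only [tailN, diagExp_apply]
  rw [Finset.sum_eq_single (a t) (fun b _ hb => by simp [Ne.symm hb]) (by simp)]
  simp

variable {K : Type u} [Field K]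

/-- Division by the bottom coordinate stays inside the coordinate ring. -/
theorem mem_range_of_bot_mul (hd : 0 < d) (hdn : d ≤ n) (τ : Idx d n) {g : CRing K d n}
    (hg : cellMap K τ (X (bot hdn)) * g ∈ Set.range (cellMap K τ)) :
    g ∈ Set.range (cellMap K τ) := by
  have hbot : bot hdn ≤ τ := bot_le hdn τ
  have hb : cellMap K τ (X (bot hdn)) = mdet (cellMat K τ) (bot hdn).1 := evalAt_X _ _
  refine mem_range_of_induct hd τ (fun g => cellMap K τ (X (bot hdn)) * g ∈ Set.range (cellMap K τ))
    (fun g hg hne => ?_) (fun g a f hg => ?_) hg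
  · obtain ⟨f, hf⟩ := hg
    have hb0 : cellMap K τ (X (bot hdn)) ≠ 0 := hb ▸ mdet_cellMat_ne_zero hbot
    have := isSST_degree hd τ (f := f) (hf ▸ mul_ne_zero hb0 hne)
    rw [hf, MonomialOrder.degree_mul hb0 hne, hb, degree_mdet_cellMat τ _ hbot] at this
    refine ⟨fun t t' => ?_, fun t t' ht i => ?_, fun t i hi => ?_⟩
    · have h := this.col t t'
      rw [tailN_add, tailN_add, tailN_diagExp, tailN_diagExp, if_pos (Nat.zero_le _),
        if_pos (Nat.zero_le _)] at h
      omega
    · have h := this.step t t' ht i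
      rw [tailN_add, tailN_add, tailN_diagExp, tailN_diagExp] at h
      have e : (if i + 1 ≤ ((bot hdn).1 t').val then 1 else 0 : ℕ) =
          if i ≤ ((bot hdn).1 t).val then 1 else 0 :=
        if_congr (show i + 1 ≤ t'.val ↔ i ≤ t.val by omega) rfl rfl
      omega
    · have h := this.supp t i hi
      simp only [Finsupp.add_apply] at h
      omega
  · obtain ⟨f', hf'⟩ := hg
    exact ⟨f' - a • (X (bot hdn) * f), by rw [map_sub, map_smul, map_mul, hf', mul_sub, mul_smul_comm]⟩

lemma mdet_update_one (B : Matrix (Fin n) (Fin d) K) (φ : Fin d → Fin n) (t : Fin d) (i : Fin n)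
    (hB : B.submatrix φ id = 1) : mdet B (Function.update φ t i) = B i t := by
  have h1 : B.submatrix (Function.update φ t i) id =
      (1 : Matrix (Fin d) (Fin d) K).updateRow t (B i) := by
    ext s c
    rw [Matrix.updateRow_apply, ← hB]
    by_cases hs : s = t
    · subst hs; simp
    · simp [hs]
  rw [mdet, h1]
  have h2 := Matrix.det_updateRow_sum (1 : Matrix (Fin d) (Fin d) K) t (B i)
  have h3 : ∑ k, B i k • (1 : Matrix (Fin d) (Fin d) K) k = B i := by
    funext c; simp [Finset.sum_apply, Matrix.one_apply]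
  rw [h3, Matrix.det_one, smul_eq_mul, mul_one] at h2
  exact h2

lemma eval_rightTranslate (g : Matrix.SpecialLinearGroup (Fin d) K) (f : MatRing K d n)
    (A : Matrix (Fin n) (Fin d) K) :
    eval (fun p => A p.1 p.2) (rightTranslate K d n g f) =
      eval (fun p => (A * (g : Matrix (Fin d) (Fin d) K)) p.1 p.2) f := by
  rw [← aeval_eq_eval, ← aeval_eq_eval]
  change ((aeval fun p : Fin n × Fin d => A p.1 p.2).comp (rightTranslate K d n g)) f = _
  congr 1
  refine MvPolynomial.algHom_ext fun p => ?_
  simp [rightTranslate, Matrix.mul_apply]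

lemma eval_pluckerMap (A : Matrix (Fin n) (Fin d) K) (P : PlRing K d n) :
    eval (fun p => A p.1 p.2) (pluckerMap K d n P) = evalAt A P := by
  rw [← aeval_eq_eval, pluckerMap_eq, evalAt_comp]
  congr 2
  ext i j
  simp [genX]

/-- An invariant times a power of the bottom minor is a polynomial in the minors. -/
theorem exists_bot_pow (hd : 0 < d) (hdn : d ≤ n) (f : MatRing K d n)
    (hf : ∀ g : Matrix.SpecialLinearGroup (Fin d) K, rightTranslate K d n g f = f) :
    ∃ (k : ℕ) (P : PlRing K d n), ∀ A : Matrix (Fin n) (Fin d) K, mdet A (bot hdn).1 ≠ 0 →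
      evalAt A P = mdet A (bot hdn).1 ^ k * eval (fun p => A p.1 p.2) f := by
  classical
  set φ := bot hdn
  set k := f.totalDegree
  let M : Fin n × Fin d → PlRing K d n := fun p =>
    coord K d n (Function.update φ.1 p.2 p.1) * if p.2 = ⟨0, hd⟩ then X φ else 1
  refine ⟨k, ∑ e ∈ f.support,
    C (coeff e f) * X φ ^ (k - ∑ p, e p) * ∏ p, M p ^ e p, fun A hA => ?_⟩
  set δ := mdet A φ.1 with hδ
  set P₀ := A.submatrix φ.1 id
  have hP : IsUnit P₀.det := isUnit_iff_ne_zero.2 hA
  let D : Fin d → K := Function.update (fun _ => 1) ⟨0, hd⟩ P₀.det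
  have hdet : (P₀⁻¹ * Matrix.diagonal D).det = 1 := by
    rw [Matrix.det_mul, Matrix.det_diagonal, Finset.prod_update_of_mem (mem_univ _),
      Matrix.det_nonsing_inv, Ring.inverse_eq_inv']
    simp [inv_mul_cancel₀ (show P₀.det ≠ 0 from hA)]
  set g : Matrix.SpecialLinearGroup (Fin d) K := ⟨_, hdet⟩
  set C₀ := A * (P₀⁻¹ * Matrix.diagonal D)
  have hfA : eval (fun p => A p.1 p.2) f = eval (fun p => C₀ p.1 p.2) f := by
    conv_lhs => rw [← hf g]
    exact eval_rightTranslate g f A
  set B := A * P₀⁻¹
  have hB1 : B.submatrix φ.1 id = 1 := by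
    rw [Matrix.submatrix_mul A P₀⁻¹ _ _ id Function.bijective_id, Matrix.submatrix_id_id,
      Matrix.mul_nonsing_inv P₀ hP]
  have hM : ∀ p, evalAt A (M p) = δ * C₀ p.1 p.2 := by
    rintro ⟨i, t⟩
    have h1 : mdet B (Function.update φ.1 t i) = mdet A (Function.update φ.1 t i) * P₀⁻¹.det := by
      rw [mdet, mdet, Matrix.submatrix_mul A P₀⁻¹ _ _ id Function.bijective_id,
        Matrix.submatrix_id_id, Matrix.det_mul]
    rw [mdet_update_one B φ.1 t i hB1, Matrix.det_nonsing_inv, Ring.inverse_eq_inv'] at h1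
    have h2 : C₀ i t = B i t * D t := by
      simp only [C₀, ← Matrix.mul_assoc, Matrix.mul_diagonal, B]
    simp only [M, map_mul, evalAt_coord]
    rw [h2, h1, hδ, show P₀.det = mdet A φ.1 from rfl]
    have hne : mdet A φ.1 ≠ 0 := hA
    split_ifs with ht
    · subst ht
      simp only [evalAt_X, D, Function.update_self]
      rw [show P₀.det = mdet A φ.1 from rfl]
      field_simp
    · simp only [map_one, D, Function.update_of_ne ht]
      field_simp
  rw [hfA, eval_eq', map_sum, Finset.mul_sum]
  refine Finset.sum_congr rfl fun e he => ?_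
  have hle : ∑ p, e p ≤ k := by
    refine le_trans (le_of_eq ?_) (MvPolynomial.le_totalDegree he)
    rw [Finsupp.sum_fintype]; simp
  simp only [map_mul, map_pow, map_prod, evalAt_X, hM, mul_pow, Finset.prod_mul_distrib,
    Finset.prod_pow_eq_pow_sum]
  rw [show evalAt A (C (coeff e f) : PlRing K d n) = coeff e f by simp [evalAt], ← hδ]
  rw [show δ ^ k = δ ^ (k - ∑ p, e p) * δ ^ ∑ p, e p by rw [← pow_add]; congr 1; omega]
  ring

theorem invariant_iff [Infinite K] (hd : 0 < d) (hdn : d ≤ n) (f : MatRing K d n) :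
    (∀ g : Matrix.SpecialLinearGroup (Fin d) K, rightTranslate K d n g f = f) ↔
      f ∈ Algebra.adjoin K (Set.range fun θ : Idx d n => minor K d n θ.1) := by
  constructor
  swap
  · intro hf g
    suffices H : Algebra.adjoin K (Set.range fun θ : Idx d n => minor K d n θ.1) ≤
        AlgHom.equalizer (rightTranslate K d n g) (AlgHom.id K (MatRing K d n)) from H hf
    refine Algebra.adjoin_le ?_
    rintro _ ⟨θ, rfl⟩
    show rightTranslate K d n g (minor K d n θ.1) = minor K d n θ.1
    have e : (genX K d n).map (rightTranslate K d n g) =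
        genX K d n * (g : Matrix (Fin d) (Fin d) K).map C := by
      ext i j
      simp [genX, rightTranslate, Matrix.mul_apply]
    rw [minor_eq, ← AlgHom.coe_toRingHom, mdet_map, AlgHom.coe_toRingHom, e, mdet,
      Matrix.submatrix_mul _ _ _ _ id Function.bijective_id, Matrix.submatrix_id_id,
      Matrix.det_mul, ← RingHom.mapMatrix_apply, ← RingHom.map_det, g.2, map_one, mul_one]
    rfl
  intro hf
  obtain ⟨k, P, hP⟩ := exists_bot_pow hd hdn f hf
  set φ := bot hdn
  set τ := top hdn
  set h : CRing K d n := aeval (fun p : Fin n × Fin d => cellMat K τ p.1 p.2) f with hh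
  have hev : ∀ (x : Var d n → K), eval x h =
      eval (fun p => ((cellMat K τ).map (eval x)) p.1 p.2) f := fun x => by
    rw [hh, ← aeval_eq_eval, ← aeval_eq_eval]
    change ((aeval x).comp (aeval fun p : Fin n × Fin d => cellMat K τ p.1 p.2)) f = _
    congr 1
    refine MvPolynomial.algHom_ext fun p => ?_
    simp [aeval_eq_eval]
  have hkey : cellMap K τ (X φ) ^ k * h = cellMap K τ P := by
    have hne : cellMap K τ (X φ) ≠ 0 := by
      rw [show cellMap K τ (X φ) = mdet (cellMat K τ) φ.1 from evalAt_X _ _]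
      exact mdet_cellMat_ne_zero (bot_le hdn τ)
    refine mul_left_cancel₀ hne ?_
    refine MvPolynomial.funext fun x => ?_
    simp only [map_mul, map_pow, hev]
    have e1 : ∀ p, eval x (cellMap K τ p) = evalAt ((cellMat K τ).map (eval x)) p := fun p => by
      rw [← aeval_eq_eval]; exact evalAt_comp (aeval x) (cellMat K τ) p
    simp only [e1, evalAt_X]
    rcases eq_or_ne (mdet ((cellMat K τ).map (eval x)) φ.1) 0 with h0 | h0
    · simp [h0]
    · rw [hP _ h0]
  have hh' : h ∈ Set.range (cellMap K τ) := by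
    suffices H : ∀ k (g : CRing K d n), cellMap K τ (X φ) ^ k * g ∈ Set.range (cellMap K τ) →
        g ∈ Set.range (cellMap K τ) from H k h ⟨P, hkey.symm⟩
    intro k
    induction k with
    | zero => intro g hg; simpa using hg
    | succ k ih =>
      intro g hg
      exact mem_range_of_bot_mul hd hdn τ (ih _ (by rwa [← mul_assoc, ← pow_succ]))
  obtain ⟨Q, hQ⟩ := hh'
  have hfQ : f = pluckerMap K d n Q := by
    have hne : minor K d n φ.1 ≠ 0 := by
      intro h0
      have := congrArg (aeval (fun p : Fin n × Fin d => cellMat K τ p.1 p.2)) h0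
      rw [minor_eq, ← AlgHom.coe_toRingHom, mdet_map, map_zero] at this
      refine mdet_cellMat_ne_zero (K := K) (bot_le hdn τ) ?_
      convert this using 2
      ext i j; simp [genX]
    refine mul_left_cancel₀ hne (MvPolynomial.funext fun x => ?_)
    set A : Matrix (Fin n) (Fin d) K := Matrix.of fun i j => x (i, j) with hAdef
    have hx : x = fun p => A p.1 p.2 := by funext p; simp [A]
    rw [hx, map_mul, map_mul, eval_pluckerMap]
    have hδ : eval (fun p => A p.1 p.2) (minor K d n φ.1) = mdet A φ.1 := by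
      have := eval_pluckerMap A (X φ)
      simpa [pluckerMap] using this
    rw [hδ]
    rcases eq_or_ne (mdet A φ.1) 0 with h0 | h0
    · simp [h0]
    congr 1
    obtain ⟨C, hC, hminor⟩ := exists_staircase hd τ A (fun θ hθ => absurd (le_top hdn θ) hθ)
    have eC : (evalAt A : PlRing K d n →ₐ[K] K) = evalAt C :=
      MvPolynomial.algHom_ext fun θ => by simp [hminor θ]
    have h1 : eval (fun p => A p.1 p.2) f = eval (fun p => C p.1 p.2) f := by
      have a1 := hP A h0
      have a2 := hP C (by rwa [hminor])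
      rw [eC, a2, hminor] at a1
      exact (mul_left_cancel₀ (pow_ne_zero _ h0) a1).symm
    have h2 : (cellMat K τ).map (eval fun v => C (ofLex v).2 (ofLex v).1) = C := by
      ext i t
      simp only [Matrix.map_apply, cellMat, Matrix.of_apply]
      split_ifs with hit
      · simp
      · simp [hC i t (not_le.1 hit)]
    rw [h1, eC]
    calc eval (fun p => C p.1 p.2) f = eval (fun v => C (ofLex v).2 (ofLex v).1) h := by
          rw [hev, h2]
      _ = evalAt C Q := by
          rw [← hQ, ← aeval_eq_eval]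
          refine (evalAt_comp (aeval _) (cellMat K τ) Q).trans ?_
          rw [aeval_eq_eval, h2]
  rw [hfQ]
  change pluckerMap K d n Q ∈ _
  rw [Algebra.adjoin_range_eq_range_aeval]
  exact ⟨Q, rfl⟩

end Groth.Agent.Lib.Grass.Invariant
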