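import Groth.Agent.Lib.Grass.DetRing

/-!
# First fundamental theorem for the general linear group
-/

set_option linter.unusedSectionVars false

namespace Groth.Agent.Lib.Grass.InvariantGL

open W4bk4grassmannian MvPolynomial Finset Minors BigCell Ideals Determinantal

universe u

variable {K : Type u} [Field K]

/-- The point of `M_{m,n} × M_{n,q}` as an assignment of variables. -/
def pt {m n q : ℕ} (U : Matrix (Fin m) (Fin n) K) (W : Matrix (Fin n) (Fin q) K) :
    (Fin m × Fin n) ⊕ (Fin n × Fin q) → K :=
  Sum.elim (fun p => U p.1 p.2) fun p => W p.1 p.2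

lemma eval_pairingMap {m n q : ℕ} (U : Matrix (Fin m) (Fin n) K) (W : Matrix (Fin n) (Fin q) K)
    (P : MvPolynomial (Fin m × Fin q) K) :
    eval (pt U W) (pairingMap K n m q P) = eval (fun p => (U * W) p.1 p.2) P := by
  rw [← aeval_eq_eval, ← aeval_eq_eval]
  show ((aeval (pt U W)).comp (pairingMap K n m q)) P = _
  congr 1
  refine MvPolynomial.algHom_ext fun ⟨i, j⟩ => ?_
  simp [pairingMap, pt, Matrix.mul_apply]

lemma eval_glTranslate {m n q : ℕ} (A : GL (Fin n) K) (U : Matrix (Fin m) (Fin n) K)
    (W : Matrix (Fin n) (Fin q) K) (f : PairRing K n m q) :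
    eval (pt U W) (glTranslate K n m q A f) =
      eval (pt (U * ((A⁻¹ : GL (Fin n) K) : Matrix (Fin n) (Fin n) K))
        ((A : Matrix (Fin n) (Fin n) K) * W)) f := by
  rw [← aeval_eq_eval, ← aeval_eq_eval]
  show ((aeval (pt U W)).comp (glTranslate K n m q A)) f = _
  congr 1
  refine MvPolynomial.algHom_ext fun v => ?_
  rcases v with ⟨i, j⟩ | ⟨i, j⟩ <;> simp [glTranslate, pt, Matrix.mul_apply]

lemma glTranslate_pairingMap {m n q : ℕ} (A : GL (Fin n) K) :
    (glTranslate K n m q A).comp (pairingMap K n m q) = pairingMap K n m q := by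
  refine MvPolynomial.algHom_ext fun ⟨i, j⟩ => ?_
  let U : Matrix (Fin m) (Fin n) (PairRing K n m q) := Matrix.of fun i k => X (Sum.inl (i, k))
  let W : Matrix (Fin n) (Fin q) (PairRing K n m q) := Matrix.of fun k j => X (Sum.inr (k, j))
  let a : Matrix (Fin n) (Fin n) (PairRing K n m q) := (A : Matrix (Fin n) (Fin n) K).map C
  let b : Matrix (Fin n) (Fin n) (PairRing K n m q) :=
    ((A⁻¹ : GL (Fin n) K) : Matrix (Fin n) (Fin n) K).map C
  have hba : b * a = 1 := by
    simp only [a, b, ← Matrix.map_mul]
    rw [← Units.val_mul, inv_mul_cancel, Units.val_one, Matrix.map_one _ (map_zero C) (map_one C)]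
  have h1 : (glTranslate K n m q A).comp (pairingMap K n m q) (X (i, j)) = ((U * b) * (a * W)) i j := by
    simp [pairingMap, glTranslate, Matrix.mul_apply, U, W, a, b]
  rw [h1, Matrix.mul_assoc, ← Matrix.mul_assoc b, hba, Matrix.one_mul]
  simp [pairingMap, Matrix.mul_apply, U, W]

variable [Infinite K] {d r n : ℕ}

/-- Divisibility by the top corner minor on matrices of bounded rank. -/
theorem exists_mul_of_vanish (hd : 0 < d) (τ : Idx d (d + r)) (hτ : ∃ φ, φ < τ) {P : CellRing K d r}
    (h : ∀ Z, Cond τ Z → eval Z (cellMinor K d r τ) = 0 → eval Z P = 0) :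
    ∃ P', P - cellMinor K d r τ * P' ∈ detVan τ := by
  obtain ⟨G, hG⟩ := cellRes_surjective P
  set G' := homog G.totalDegree G
  have hG' : cellRes K d r G' = P := by rw [cellRes_homog le_rfl, hG]
  have hmem : G' ∈ ⨅ φ ∈ divisors τ, schubertVanishing K d (d + r) φ := by
    simp only [Submodule.mem_iInf]
    intro φ hφ
    refine mem_of_vanish hd φ (homog_isHomogeneous _ _) fun Z hZ => ?_
    rw [hG']
    refine h Z (fun ψ hψ => hZ ψ fun hle => hψ (hle.trans hφ.1.le)) (hZ τ fun hle => ?_)
    exact not_le_of_gt hφ.1 hle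
  rw [← schubert_sup_span hd τ hτ] at hmem
  obtain ⟨j, hj, y, hy, hjy⟩ := Submodule.mem_sup.1 hmem
  obtain ⟨c, rfl⟩ := Ideal.mem_span_singleton.1 hy
  refine ⟨cellRes K d r c, ?_⟩
  rw [← hG', ← hjy, map_add, map_mul, cellRes_X, add_sub_cancel_right]
  exact Ideal.mem_map_of_mem _ hj

/-- The row set `last n` of `Fin r`. -/
def lastRows (hnr : n ≤ r) (i : Fin n) : Fin r := ⟨r - n + i.val, by omega⟩

lemma cellMinor_tau (hn : 1 ≤ n) (hnd : n ≤ d) (hnr : n ≤ r) :
    ∃ c : CellRing K d r, IsUnit c ∧
      cellMinor K d r (tau (show 1 ≤ n + 1 by omega) (show n + 1 ≤ d + 1 by omega) (show n + 1 ≤ r + 1 by omega)) =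
        c * ((genMatrix K r d).submatrix (lastRows hnr) (Fin.castLE hnd)).det := by
  classical
  set τ := tau (d := d) (r := r) (show 1 ≤ n + 1 by omega) (show n + 1 ≤ d + 1 by omega) (show n + 1 ≤ r + 1 by omega) with hτ
  let a : Fin d → Fin (d + r) := fun j =>
    if h : j.val < n then Fin.natAdd d (lastRows hnr ⟨j.val, h⟩) else Fin.castAdd r j
  have hinj : Function.Injective a := by
    intro x y hxy
    simp only [a] at hxy
    apply Fin.ext
    split_ifs at hxy with hx hy hy <;> simp [Fin.ext_iff, lastRows] at hxy <;> omega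
  have hdet : mdet (cellMatrix K d r) a = ((genMatrix K r d).submatrix (lastRows hnr) (Fin.castLE hnd)).det := by
    rw [mdet, Matrix.twoBlockTriangular_det _ (fun j : Fin d => j.val < n)]
    · let e : Fin n ≃ {j : Fin d // j.val < n} :=
        { toFun := fun k => ⟨Fin.castLE hnd k, k.isLt⟩
          invFun := fun j => ⟨j.1.val, j.2⟩
          left_inv := fun k => rfl
          right_inv := fun j => rfl }
      have h2 : Matrix.toSquareBlockProp ((cellMatrix K d r).submatrix a id)
          (fun j : Fin d => ¬ j.val < n) = 1 := by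
        ext ⟨i, hi⟩ ⟨j, hj⟩
        simp only [Matrix.toSquareBlockProp_def, Matrix.of_apply, Matrix.submatrix_apply, id,
          show a i = Fin.castAdd r i from dif_neg hi,
          cellMatrix_of_lt (show (Fin.castAdd r i).val < d from i.isLt), Fin.val_castAdd,
          Matrix.one_apply, Subtype.mk.injEq, Fin.val_inj]
      rw [h2, Matrix.det_one, mul_one, ← Matrix.det_submatrix_equiv_self e]
      refine congrArg Matrix.det (Matrix.ext fun k l => ?_)
      show cellMatrix K d r (a (Fin.castLE hnd k)) (Fin.castLE hnd l) = _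
      rw [show a (Fin.castLE hnd k) = Fin.natAdd d (lastRows hnr k) from dif_pos k.isLt, cellMatrix_natAdd]
      rfl
    · intro i hi j hj
      have hne : i.val ≠ j.val := fun e => hi (e ▸ hj)
      simp [show a i = Fin.castAdd r i from dif_neg hi,
        cellMatrix_of_lt (show (Fin.castAdd r i).val < d from i.isLt), hne]
  have hcard : (univ.image a).card = d := by
    rw [card_image_of_injective _ hinj, card_univ, Fintype.card_fin]
  obtain ⟨σ, hσ, -⟩ := exists_sort a hcard
  have hsort : sortIdx d _ a hcard = τ := by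
    refine Subtype.ext (Finset.orderEmbOfFin_unique hcard (fun s => ?_) τ.2).symm
    rw [mem_image]
    by_cases hs : s.val + (n + 1) < d + 1
    · refine ⟨⟨s.val + n, by omega⟩, mem_univ _, Fin.ext ?_⟩
      simp only [hτ, tau, if_pos hs, a]
      rw [dif_neg (by omega)]
      simp
    · refine ⟨⟨s.val - (d - n), by omega⟩, mem_univ _, Fin.ext ?_⟩
      simp only [hτ, tau, if_neg hs, a]
      rw [dif_pos (show s.val - (d - n) < n by omega)]
      simp [lastRows]
      omega
  refine ⟨((σ.sign : ℤ) : CellRing K d r), (Units.isUnit _).map (Int.castRingHom (CellRing K d r)), ?_⟩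
  rw [cellMinor_eq, ← hdet, ← hσ, mdet_comp_perm, hsort, ← mul_assoc, ← Int.cast_mul,
    ← Units.val_mul, Int.units_mul_self]
  simp

theorem invariant_mem_range_of_le {m q : ℕ} (hn : 1 ≤ n) (hnm : n ≤ m) (hnq : n ≤ q)
    (f : PairRing K n m q) (hf : ∀ A : GL (Fin n) K, glTranslate K n m q A f = f) :
    f ∈ (pairingMap K n m q).range := by
  classical
  set R0 := lastRows hnm
  set C0 : Fin n → Fin q := Fin.castLE hnq
  set Y := genMatrix K m q
  set Y00 := Y.submatrix R0 C0
  set δ := Y00.det with hδ
  set N := Y.submatrix id C0 * Y00.adjugate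
  set k := f.totalDegree
  let sU : (Fin m × Fin n) ⊕ (Fin n × Fin q) → MvPolynomial (Fin m × Fin q) K :=
    Sum.elim (fun p => N p.1 p.2) fun p => δ * Y (R0 p.1) p.2
  set P : MvPolynomial (Fin m × Fin q) K :=
    ∑ e ∈ f.support, C (coeff e f) * δ ^ (k - ∑ v, e v) * ∏ v, sU v ^ e v
  have hgen : ∀ (U : Matrix (Fin m) (Fin n) K) (W : Matrix (Fin n) (Fin q) K) (v : Fin m × Fin q),
      eval (fun p => (U * W) p.1 p.2) (Y v.1 v.2) = (U * W) v.1 v.2 := fun U W v => by
    simp [Y, genMatrix]
  have key : pairingMap K n m q P = pairingMap K n m q δ ^ k * f := by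
    have hne : pairingMap K n m q δ ≠ 0 := by
      intro h0
      have := congrArg (eval (pt (Matrix.of fun i j => if i = R0 j then (1 : K) else 0)
        (Matrix.of fun i j => if j = C0 i then (1 : K) else 0))) h0
      rw [eval_pairingMap, map_zero, hδ, RingHom.map_det] at this
      refine one_ne_zero (α := K) (Eq.trans ?_ this)
      rw [← Matrix.det_one (n := Fin n)]
      refine congrArg Matrix.det (Matrix.ext fun a b => ?_)
      have hR : Function.Injective R0 := fun x y h => by simp [R0, lastRows, Fin.ext_iff] at h; exact Fin.ext h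
      have hC : Function.Injective C0 := Fin.castLE_injective hnq
      simp only [RingHom.mapMatrix_apply, Matrix.map_apply, Y00, Y, Matrix.submatrix_apply, genMatrix,
        Matrix.of_apply, eval_X, Matrix.mul_apply, hR.eq_iff, hC.eq_iff, Matrix.one_apply]
      simp [eq_comm]
    refine mul_left_cancel₀ hne (MvPolynomial.funext fun x => ?_)
    set U : Matrix (Fin m) (Fin n) K := Matrix.of fun i j => x (Sum.inl (i, j))
    set W : Matrix (Fin n) (Fin q) K := Matrix.of fun i j => x (Sum.inr (i, j))
    have hx : x = pt U W := by funext v; rcases v with ⟨i, j⟩ | ⟨i, j⟩ <;> rfl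
    rw [hx, map_mul, map_mul, map_mul, map_pow, eval_pairingMap, eval_pairingMap]
    set ev := (eval fun p : Fin m × Fin q => (U * W) p.1 p.2)
    have h00 : Y00.map ev = U.submatrix R0 id * W.submatrix id C0 := by
      ext a b
      simp [Y00, Y, ev, genMatrix, Matrix.mul_apply]
    have hdet : ev δ = (U.submatrix R0 id).det * (W.submatrix id C0).det := by
      rw [hδ, RingHom.map_det, RingHom.mapMatrix_apply, h00, Matrix.det_mul]
    rcases eq_or_ne (ev δ) 0 with h0 | h0
    · rw [h0]; ring
    congr 1
    set U0 := U.submatrix R0 id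
    set W0 := W.submatrix id C0
    have hU0 : IsUnit U0.det := isUnit_iff_ne_zero.2 fun h => h0 (by rw [hdet, h, zero_mul])
    have hW0 : IsUnit W0.det := isUnit_iff_ne_zero.2 fun h => h0 (by rw [hdet, h, mul_zero])
    let A : GL (Fin n) K := Matrix.nonsingInvUnit U0 hU0
    have hA : eval (pt U W) f = eval (pt (U * U0⁻¹) (U0 * W)) f := by
      conv_lhs => rw [← hf A]
      exact eval_glTranslate A U W f
    have hs : ∀ v, ev (sU v) = ev δ * pt (U * U0⁻¹) (U0 * W) v := by
      rintro (⟨i, j⟩ | ⟨i, j⟩)
      · show ev (N i j) = ev δ * (U * U0⁻¹) i j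
        have hN : N.map ev = ev δ • (U * U0⁻¹) := by
          rw [Matrix.map_mul]
          have h1 : (Y.submatrix id C0).map ev = U * W0 := by
            ext a b; simp [Y, ev, genMatrix, W0, Matrix.mul_apply]
          have h2 : (Y00.adjugate).map ev = (Y00.map ev).adjugate := RingHom.map_adjugate ev Y00
          rw [h1, h2, h00, hdet, Matrix.adjugate_mul_distrib]
          rw [Matrix.mul_assoc, ← Matrix.mul_assoc W0, Matrix.mul_adjugate, Matrix.smul_mul,
            Matrix.one_mul, Matrix.mul_smul, Matrix.inv_def, Ring.inverse_eq_inv', Matrix.mul_smul,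
            smul_smul]
          congr 1
          rw [mul_comm U0.det, mul_assoc, mul_inv_cancel₀ hU0.ne_zero, mul_one]
        exact congrFun (congrFun hN i) j
      · show ev (δ * Y (R0 i) j) = ev δ * (U0 * W) i j
        rw [map_mul]
        congr 1
        simp [Y, ev, genMatrix, U0, Matrix.mul_apply]
    rw [hA]
    simp only [P, map_sum, map_mul, map_pow, map_prod, hs]
    rw [MvPolynomial.eval_eq' (f := f), Finset.mul_sum]
    refine Finset.sum_congr rfl fun e he => ?_
    have hle : ∑ v, e v ≤ k := by
      refine le_trans (le_of_eq ?_) (MvPolynomial.le_totalDegree he)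
      rw [Finsupp.sum_fintype]; simp
    simp only [mul_pow, Finset.prod_mul_distrib, Finset.prod_pow_eq_pow_sum]
    rw [show ev (C (coeff e f)) = coeff e f by simp [ev]]
    rw [show ev δ ^ k = ev δ ^ (k - ∑ v, e v) * ev δ ^ ∑ v, e v by rw [← pow_add]; congr 1; omega]
    ring
  have hτlt : ∃ φ : Idx q (q + m),
      φ < tau (show 1 ≤ n + 1 by omega) (show n + 1 ≤ q + 1 by omega) (show n + 1 ≤ m + 1 by omega) := by
    refine ⟨β q m, lt_of_le_of_ne (Invariant.bot_le _ _) fun e => ?_⟩
    have := congrArg (fun x : Idx q (q + m) => (x.1 ⟨0, by omega⟩).val) e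
    simp only [Invariant.bot, tau] at this
    split_ifs at this <;> simp only at this <;> omega
  obtain ⟨c, hc, hcm⟩ := cellMinor_tau (K := K) hn hnq hnm
  set τ := tau (d := q) (r := m) (show 1 ≤ n + 1 by omega) (show n + 1 ≤ q + 1 by omega) (show n + 1 ≤ m + 1 by omega)
  suffices H : ∀ (j : ℕ) (P : MvPolynomial (Fin m × Fin q) K),
      pairingMap K n m q P = pairingMap K n m q δ ^ j * f → f ∈ (pairingMap K n m q).range from H k P key
  intro j
  induction j with
  | zero => intro P hP; exact ⟨P, by simpa using hP⟩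
  | succ j ih =>
    intro P hP
    obtain ⟨P', hP'⟩ := exists_mul_of_vanish (K := K) (show 0 < q by omega) τ hτlt (P := P) fun Z hZ h0 => by
      have hδ0 : eval Z δ = 0 := by
        have hh : eval Z c * eval Z δ = 0 := by
          rw [← map_mul]
          exact (congrArg (eval Z) hcm).symm.trans h0
        exact (mul_eq_zero.1 hh).resolve_left (hc.map (eval Z)).ne_zero
      obtain ⟨U, W, h⟩ := DetRing.exists_factor (Matrix.of fun i j => Z (i, j)) (n := n) fun g₁ g₂ => by
        have hmem : ((genMatrix K m q).submatrix g₁ g₂).det ∈ CAlgX.minorIdeal (genMatrix K m q) (n + 1) :=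
          Ideal.subset_span ⟨(g₁, g₂), rfl⟩
        by_cases hbig : q < n + 1
        · obtain ⟨a, b, hne, he⟩ := Fintype.exists_ne_map_eq_of_card_lt g₂ (by simpa using hbig)
          exact Matrix.det_zero_of_column_eq hne fun j => by simp [he]
        rw [← detVan_tau (K := K) (show 0 < q by omega) (show 1 ≤ n + 1 by omega) (not_lt.1 hbig)
          (show n + 1 ≤ m + 1 by omega)] at hmem
        have h1 := vanish_of_mem hmem Z hZ
        rw [RingHom.map_det] at h1
        rw [← h1]
        refine congrArg Matrix.det (Matrix.ext fun a b => ?_)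
        simp [genMatrix]
      have hZe : Z = fun p => (U * W) p.1 p.2 := funext fun p => congrFun (congrFun h p.1) p.2
      have := congrArg (eval (pt U W)) hP
      rw [eval_pairingMap, map_mul, map_pow, eval_pairingMap, ← hZe, hδ0, zero_pow (by omega), zero_mul] at this
      exact this
    have hker : pairingMap K n m q (P - cellMinor K q m τ * P') = 0 := by
      refine MvPolynomial.funext fun x => ?_
      set U : Matrix (Fin m) (Fin n) K := Matrix.of fun i j => x (Sum.inl (i, j))
      set W : Matrix (Fin n) (Fin q) K := Matrix.of fun i j => x (Sum.inr (i, j))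
      have hx : x = pt U W := by funext v; rcases v with ⟨i, j⟩ | ⟨i, j⟩ <;> rfl
      rw [hx, eval_pairingMap, map_zero]
      refine vanish_of_mem hP' _ fun φ hφ => ?_
      rw [le_tau_iff, not_lt] at hφ
      have hm := det_submatrix_mem (K := K) (n + 1) q φ.1 id hφ
      rw [← DetRing.ker_pairingMap (K := K), RingHom.mem_ker] at hm
      have := congrArg (eval (pt U W)) hm
      rw [map_zero] at this
      rw [← this]
      exact (eval_pairingMap U W _).symm
    rw [map_sub, sub_eq_zero, map_mul, hP, hcm, map_mul, pow_succ'] at hker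
    have hne : pairingMap K n m q δ ≠ 0 := by
      intro h0
      have := congrArg (eval (pt (Matrix.of fun i j => if i = R0 j then (1 : K) else 0)
        (Matrix.of fun i j => if j = C0 i then (1 : K) else 0))) h0
      rw [eval_pairingMap, map_zero, hδ, RingHom.map_det] at this
      refine one_ne_zero (α := K) (Eq.trans ?_ this)
      rw [← Matrix.det_one (n := Fin n)]
      refine congrArg Matrix.det (Matrix.ext fun a b => ?_)
      have hR : Function.Injective R0 := fun x y h => by simp [R0, lastRows, Fin.ext_iff] at h; exact Fin.ext h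
      have hC : Function.Injective C0 := Fin.castLE_injective hnq
      simp only [RingHom.mapMatrix_apply, Matrix.map_apply, Y00, Y, Matrix.submatrix_apply, genMatrix,
        Matrix.of_apply, eval_X, Matrix.mul_apply, hR.eq_iff, hC.eq_iff, Matrix.one_apply]
      simp [eq_comm]
    refine ih (c * P') (mul_left_cancel₀ hne ?_)
    rw [map_mul, ← mul_assoc (pairingMap K n m q δ), ← mul_assoc (pairingMap K n m q δ) (pairingMap K n m q δ ^ j), hker]
    show pairingMap K n m q δ * pairingMap K n m q c * pairingMap K n m q P' =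
      pairingMap K n m q c * pairingMap K n m q δ * pairingMap K n m q P'
    ring

/-- First fundamental theorem for `GL_n`. -/
theorem invariant_iff {m q : ℕ} (f : PairRing K n m q) :
    (∀ A : GL (Fin n) K, glTranslate K n m q A f = f) ↔ f ∈ (pairingMap K n m q).range := by
  refine ⟨fun hf => ?_, ?_⟩
  swap
  · rintro ⟨P, rfl⟩ A
    exact AlgHom.congr_fun (glTranslate_pairingMap A) P
  rcases Nat.eq_zero_or_pos n with rfl | hn
  · have : IsEmpty ((Fin m × Fin 0) ⊕ (Fin 0 × Fin q)) := by
      constructor; rintro (⟨_, j⟩ | ⟨i, _⟩)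
      · exact j.elim0
      · exact i.elim0
    exact ⟨C (coeff 0 f), by rw [eq_C_of_isEmpty f]; simp [pairingMap]⟩
  set m' := max m n
  set q' := max q n
  have hm : m ≤ m' := le_max_left _ _
  have hq : q ≤ q' := le_max_left _ _
  let ι : PairRing K n m q →ₐ[K] PairRing K n m' q' :=
    rename (Sum.map (Prod.map (Fin.castLE hm) id) (Prod.map id (Fin.castLE hq)))
  let ρ : PairRing K n m' q' →ₐ[K] PairRing K n m q :=
    aeval (Sum.elim (fun p => if h : p.1.val < m then X (Sum.inl (⟨p.1.val, h⟩, p.2)) else 0)
      fun p => if h : p.2.val < q then X (Sum.inr (p.1, ⟨p.2.val, h⟩)) else 0)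
  have hρι : ρ.comp ι = AlgHom.id K _ := by
    refine MvPolynomial.algHom_ext fun v => ?_
    rcases v with ⟨i, j⟩ | ⟨i, j⟩ <;> simp [ρ, ι]
  have hinv : ∀ A : GL (Fin n) K, glTranslate K n m' q' A (ι f) = ι f := by
    intro A
    have : (glTranslate K n m' q' A).comp ι = ι.comp (glTranslate K n m q A) := by
      refine MvPolynomial.algHom_ext fun v => ?_
      rcases v with ⟨i, j⟩ | ⟨i, j⟩ <;> simp [glTranslate, ι, map_sum]
    exact (AlgHom.congr_fun this f).trans (congrArg ι (hf A))
  obtain ⟨P, hP⟩ := invariant_mem_range_of_le (K := K) hn (le_max_right m n) (le_max_right q n) (ι f) hinv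
  let σ : MvPolynomial (Fin m' × Fin q') K →ₐ[K] MvPolynomial (Fin m × Fin q) K :=
    aeval fun p => if h : p.1.val < m ∧ p.2.val < q then X (⟨p.1.val, h.1⟩, ⟨p.2.val, h.2⟩) else 0
  have hσ : ρ.comp (pairingMap K n m' q') = (pairingMap K n m q).comp σ := by
    refine MvPolynomial.algHom_ext fun ⟨i, j⟩ => ?_
    simp only [AlgHom.comp_apply, pairingMap, σ, aeval_X, map_sum, map_mul, ρ, Sum.elim_inl, Sum.elim_inr]
    by_cases h1 : i.val < m <;> by_cases h2 : j.val < q <;> simp [h1, h2]
  refine ⟨σ P, ?_⟩
  have := AlgHom.congr_fun hρι f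
  rw [AlgHom.comp_apply, AlgHom.id_apply, ← hP] at this
  show pairingMap K n m q (σ P) = f
  rw [← this]
  exact (AlgHom.congr_fun hσ P).symm

end Groth.Agent.Lib.Grass.InvariantGL
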