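import Groth.Prelude.Def_W4bk4grassmannianPl
import Mathlib.GroupTheory.Perm.Fin
import Mathlib.LinearAlgebra.Alternating.Basic
import Mathlib.LinearAlgebra.StdBasis
import Mathlib.Algebra.MvPolynomial.Eval
import Mathlib.Algebra.CharZero.Defs
import Mathlib.Algebra.MvPolynomial.Nilpotent

/-!
# Minors, signed Plücker coordinates, and vanishing of the shuffle relations
-/

set_option linter.unusedSectionVars false

namespace Groth.Agent.Lib.Grass.Minors

open W4bk4grassmannian MvPolynomial Finset Equiv

universe u v

variable {R : Type u} [CommRing R] {S : Type v} [CommRing S] {d n : ℕ}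

/-- The minor of `A` on the rows `a`. -/
def mdet (A : Matrix (Fin n) (Fin d) R) (a : Fin d → Fin n) : R := (A.submatrix a id).det

/-- The generic matrix. -/
noncomputable def genX (K : Type u) [CommRing K] (d n : ℕ) :
    Matrix (Fin n) (Fin d) (MatRing K d n) :=
  Matrix.of fun i j => X (i, j)

lemma minor_eq (K : Type u) [CommRing K] (a : Fin d → Fin n) :
    minor K d n a = mdet (genX K d n) a := rfl

lemma mdet_map (f : R →+* S) (A : Matrix (Fin n) (Fin d) R) (a : Fin d → Fin n) :
    f (mdet A a) = mdet (A.map f) a := by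
  rw [mdet, mdet, RingHom.map_det]; rfl

lemma mdet_comp_perm (A : Matrix (Fin n) (Fin d) R) (a : Fin d → Fin n) (σ : Perm (Fin d)) :
    mdet A (a ∘ σ) = (σ.sign : ℤ) * mdet A a := by
  have h : A.submatrix (a ∘ σ) id = (A.submatrix a id).submatrix σ id := by
    rw [Matrix.submatrix_submatrix]; rfl
  rw [mdet, mdet, h, Matrix.det_permute]

lemma mdet_eq_zero_of_eq (A : Matrix (Fin n) (Fin d) R) (a : Fin d → Fin n) {s t : Fin d}
    (hst : s ≠ t) (h : a s = a t) : mdet A a = 0 :=
  Matrix.det_zero_of_row_eq hst (funext fun j => by simp [h])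

/-- The sign is `-1` to the number of inversions. -/
lemma sign_eq_neg_one_pow (σ : Perm (Fin d)) :
    (σ.sign : ℤ) = (-1) ^ invCount d d σ := by
  rw [Equiv.Perm.sign_eq_prod_prod_Ioi, invCount, Units.coe_prod]
  simp_rw [Units.coe_prod]
  rw [← Finset.prod_const, Finset.prod_filter, Fintype.prod_prod_type]
  refine Finset.prod_congr rfl fun i _ => ?_
  rw [← Finset.prod_subset (Finset.subset_univ (Finset.Ioi i))]
  · refine Finset.prod_congr rfl fun j hj => ?_
    have hij : i < j := Finset.mem_Ioi.1 hj
    have hne : σ i ≠ σ j := fun h => hij.ne (σ.injective h)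
    rcases lt_or_gt_of_ne hne with h | h
    · simp [h, hij, not_lt.2 h.le]
    · simp [h, hij, not_lt.2 h.le]
  · intro j _ hj
    have : ¬ i < j := fun h => hj (Finset.mem_Ioi.2 h)
    simp [this]

lemma exists_sort (a : Fin d → Fin n) (h : (Finset.univ.image a).card = d) :
    ∃ σ : Perm (Fin d), (sortIdx d n a h).1 ∘ σ = a ∧ invCount d n a = invCount d d σ := by
  have hmem : ∀ t, a t ∈ Finset.univ.image a := fun t => Finset.mem_image_of_mem a (mem_univ t)
  let σ : Fin d → Fin d := fun t => ((Finset.univ.image a).orderIsoOfFin h).symm ⟨a t, hmem t⟩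
  have hσ : ∀ t, (sortIdx d n a h).1 (σ t) = a t := fun t => by
    simp [σ, sortIdx, ← Finset.coe_orderIsoOfFin_apply]
  have hinj : Function.Injective a := by
    intro s t hst
    by_contra hne
    have : (Finset.univ.image a).card < (Finset.univ : Finset (Fin d)).card := by
      apply lt_of_le_of_ne Finset.card_image_le
      intro hc
      exact hne (Finset.card_image_iff.1 hc (by simp) (by simp) hst)
    simp [h] at this
  have hb : Function.Bijective σ := Finite.injective_iff_bijective.1 fun s t hst =>
    hinj (by rw [← hσ s, hst, hσ t])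
  refine ⟨Equiv.ofBijective σ hb, funext hσ, ?_⟩
  rw [invCount, invCount]
  congr 1
  ext ⟨s, t⟩
  simp only [mem_filter, mem_univ, true_and, Equiv.ofBijective_apply]
  rw [← hσ s, ← hσ t, (sortIdx d n a h).2.lt_iff_lt]

/-- Evaluation of Plücker polynomials at the minors of a matrix over an algebra. -/
noncomputable def evalAt {K : Type u} [CommRing K] [Algebra K S] (A : Matrix (Fin n) (Fin d) S) :
    PlRing K d n →ₐ[K] S :=
  MvPolynomial.aeval fun θ : Idx d n => mdet A θ.1

variable {K : Type u} [CommRing K] [Algebra K S]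

@[simp] lemma evalAt_X (A : Matrix (Fin n) (Fin d) S) (θ : Idx d n) :
    evalAt (K := K) A (X θ) = mdet A θ.1 := by simp [evalAt]

lemma evalMinors_eq (A : Matrix (Fin n) (Fin d) K) : evalMinors K d n A = evalAt A := rfl

lemma pluckerMap_eq : pluckerMap K d n = evalAt (genX K d n) := rfl

lemma evalAt_coord (A : Matrix (Fin n) (Fin d) S) (a : Fin d → Fin n) :
    evalAt (K := K) A (coord K d n a) = mdet A a := by
  unfold coord
  split_ifs with h
  · obtain ⟨σ, hσ, hinv⟩ := exists_sort a h
    rw [map_mul, map_pow, map_neg, map_one, evalAt_X]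
    conv_rhs => rw [← hσ, mdet_comp_perm]
    rw [hinv]
    congr 1
    rw [sign_eq_neg_one_pow]; push_cast; rfl
  · rw [map_zero]
    have : ¬ Function.Injective a := fun hi => h (by
      rw [Finset.card_image_of_injective _ hi, card_univ, Fintype.card_fin])
    simp only [Function.Injective, not_forall] at this
    obtain ⟨s, t, hst, hne⟩ := this
    exact (mdet_eq_zero_of_eq A a hne hst).symm

section shuffle

variable (r : Fin d)

/-- The shuffle permutation attached to a set of positions. -/
def shufflePerm (A : Finset (Fin (d + 1))) (hA : A.card = r.val + 1) (k : Fin (d + 1)) :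
    Fin (d + 1) :=
  have hC : Aᶜ.card = d - r.val := by rw [Finset.card_compl, hA, Fintype.card_fin]; omega
  if h : k.val ≤ r.val then A.orderEmbOfFin hA ⟨k.val, by omega⟩
  else Aᶜ.orderEmbOfFin hC ⟨k.val - r.val - 1, by have := k.isLt; omega⟩

variable {r} {A : Finset (Fin (d + 1))} {hA : A.card = r.val + 1}

lemma shufflePerm_mem_iff (k : Fin (d + 1)) : shufflePerm r A hA k ∈ A ↔ k.val ≤ r.val := by
  unfold shufflePerm
  split_ifs with h
  · simp [h, Finset.orderEmbOfFin_mem]
  · simp only [h, iff_false]
    exact Finset.mem_compl.1 (Finset.orderEmbOfFin_mem _ _ _)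

lemma shufflePerm_lt {k l : Fin (d + 1)} (hkl : k < l) (h : k.val ≤ r.val ↔ l.val ≤ r.val) :
    shufflePerm r A hA k < shufflePerm r A hA l := by
  unfold shufflePerm
  by_cases hk : k.val ≤ r.val
  · rw [dif_pos hk, dif_pos (h.1 hk)]
    exact (Finset.orderEmbOfFin A hA).strictMono hkl
  · rw [dif_neg hk, dif_neg (fun h' => hk (h.2 h'))]
    refine (Finset.orderEmbOfFin Aᶜ _).strictMono ?_
    rw [Fin.lt_def] at hkl ⊢
    simp only
    omega

lemma shufflePerm_bijective : Function.Bijective (shufflePerm r A hA) := by
  refine Finite.injective_iff_bijective.1 fun k l h => ?_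
  have hi : k.val ≤ r.val ↔ l.val ≤ r.val := by
    rw [← shufflePerm_mem_iff (hA := hA), ← shufflePerm_mem_iff (hA := hA), h]
  rcases lt_trichotomy k l with hkl | hkl | hkl
  · exact absurd h (shufflePerm_lt hkl hi).ne
  · exact hkl
  · exact absurd h (shufflePerm_lt hkl hi.symm).ne'

variable (r A hA)

/-- The shuffle permutation as a permutation. -/
noncomputable def shuffleEquiv : Perm (Fin (d + 1)) :=
  Equiv.ofBijective _ (shufflePerm_bijective (r := r) (A := A) (hA := hA))

lemma shuffleEquiv_apply (k : Fin (d + 1)) : shuffleEquiv r A hA k = shufflePerm r A hA k := rfl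

lemma image_front : (univ.filter fun k : Fin (d + 1) => k.val ≤ r.val).image (shuffleEquiv r A hA)
    = A := by
  ext a
  simp only [mem_image, mem_filter, mem_univ, true_and]
  refine ⟨?_, fun ha => ⟨(shuffleEquiv r A hA).symm a, ?_, by simp⟩⟩
  · rintro ⟨k, hk, rfl⟩; exact (shufflePerm_mem_iff k).2 hk
  · rw [← shufflePerm_mem_iff (hA := hA), ← shuffleEquiv_apply]; simpa using ha

lemma invCount_shuffle :
    invCount (d + 1) (d + 1) (shuffleEquiv r A hA) + r.val * (r.val + 1) / 2 =
      A.sum fun a => a.val := by
  classical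
  set σ := shuffleEquiv r A hA with hσ
  set F := univ.filter fun k : Fin (d + 1) => k.val ≤ r.val with hF
  have h1 : invCount (d + 1) (d + 1) σ =
      ∑ i, (univ.filter fun j => i < j ∧ σ j < σ i).card := by
    rw [invCount, Finset.card_filter, Fintype.sum_prod_type]
    exact Finset.sum_congr rfl fun i _ => (Finset.card_filter _ _).symm
  have h2 : ∀ i ∉ F, (univ.filter fun j => i < j ∧ σ j < σ i).card = 0 := by
    intro i hi
    simp only [Finset.card_eq_zero, Finset.filter_eq_empty_iff, not_and]
    intro j _ hij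
    simp only [hF, mem_filter, mem_univ, true_and] at hi
    have : ¬ j.val ≤ r.val := by rw [Fin.lt_def] at hij; omega
    exact (shufflePerm_lt hij (by simp [hi, this])).le.not_gt
  have h3 : ∀ i ∈ F, (univ.filter fun j => i < j ∧ σ j < σ i).card + i.val = (σ i).val := by
    intro i hi
    simp only [hF, mem_filter, mem_univ, true_and] at hi
    have e : univ.filter (fun j => σ j < σ i) =
        univ.filter (fun j => i < j ∧ σ j < σ i) ∪ Finset.Iio i := by
      ext j
      simp only [mem_filter, mem_univ, true_and, mem_union, Finset.mem_Iio]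
      constructor
      · intro h
        rcases lt_trichotomy i j with hij | hij | hij
        · exact Or.inl ⟨hij, h⟩
        · exact absurd (hij ▸ h) (lt_irrefl _)
        · exact Or.inr hij
      · rintro (h | h)
        · exact h.2
        · exact shufflePerm_lt h (by rw [Fin.lt_def] at h; constructor <;> intro <;> omega)
    have hdj : Disjoint (univ.filter (fun j => i < j ∧ σ j < σ i)) (Finset.Iio i) := by
      rw [Finset.disjoint_left]
      intro j hj hj'
      simp only [mem_filter, mem_univ, true_and, Finset.mem_Iio] at hj hj'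
      exact lt_asymm hj.1 hj'
    have hc : (univ.filter (fun j => σ j < σ i)).card = (σ i).val := by
      rw [← Fin.card_Iio (σ i)]
      refine Finset.card_nbij σ ?_ σ.injective.injOn ?_
      · intro j hj; simpa using hj
      · intro b hb; exact ⟨σ.symm b, by simpa using hb, by simp⟩
    rw [← hc, e, Finset.card_union_of_disjoint hdj, Fin.card_Iio]
  have h4 : A.sum (fun a => a.val) = ∑ i ∈ F, (σ i).val := by
    conv_lhs => rw [← image_front r A hA]
    rw [Finset.sum_image σ.injective.injOn]
  have h5 : ∑ i ∈ F, i.val = r.val * (r.val + 1) / 2 := by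
    have : ∑ i ∈ F, i.val = ∑ i ∈ Finset.range (r.val + 1), i := by
      refine Finset.sum_nbij (fun i => i.val) ?_ Fin.val_injective.injOn ?_ (fun _ _ => rfl)
      · intro i hi; simp only [hF, mem_filter, mem_univ, true_and] at hi; simp; omega
      · intro b hb; simp only [coe_range, Set.mem_Iio] at hb
        exact ⟨⟨b, by omega⟩, by simp [hF]; omega, rfl⟩
    rw [this, Finset.sum_range_id, Nat.add_sub_cancel, mul_comm]
  rw [h1, h4, ← h5, ← Finset.sum_subset (Finset.subset_univ F) (fun i _ hi => h2 i hi),
    ← Finset.sum_add_distrib]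
  exact Finset.sum_congr rfl h3

lemma sign_shuffle : ((shuffleEquiv r A hA).sign : ℤ) = (-1) ^ shuffleSign r A := by
  rw [sign_eq_neg_one_pow]
  congr 1
  have := invCount_shuffle r A hA
  unfold shuffleSign
  omega

end shuffle

section alternating

variable (M : Matrix (Fin n) (Fin d) R) (i j : Fin d → Fin n) (r : Fin d)

/-- The front matrix: the first `r + 1` rows move. -/
def frontMat (v : Fin (d + 1) → Fin d → R) : Matrix (Fin d) (Fin d) R :=
  Matrix.of fun t => if t.val ≤ r.val then v t.castSucc else M (i t)

/-- The back matrix: the last `d - r` rows move. -/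
def backMat (v : Fin (d + 1) → Fin d → R) : Matrix (Fin d) (Fin d) R :=
  Matrix.of fun t => if t.val < r.val then M (j t) else v t.succ

lemma frontMat_update_of_le [inst : DecidableEq (Fin (d + 1))] (v : Fin (d + 1) → Fin d → R) {t : Fin d}
    (ht : t.val ≤ r.val) (x : Fin d → R) :
    frontMat M i r (Function.update v t.castSucc x) = (frontMat M i r v).updateRow t x := by
  ext s c
  rw [Matrix.updateRow_apply]
  unfold frontMat
  simp only [Matrix.of_apply]
  by_cases h : s = t
  · subst h; simp [ht]
  · simp [h]

lemma backMat_update_of_ge [inst : DecidableEq (Fin (d + 1))] (v : Fin (d + 1) → Fin d → R) {t : Fin d}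
    (ht : r.val ≤ t.val) (x : Fin d → R) :
    backMat M j r (Function.update v t.succ x) = (backMat M j r v).updateRow t x := by
  ext s c
  rw [Matrix.updateRow_apply]
  unfold backMat
  simp only [Matrix.of_apply]
  by_cases h : s = t
  · subst h; simp [not_lt.2 ht]
  · simp [h]

lemma frontMat_update_of_gt [inst : DecidableEq (Fin (d + 1))] (v : Fin (d + 1) → Fin d → R) {k : Fin (d + 1)}
    (hk : r.val < k.val) (x : Fin d → R) :
    frontMat M i r (Function.update v k x) = frontMat M i r v := by
  ext s c
  unfold frontMat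
  simp only [Matrix.of_apply]
  by_cases h : s.val ≤ r.val
  · rw [if_pos h, if_pos h, Function.update_of_ne]
    intro hh; rw [← hh] at hk; simp at hk; omega
  · rw [if_neg h, if_neg h]

lemma backMat_update_of_le [inst : DecidableEq (Fin (d + 1))] (v : Fin (d + 1) → Fin d → R) {k : Fin (d + 1)}
    (hk : k.val ≤ r.val) (x : Fin d → R) :
    backMat M j r (Function.update v k x) = backMat M j r v := by
  ext s c
  unfold backMat
  simp only [Matrix.of_apply]
  by_cases h : s.val < r.val
  · rw [if_pos h, if_pos h]
  · rw [if_neg h, if_neg h, Function.update_of_ne]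
    intro hh; rw [← hh] at hk; simp at hk; omega

/-- The product of the two determinants as a multilinear function of the moving rows. -/
def prodDet : MultilinearMap R (fun _ : Fin (d + 1) => Fin d → R) R where
  toFun v := (frontMat M i r v).det * (backMat M j r v).det
  map_update_add' {inst} v k x y := by
    by_cases hk : k.val ≤ r.val
    · obtain ⟨t, rfl⟩ : ∃ t : Fin d, t.castSucc = k :=
        ⟨⟨k.val, lt_of_le_of_lt hk r.isLt⟩, rfl⟩
      simp only [backMat_update_of_le M j r v hk,
        frontMat_update_of_le M i r v (t := t) (by simpa using hk), Matrix.det_updateRow_add, add_mul]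
    · obtain ⟨t, rfl⟩ : ∃ t : Fin d, t.succ = k :=
        ⟨⟨k.val - 1, by have := k.isLt; omega⟩, by ext; simp; omega⟩
      simp only [frontMat_update_of_gt M i r v (not_le.1 hk),
        backMat_update_of_ge M j r v (t := t) (by simp at hk; omega), Matrix.det_updateRow_add, mul_add]
  map_update_smul' {inst} v k c x := by
    by_cases hk : k.val ≤ r.val
    · obtain ⟨t, rfl⟩ : ∃ t : Fin d, t.castSucc = k :=
        ⟨⟨k.val, lt_of_le_of_lt hk r.isLt⟩, rfl⟩
      simp only [backMat_update_of_le M j r v hk,
        frontMat_update_of_le M i r v (t := t) (by simpa using hk), Matrix.det_updateRow_smul,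
        smul_eq_mul, mul_assoc]
    · obtain ⟨t, rfl⟩ : ∃ t : Fin d, t.succ = k :=
        ⟨⟨k.val - 1, by have := k.isLt; omega⟩, by ext; simp; omega⟩
      simp only [frontMat_update_of_gt M i r v (not_le.1 hk),
        backMat_update_of_ge M j r v (t := t) (by simp at hk; omega), Matrix.det_updateRow_smul,
        smul_eq_mul, mul_left_comm]

lemma prodDet_apply (v : Fin (d + 1) → Fin d → R) :
    prodDet M i j r v = (frontMat M i r v).det * (backMat M j r v).det := rfl

lemma prodDet_swap (v : Fin (d + 1) → Fin d → R) {a b : Fin (d + 1)} (hab : a ≠ b)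
    (h : a.val ≤ r.val ↔ b.val ≤ r.val) :
    prodDet M i j r (v ∘ swap a b) = -prodDet M i j r v := by
  rw [prodDet_apply, prodDet_apply]
  by_cases ha : a.val ≤ r.val
  · have hb := h.1 ha
    have e1 : frontMat M i r (v ∘ swap a b) =
        (frontMat M i r v).submatrix (swap (⟨a.val, lt_of_le_of_lt ha r.isLt⟩ : Fin d) ⟨b.val, lt_of_le_of_lt hb r.isLt⟩) id := by
      ext s c
      simp only [frontMat, Matrix.submatrix_apply, Matrix.of_apply, id, Function.comp_apply,
        swap_apply_def, Fin.ext_iff, Fin.val_castSucc]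
      by_cases h1 : (s : ℕ) = a
      · simp [h1, ha, hb, Fin.ext_iff]
      · by_cases h2 : (s : ℕ) = b
        · have hne : (b : ℕ) ≠ a := fun e => hab (Fin.ext e.symm)
          simp [h2, ha, hb, hne]
        · simp [h1, h2]
    have e2 : backMat M j r (v ∘ swap a b) = backMat M j r v := by
      ext s c
      simp only [backMat, Matrix.of_apply]
      split_ifs with hs
      · rfl
      · rw [Function.comp_apply, swap_apply_of_ne_of_ne] <;>
          · intro e; simp [Fin.ext_iff] at e; omega
    rw [e1, e2, Matrix.det_permute, Equiv.Perm.sign_swap (by simpa [Fin.ext_iff] using hab)]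
    simp
  · have hb : ¬ b.val ≤ r.val := fun hb => ha (h.2 hb)
    have ha1 : a.val - 1 < d := by have := a.isLt; omega
    have hb1 : b.val - 1 < d := by have := b.isLt; omega
    have e1 : backMat M j r (v ∘ swap a b) =
        (backMat M j r v).submatrix (swap (⟨a.val - 1, ha1⟩ : Fin d) ⟨b.val - 1, hb1⟩) id := by
      ext s c
      simp only [backMat, Matrix.submatrix_apply, Matrix.of_apply, id, Function.comp_apply,
        swap_apply_def, Fin.ext_iff, Fin.val_succ]
      by_cases h1 : (s : ℕ) = a.val - 1
      · have h1' : (s : ℕ) + 1 = a := by omega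
        simp [h1, show ¬ (a.val - 1 < r.val) by omega, show ¬ (b.val - 1 < r.val) by omega,
          show a.val - 1 + 1 = a.val by omega, show b.val - 1 + 1 = b.val by omega, Fin.ext_iff]
      · by_cases h2 : (s : ℕ) = b.val - 1
        · have hne : (b : ℕ) ≠ a := fun e => hab (Fin.ext e.symm)
          simp [h1, h2, show ¬ (a.val - 1 < r.val) by omega, show ¬ (b.val - 1 < r.val) by omega,
            show a.val - 1 + 1 = a.val by omega, show b.val - 1 + 1 = b.val by omega, Fin.ext_iff,
            show ¬ b.val - 1 = a.val - 1 by omega, hne]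
        · simp [h1, h2, show ¬ (s.val + 1 = a.val) by omega, show ¬ (s.val + 1 = b.val) by omega]
    have e2 : frontMat M i r (v ∘ swap a b) = frontMat M i r v := by
      ext s c
      simp only [frontMat, Matrix.of_apply]
      split_ifs with hs
      · rw [Function.comp_apply, swap_apply_of_ne_of_ne] <;>
          · intro e; simp [Fin.ext_iff] at e; omega
      · rfl
    have hne : (⟨a.val - 1, ha1⟩ : Fin d) ≠ ⟨b.val - 1, hb1⟩ := by
      intro e; simp [Fin.ext_iff] at e; exact hab (Fin.ext (by omega))
    rw [e1, e2, Matrix.det_permute, Equiv.Perm.sign_swap hne]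
    simp

lemma prodDet_ofSubtype {p : Fin (d + 1) → Prop} [DecidablePred p]
    (hp : ∀ a b, p a → p b → (a.val ≤ r.val ↔ b.val ≤ r.val)) (π : Perm {k // p k}) :
    ∀ v, prodDet M i j r (v ∘ Perm.ofSubtype π) = (π.sign : ℤ) * prodDet M i j r v := by
  refine π.swap_induction_on (by simp) fun f a b hab ih v => ?_
  have e : Perm.ofSubtype (swap a b) = swap (a : Fin (d + 1)) b := Equiv.Perm.ofSubtype_swap_eq a b
  rw [map_mul, e, Perm.coe_mul, ← Function.comp_assoc, ih,
    prodDet_swap M i j r v (fun h => hab (Subtype.ext h)) (hp _ _ a.2 b.2), Equiv.Perm.sign_mul,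
    Equiv.Perm.sign_swap hab]
  simp

lemma prodDet_perm (τ : Perm (Fin (d + 1))) (hτ : ∀ k, k.val ≤ r.val ↔ (τ k).val ≤ r.val)
    (v : Fin (d + 1) → Fin d → R) :
    prodDet M i j r (v ∘ τ) = (τ.sign : ℤ) * prodDet M i j r v := by
  classical
  let p : Fin (d + 1) → Prop := fun k => k.val ≤ r.val
  have hn : ∀ k, ¬ p (τ k) ↔ ¬ p k := fun k => not_congr (hτ k).symm
  set π₁ := τ.subtypePerm (p := p) (fun k => (hτ k).symm) with h₁
  set π₂ := τ.subtypePerm (p := fun k => ¬ p k) hn with h₂
  have e : τ = Perm.ofSubtype π₁ * Perm.ofSubtype π₂ := by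
    ext k
    by_cases hk : p k
    · rw [Perm.mul_apply, Perm.ofSubtype_apply_of_not_mem π₂ (not_not.2 hk),
        Perm.ofSubtype_apply_of_mem π₁ hk]
      rfl
    · rw [Perm.mul_apply, Perm.ofSubtype_apply_of_mem π₂ hk]
      rw [Perm.ofSubtype_apply_of_not_mem π₁]
      · rfl
      · exact (hn k).2 hk
  rw [e, Perm.coe_mul, ← Function.comp_assoc,
    prodDet_ofSubtype M i j r (p := fun k => ¬ p k) (fun a b ha hb => iff_of_false ha hb) π₂,
    prodDet_ofSubtype M i j r (p := p) (fun a b ha hb => iff_of_true ha hb) π₁,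
    Equiv.Perm.sign_mul, Equiv.Perm.sign_ofSubtype, Equiv.Perm.sign_ofSubtype]
  push_cast
  ring

lemma alternatization_prodDet_eq_zero :
    MultilinearMap.alternatization (prodDet M i j r) = 0 := by
  refine Module.Basis.ext_alternating (Pi.basisFun R (Fin d)) fun w hw => ?_
  exfalso
  have := Fintype.card_le_of_injective w hw
  simp at this

end alternating

variable (i j : Idx d n) (r : Fin d)

/-- The value of a shuffle relation at the minors of a matrix. -/
noncomputable def shuffleVal (M : Matrix (Fin n) (Fin d) R) : R :=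
  ∑ A : Finset (Fin (d + 1)), if hA : A.card = r.val + 1 then
    (-1) ^ shuffleSign r A * mdet M (shuffleI i j r A hA) * mdet M (shuffleJ i j r A hA) else 0

lemma mdet_shuffle (M : Matrix (Fin n) (Fin d) R) (A : Finset (Fin (d + 1)))
    (hA : A.card = r.val + 1) :
    mdet M (shuffleI i j r A hA) * mdet M (shuffleJ i j r A hA) =
      prodDet M i.1 j.1 r ((fun k => M (movingRows i j r k)) ∘ shuffleEquiv r A hA) := by
  rw [prodDet_apply]
  congr 1
  · rw [mdet]
    congr 1
    ext t c
    simp only [frontMat, Matrix.submatrix_apply, Matrix.of_apply, id, shuffleI]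
    split_ifs with h
    · simp only [Function.comp_apply, shuffleEquiv_apply, shufflePerm, Fin.val_castSucc, dif_pos h]
    · rfl
  · rw [mdet]
    congr 1
    ext t c
    simp only [backMat, Matrix.submatrix_apply, Matrix.of_apply, id, shuffleJ]
    split_ifs with h
    · rfl
    · simp only [Function.comp_apply, shuffleEquiv_apply, shufflePerm, Fin.val_succ]
      rw [dif_neg (by omega)]
      congr 3
      ext
      simp
      omega

lemma card_mul_shuffleVal (M : Matrix (Fin n) (Fin d) R) :
    ∃ N : ℕ, N ≠ 0 ∧ (N : R) * shuffleVal i j r M = 0 := by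
  classical
  set v : Fin (d + 1) → Fin d → R := fun k => M (movingRows i j r k)
  let F : Finset (Fin (d + 1)) := univ.filter fun k => k.val ≤ r.val
  have hFc : F.card = r.val + 1 := by
    rw [← Finset.card_range (r.val + 1)]
    refine Finset.card_nbij (fun k => k.val) (fun k hk => ?_) Fin.val_injective.injOn ?_
    · simp [F] at hk ⊢; omega
    · intro b hb; simp at hb; exact ⟨⟨b, by omega⟩, by simp [F]; omega, rfl⟩
  have h0 : ∑ σ : Perm (Fin (d + 1)), ((σ.sign : ℤ) : R) * prodDet M i.1 j.1 r (v ∘ σ) = 0 := by
    have := DFunLike.congr_fun (alternatization_prodDet_eq_zero M i.1 j.1 r) v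
    simpa [MultilinearMap.alternatization_apply, Units.smul_def, MultilinearMap.domDomCongr_apply,
      zsmul_eq_mul, Function.comp_def] using this
  set g : Perm (Fin (d + 1)) → Finset (Fin (d + 1)) := fun σ => F.image σ
  rw [← Finset.sum_fiberwise univ g] at h0
  set N := (univ.filter fun σ => g σ = F).card
  refine ⟨N, (Finset.card_pos.2 ⟨1, by simp [g]⟩).ne', ?_⟩
  refine Eq.trans ?_ h0
  rw [shuffleVal, Finset.mul_sum]
  refine Finset.sum_congr rfl fun A _ => ?_
  split_ifs with hA
  · set s := shuffleEquiv r A hA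
    have hs : F.image s = A := image_front r A hA
    have hterm : ∀ σ, g σ = A → ((σ.sign : ℤ) : R) * prodDet M i.1 j.1 r (v ∘ σ) =
        ((s.sign : ℤ) : R) * prodDet M i.1 j.1 r (v ∘ s) := by
      intro σ hσ
      set τ := s⁻¹ * σ
      have hσ' : σ = s * τ := by simp [τ]
      have hτ : ∀ k, k.val ≤ r.val ↔ (τ k).val ≤ r.val := by
        intro k
        rw [← shufflePerm_mem_iff (hA := hA) (τ k), ← shuffleEquiv_apply]
        have : s (τ k) = σ k := by simp [τ]
        rw [this]
        constructor
        · intro hk; rw [← hσ]; exact Finset.mem_image_of_mem σ (by simp [F, hk])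
        · intro hk; rw [← hσ] at hk
          obtain ⟨l, hl, hl'⟩ := Finset.mem_image.1 hk
          simpa [← σ.injective hl', F] using hl
      rw [hσ', Perm.coe_mul, ← Function.comp_assoc, prodDet_perm M i.1 j.1 r τ hτ,
        Equiv.Perm.sign_mul]
      rw [Units.val_mul, Int.cast_mul, mul_assoc, ← mul_assoc ((τ.sign : ℤ) : R), ← Int.cast_mul,
        ← Units.val_mul, Int.units_mul_self]
      simp
    rw [Finset.sum_congr rfl (fun σ hσ => hterm σ (by simpa using hσ)), Finset.sum_const,
      nsmul_eq_mul]
    congr 1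
    · refine congrArg Nat.cast ?_
      refine Finset.card_nbij' (fun σ => s * σ) (fun σ => s⁻¹ * σ) ?_ ?_ ?_ ?_
      · intro σ hσ
        simp [g] at hσ ⊢
        rw [← Finset.image_image, hσ, hs]
      · intro σ hσ
        simp [g] at hσ ⊢
        rw [← Finset.image_image, hσ]
        conv_lhs => rw [← hs]
        rw [Finset.image_image]
        simp
      · intro σ _; simp
      · intro σ _; simp
    · rw [← mdet_shuffle, sign_shuffle]
      push_cast
      ring
  · rw [mul_zero]
    refine (Finset.sum_eq_zero fun σ hσ => ?_).symm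
    simp [g] at hσ
    exact absurd (by rw [← hσ, Finset.card_image_of_injective _ σ.injective, hFc]) hA

lemma shuffleVal_map (f : R →+* S) (M : Matrix (Fin n) (Fin d) R) :
    f (shuffleVal i j r M) = shuffleVal i j r (M.map f) := by
  rw [shuffleVal, shuffleVal, map_sum]
  refine Finset.sum_congr rfl fun A _ => ?_
  split_ifs <;> simp [mdet_map]

lemma shuffleVal_eq_zero (M : Matrix (Fin n) (Fin d) R) : shuffleVal i j r M = 0 := by
  obtain ⟨N, hN, h⟩ := card_mul_shuffleVal i j r (genX ℤ d n)
  have h' : shuffleVal i j r (genX ℤ d n) = 0 :=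
    (mul_eq_zero.1 h).resolve_left (by exact_mod_cast hN)
  let f : MatRing ℤ d n →+* R := (MvPolynomial.eval₂Hom (Int.castRingHom R) fun p => M p.1 p.2)
  have : (genX ℤ d n).map f = M := by ext a b; simp [f, genX]
  rw [← this, ← shuffleVal_map, h', map_zero]

/-- Every shuffle relation vanishes at the minors of every matrix. -/
theorem evalAt_shuffleRel (M : Matrix (Fin n) (Fin d) S) :
    evalAt (K := K) M (shuffleRel K i j r) = 0 := by
  rw [← shuffleVal_eq_zero i j r M, shuffleRel, map_sum, shuffleVal]
  refine Finset.sum_congr rfl fun A _ => ?_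
  unfold shuffleTerm
  split_ifs <;> simp [evalAt_coord]

end Groth.Agent.Lib.Grass.Minors
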