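import Groth.Agent.Lib.Grass.Rank

/-!
# The Plücker quadrics cut out the Grassmannian
-/

set_option linter.unusedSectionVars false

namespace Groth.Agent.Lib.Grass.Quadrics

open W4bk4grassmannian MvPolynomial Finset Minors Invariant

universe u

variable {K : Type u} [Field K] {e n : ℕ}

lemma eval_minors (A : Matrix (Fin n) (Fin (e + 1)) K) (f : PlRing K (e + 1) n) :
    eval (fun θ : Idx (e + 1) n => mdet A θ.1) f = evalAt A f := by
  rw [← aeval_eq_eval]; rfl

lemma quadric_vanish (A : Matrix (Fin n) (Fin (e + 1)) K) (i' : Idx e n) (j' : Idx (e + 2) n) :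
    evalAt (K := K) A (quadric K i' j') = 0 := by
  simp only [quadric, map_sum, map_mul, map_pow, map_neg, map_one, evalAt_coord]
  let c : Fin (e + 1) → K := fun k =>
    (-1) ^ (e + k.val) * (A.submatrix i'.1 k.succAbove).det
  have hsnoc : ∀ x, mdet A (Fin.snoc i'.1 x) = ∑ k, A x k * c k := by
    intro x
    rw [mdet, Matrix.det_succ_row _ (Fin.last e)]
    refine sum_congr rfl fun k _ => ?_
    have hsub : (A.submatrix (Fin.snoc i'.1 x) id).submatrix (Fin.last e).succAbove k.succAbove =
        A.submatrix i'.1 k.succAbove := by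
      ext s t; simp
    rw [hsub]
    simp only [Matrix.submatrix_apply, Fin.snoc_last, id, Fin.val_last, c]
    ring
  simp only [hsnoc]
  have hzero : ∀ k : Fin (e + 1),
      ∑ h : Fin (e + 2), (-1 : K) ^ (h.val) * A (j'.1 h) k * mdet A (j'.1 ∘ h.succAbove) = 0 := by
    intro k
    let M : Matrix (Fin (e + 2)) (Fin (e + 2)) K :=
      Matrix.of fun h l => Fin.cons (α := fun _ => K) (A (j'.1 h) k) (fun t => A (j'.1 h) t) l
    have hM : M.det = 0 := by
      refine Matrix.det_zero_of_column_eq (i := 0) (j := k.succ) (Fin.succ_ne_zero k).symm fun h => ?_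
      simp [M]
    rw [Matrix.det_succ_column_zero] at hM
    rw [← hM]
    refine sum_congr rfl fun h _ => ?_
    rfl
  calc _ = ∑ h : Fin (e + 2), ∑ k, -c k *
        ((-1 : K) ^ (h.val) * A (j'.1 h) k * mdet A (j'.1 ∘ h.succAbove)) := by
        refine sum_congr rfl fun h _ => ?_
        rw [Finset.mul_sum, Finset.sum_mul]
        refine sum_congr rfl fun k _ => ?_
        ring
    _ = 0 := by
        rw [sum_comm]
        refine sum_eq_zero fun k _ => ?_
        rw [← Finset.mul_sum, hzero, mul_zero]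

lemma eval_coord (q : Idx (e + 1) n → K) (a : Fin (e + 1) → Fin n) (h : (univ.image a).card = e + 1) :
    eval q (coord K (e + 1) n a) =
      (-1) ^ invCount (e + 1) n a * q (sortIdx (e + 1) n a h) := by
  rw [coord, dif_pos h]; simp

lemma sortIdx_eq {d : ℕ} (a : Fin d → Fin n) (h : (univ.image a).card = d) (θ : Idx d n)
    (hθ : univ.image a = univ.image θ.1) : sortIdx d n a h = θ := by
  refine Subtype.ext (Finset.orderEmbOfFin_unique h (fun t => ?_) θ.2).symm
  rw [hθ]; exact mem_image_of_mem _ (mem_univ _)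

/-- Two solutions of the quadrics agreeing near a base point agree. -/
theorem eq_of_quadrics {q q' : Idx (e + 1) n → K}
    (hq : ∀ (i' : Idx e n) (j' : Idx (e + 2) n), eval q (quadric K i' j') = 0)
    (hq' : ∀ (i' : Idx e n) (j' : Idx (e + 2) n), eval q' (quadric K i' j') = 0)
    (θ₀ : Idx (e + 1) n) (h₀ : q θ₀ ≠ 0)
    (hnear : ∀ θ : Idx (e + 1) n, ((univ.image θ.1) \ (univ.image θ₀.1)).card ≤ 1 → q θ = q' θ) :
    q = q' := by
  funext θ
  induction hk : ((univ.image θ.1) \ (univ.image θ₀.1)).card using Nat.strong_induction_on generalizing θ with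
  | _ k ih =>
  by_cases hk1 : k ≤ 1
  · exact hnear θ (hk ▸ hk1)
  subst hk
  set S := univ.image θ.1 with hSdef
  set S₀ := univ.image θ₀.1 with hS0def
  have hS : S.card = e + 1 := by
    rw [hSdef, card_image_of_injective _ θ.2.injective, card_univ, Fintype.card_fin]
  have hS0 : S₀.card = e + 1 := by
    rw [hS0def, card_image_of_injective _ θ₀.2.injective, card_univ, Fintype.card_fin]
  obtain ⟨x, hx⟩ : (S \ S₀).Nonempty := card_pos.1 (by omega)
  obtain ⟨hxS, hxS0⟩ := mem_sdiff.1 hx
  have hi : (S.erase x).card = e := by rw [card_erase_of_mem hxS, hS]; omega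
  have hj : (insert x S₀).card = e + 2 := by rw [card_insert_of_notMem hxS0, hS0]
  let i' : Idx e n := ⟨fun t => (S.erase x).orderEmbOfFin hi t, OrderEmbedding.strictMono _⟩
  let j' : Idx (e + 2) n := ⟨fun t => (insert x S₀).orderEmbOfFin hj t, OrderEmbedding.strictMono _⟩
  have hiim : univ.image i'.1 = S.erase x := Finset.image_orderEmbOfFin_univ _ hi
  have hjim : univ.image j'.1 = insert x S₀ := Finset.image_orderEmbOfFin_univ _ hj
  obtain ⟨h0, -, hh0⟩ := mem_image.1 (hjim ▸ mem_insert_self x S₀ : x ∈ univ.image j'.1)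
  have e1 : ∀ h, univ.image (Fin.snoc i'.1 (j'.1 h) : Fin (e + 1) → Fin n) = insert (j'.1 h) (S.erase x) := by
    intro h
    rw [← hiim]
    ext y
    simp only [mem_image, mem_univ, true_and, mem_insert]
    constructor
    · rintro ⟨t, rfl⟩
      refine Fin.lastCases ?_ ?_ t
      · simp
      · intro s; right; exact ⟨s, by simp⟩
    · rintro (rfl | ⟨s, rfl⟩)
      · exact ⟨Fin.last e, by simp⟩
      · exact ⟨s.castSucc, by simp⟩
  have e2 : ∀ h : Fin (e + 2), univ.image (j'.1 ∘ h.succAbove) = (insert x S₀).erase (j'.1 h) := by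
    intro h
    rw [← hjim, ← Finset.image_image, Fin.image_succAbove_univ, Finset.compl_singleton,
      Finset.image_erase j'.2.injective]
  have hterm : ∀ h, h ≠ h0 →
      eval q (coord K (e + 1) n (Fin.snoc i'.1 (j'.1 h))) = eval q' (coord K (e + 1) n (Fin.snoc i'.1 (j'.1 h))) ∧
      eval q (coord K (e + 1) n (j'.1 ∘ h.succAbove)) = eval q' (coord K (e + 1) n (j'.1 ∘ h.succAbove)) := by
    intro h hne
    have hjne : j'.1 h ≠ x := fun hh => hne (j'.2.injective (hh.trans hh0.symm))
    have hjS0 : j'.1 h ∈ S₀ := by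
      have : j'.1 h ∈ insert x S₀ := hjim ▸ mem_image_of_mem _ (mem_univ h)
      exact (mem_insert.1 this).resolve_left hjne
    have agree : ∀ a : Fin (e + 1) → Fin n,
        ((univ.image a) \ S₀).card < (S \ S₀).card → eval q (coord K (e + 1) n a) = eval q' (coord K (e + 1) n a) := by
      intro a ha
      by_cases hc : (univ.image a).card = e + 1
      · rw [eval_coord q a hc, eval_coord q' a hc,
          ih _ ha (sortIdx (e + 1) n a hc) (congrArg (fun s => (s \ S₀).card) (Finset.image_orderEmbOfFin_univ _ hc))]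
      · rw [coord, dif_neg hc, map_zero, map_zero]
    refine ⟨agree _ ?_, agree _ ?_⟩
    · rw [e1]
      refine lt_of_le_of_lt (card_le_card (t := (S \ S₀).erase x) ?_) (card_erase_lt_of_mem hx)
      intro y
      simp only [mem_sdiff, mem_insert, mem_erase]
      rintro ⟨rfl | hy, hy'⟩
      · exact absurd hjS0 hy'
      · exact ⟨hy.1, hy.2, hy'⟩
    · rw [e2]
      refine lt_of_le_of_lt (card_le_card (t := {x}) ?_) (by simp; omega)
      intro y
      simp only [mem_sdiff, mem_erase, mem_insert, mem_singleton]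
      rintro ⟨⟨-, rfl | hy⟩, hy'⟩
      · rfl
      · exact absurd hy hy'
  have hsum := (hq i' j').trans (hq' i' j').symm
  simp only [quadric, map_sum, map_mul, map_pow, map_neg, map_one] at hsum
  rw [← add_sum_erase _ _ (mem_univ h0), ← add_sum_erase _ _ (mem_univ h0),
    sum_congr rfl (fun h hh => by rw [(hterm h (ne_of_mem_erase hh)).1, (hterm h (ne_of_mem_erase hh)).2])] at hsum
  replace hsum := add_right_cancel hsum
  have c1 : univ.image (Fin.snoc i'.1 (j'.1 h0) : Fin (e + 1) → Fin n) = S := by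
    rw [e1, hh0, insert_erase hxS]
  have c2 : univ.image (j'.1 ∘ h0.succAbove) = S₀ := by
    rw [e2, hh0, erase_insert hxS0]
  have d1 : (univ.image (Fin.snoc i'.1 (j'.1 h0) : Fin (e + 1) → Fin n)).card = e + 1 := c1.symm ▸ hS
  have d2 : (univ.image (j'.1 ∘ h0.succAbove)).card = e + 1 := c2.symm ▸ hS0
  rw [eval_coord q _ d1, eval_coord q' _ d1, eval_coord q _ d2, eval_coord q' _ d2,
    sortIdx_eq _ d1 θ c1, sortIdx_eq _ d2 θ₀ c2, ← hnear θ₀ (by rw [sdiff_self]; simp)] at hsum
  have hne : ∀ m : ℕ, (-1 : K) ^ m ≠ 0 := fun m => pow_ne_zero _ (by simp)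
  exact mul_left_cancel₀ (hne _) (mul_left_cancel₀ (hne _)
    (mul_right_cancel₀ (mul_ne_zero (hne _) h₀) hsum))

theorem exists_matrix {q : Idx (e + 1) n → K} (hq : q ≠ 0)
    (h : ∀ (i' : Idx e n) (j' : Idx (e + 2) n), eval q (quadric K i' j') = 0) :
    ∃ A : Matrix (Fin n) (Fin (e + 1)) K, ∀ θ : Idx (e + 1) n, q θ = mdet A θ.1 := by
  obtain ⟨θ₀, h₀⟩ := Function.ne_iff.1 hq
  replace h₀ : q θ₀ ≠ 0 := h₀
  set c := q θ₀
  let A1 : Matrix (Fin n) (Fin (e + 1)) K :=
    Matrix.of fun i t => eval q (coord K (e + 1) n (Function.update θ₀.1 t i)) / c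
  have hcard0 : (univ.image θ₀.1).card = e + 1 := by
    rw [card_image_of_injective _ θ₀.2.injective, card_univ, Fintype.card_fin]
  have hQ0 : eval q (coord K (e + 1) n θ₀.1) = c := by
    rw [eval_coord q _ hcard0, sortIdx_eq _ hcard0 θ₀ rfl]
    have : invCount (e + 1) n θ₀.1 = 0 := by
      rw [invCount, card_eq_zero, filter_eq_empty_iff]
      rintro ⟨a, b⟩ - ⟨hab, hba⟩
      exact (θ₀.2 hab).not_gt hba
    rw [this, pow_zero, one_mul]
  have hA1 : A1.submatrix θ₀.1 id = 1 := by
    ext s t
    by_cases hst : s = t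
    · subst hst
      simp [A1, hQ0, h₀, c]
    · have : (univ.image (Function.update θ₀.1 t (θ₀.1 s))).card ≠ e + 1 := by
        intro hc
        have hi := Finset.card_image_iff.1 (hc.trans (Fintype.card_fin _).symm |>.trans card_univ.symm)
        exact hst (hi (mem_coe.2 (mem_univ s)) (mem_coe.2 (mem_univ t)) (by simp [hst]))
      simp [A1, coord, dif_neg this, hst]
  let g : Matrix (Fin (e + 1)) (Fin (e + 1)) K := Matrix.diagonal (Function.update 1 0 c)
  have hg : g.det = c := by
    rw [Matrix.det_diagonal, Finset.prod_update_of_mem (mem_univ 0)]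
    simp
  refine ⟨A1 * g, congrFun (eq_of_quadrics h (fun i' j' => (eval_minors _ _).trans (quadric_vanish _ _ _))
    θ₀ h₀ fun θ hθ => ?_)⟩
  rw [Rank.mul_mdet, hg]
  have hS : (univ.image θ.1).card = e + 1 := by
    rw [card_image_of_injective _ θ.2.injective, card_univ, Fintype.card_fin]
  rcases Nat.eq_or_lt_of_le hθ with h1 | h1
  · have h2 : ((univ.image θ₀.1) \ (univ.image θ.1)).card = 1 := by
      rw [card_sdiff_comm (hcard0.trans hS.symm)]; exact h1
    obtain ⟨x, hx⟩ := card_eq_one.1 h1
    obtain ⟨y, hy⟩ := card_eq_one.1 h2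
    have hxm := mem_singleton_self x
    rw [← hx, mem_sdiff] at hxm
    have hym := mem_singleton_self y
    rw [← hy, mem_sdiff] at hym
    obtain ⟨t, -, rfl⟩ := mem_image.1 hym.1
    have him : univ.image (Function.update θ₀.1 t x) = univ.image θ.1 := by
      refine eq_of_subset_of_card_le (fun z hz => ?_) ?_
      · obtain ⟨s, -, rfl⟩ := mem_image.1 hz
        by_cases hs : s = t
        · subst hs; simpa using mem_image.1 hxm.1
        · rw [Function.update_of_ne hs]
          by_contra hc
          have : θ₀.1 s ∈ (univ.image θ₀.1) \ (univ.image θ.1) :=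
            mem_sdiff.2 ⟨mem_image_of_mem _ (mem_univ s), hc⟩
          rw [hy, mem_singleton] at this
          exact hs (θ₀.2.injective this)
      · rw [hS, card_image_of_injective _ fun a b hab => ?_, card_univ, Fintype.card_fin]
        by_cases ha : a = t <;> by_cases hb : b = t
        · exact ha.trans hb.symm
        · subst ha; rw [Function.update_self, Function.update_of_ne hb] at hab
          exact absurd (hab ▸ mem_image_of_mem _ (mem_univ b)) hxm.2
        · subst hb; rw [Function.update_self, Function.update_of_ne ha] at hab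
          exact absurd (hab ▸ mem_image_of_mem _ (mem_univ a)) hxm.2
        · rw [Function.update_of_ne ha, Function.update_of_ne hb] at hab
          exact θ₀.2.injective hab
    have hc' : (univ.image (Function.update θ₀.1 t x)).card = e + 1 := him ▸ hS
    have key : eval q (coord K (e + 1) n (Function.update θ₀.1 t x)) =
        mdet A1 (Function.update θ₀.1 t x) * c := by
      rw [mdet_update_one A1 θ₀.1 t x hA1]
      simp [A1, h₀, c]
    have hco := evalAt_coord (K := K) A1 (Function.update θ₀.1 t x)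
    rw [← eval_minors, eval_coord _ _ hc', sortIdx_eq _ hc' θ him] at hco
    rw [eval_coord _ _ hc', sortIdx_eq _ hc' θ him, ← hco, mul_assoc] at key
    exact mul_left_cancel₀ (pow_ne_zero _ (by simp : (-1 : K) ≠ 0)) key
  · have hsub : univ.image θ.1 = univ.image θ₀.1 :=
      eq_of_subset_of_card_le (sdiff_eq_empty_iff_subset.1 (card_eq_zero.1 (by omega))) (by omega)
    have : θ = θ₀ := by
      rw [← sortIdx_eq θ.1 hS θ rfl, sortIdx_eq θ.1 hS θ₀ hsub]
    subst this
    rw [show mdet A1 θ.1 = 1 by rw [mdet, hA1, Matrix.det_one], one_mul]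

theorem iff_exists_matrix (q : Idx (e + 1) n → K) (hq : q ≠ 0) :
    (∀ (i' : Idx e n) (j' : Idx (e + 2) n), eval q (quadric K i' j') = 0) ↔
      ∃ A : Matrix (Fin n) (Fin (e + 1)) K, ∀ θ : Idx (e + 1) n, q θ = (A.submatrix θ.1 id).det := by
  refine ⟨exists_matrix hq, ?_⟩
  rintro ⟨A, hA⟩ i' j'
  rw [show q = fun θ : Idx (e + 1) n => mdet A θ.1 from funext hA, eval_minors]
  exact quadric_vanish A i' j'

end Groth.Agent.Lib.Grass.Quadrics
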