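import Mathlib.RingTheory.MvPolynomial.Ideal
import Mathlib.RingTheory.MvPolynomial.Homogeneous
import Mathlib.Algebra.Order.Antidiag.FinsuppEquiv
import Mathlib.LinearAlgebra.Dimension.Constructions
import Mathlib.RingTheory.Ideal.Quotient.Operations
import Mathlib.Algebra.BigOperators.Finprod

/-!
# Hilbert function of the Stanley–Reisner ring of a finite lattice
-/

set_option linter.unusedSectionVars false
set_option linter.unusedSimpArgs false

namespace Groth.Agent.Lib.Grass.SRHilb

open MvPolynomial Finset

universe u v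

variable (K : Type u) [Field K] (L : Type v) [DistribLattice L] [Fintype L]

/-- The Stanley–Reisner ideal. -/
noncomputable abbrev sr : Ideal (MvPolynomial L K) :=
  Ideal.span {f : MvPolynomial L K | ∃ a b : L, ¬ a ≤ b ∧ ¬ b ≤ a ∧ f = X a * X b}

variable {K L}

lemma monomial_mem_sr {e : L →₀ ℕ} (c : K) (h : ¬ IsChain (fun a b : L => a ≤ b) (e.support : Set L)) :
    monomial e c ∈ sr K L := by
  classical
  simp only [IsChain, Set.Pairwise, not_forall, not_or] at h
  obtain ⟨a, ha, b, hb, hne, h1, h2⟩ := h
  have hle : Finsupp.single a 1 + Finsupp.single b 1 ≤ e := by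
    intro x
    have ha' : 1 ≤ e a := Nat.one_le_iff_ne_zero.2 (by simpa using ha)
    have hb' : 1 ≤ e b := Nat.one_le_iff_ne_zero.2 (by simpa using hb)
    by_cases hxa : x = a
    · subst hxa
      simpa [Finsupp.single_apply, Ne.symm hne] using ha'
    · by_cases hxb : x = b
      · subst hxb
        simpa [Finsupp.single_apply, hne] using hb'
      · simp [Finsupp.single_apply, Ne.symm hxa, Ne.symm hxb]
  obtain ⟨r, rfl⟩ := exists_add_of_le hle
  have : monomial (Finsupp.single a 1 + Finsupp.single b 1 + r) c = X a * X b * monomial r c := by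
    rw [X, X, monomial_mul, monomial_mul]; simp
  rw [this]
  exact Ideal.mul_mem_right _ _ (Ideal.subset_span ⟨a, b, h1, h2, rfl⟩)

lemma coeff_eq_zero_of_mem_sr {f : MvPolynomial L K} (hf : f ∈ sr K L) {e : L →₀ ℕ}
    (he : IsChain (fun a b : L => a ≤ b) (e.support : Set L)) : coeff e f = 0 := by
  classical
  have hsr : sr K L = Ideal.span ((fun s => monomial s (1 : K)) '' {s | ∃ a b : L, ¬ a ≤ b ∧ ¬ b ≤ a ∧
      s = Finsupp.single a 1 + Finsupp.single b 1}) := by
    refine congrArg Ideal.span (Set.ext fun g => ?_)
    constructor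
    · rintro ⟨a, b, h1, h2, rfl⟩
      exact ⟨_, ⟨a, b, h1, h2, rfl⟩, by simp [X, monomial_mul]⟩
    · rintro ⟨_, ⟨a, b, h1, h2, rfl⟩, rfl⟩
      exact ⟨a, b, h1, h2, by simp [X, monomial_mul]⟩
  rw [hsr, mem_ideal_span_monomial_image] at hf
  by_contra hc
  obtain ⟨_, ⟨a, b, h1, h2, rfl⟩, hle⟩ := hf e (mem_support_iff.2 hc)
  have hne : a ≠ b := fun h => h1 (h ▸ le_rfl)
  have ha : a ∈ e.support := by
    have := hle a
    simp [Finsupp.single_apply, Ne.symm hne] at this
    simp; omega
  have hb : b ∈ e.support := by
    have := hle b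
    simp [Finsupp.single_apply, hne] at this
    simp; omega
  rcases he ha hb hne with h | h
  · exact h1 h
  · exact h2 h

variable (L)

open Classical in
/-- Exponents of degree `m` supported on chains. -/
noncomputable def chainExps (m : ℕ) : Finset (L →₀ ℕ) :=
  ((univ : Finset (Finset L)).filter fun C : Finset L => C.Nonempty ∧ IsChain (fun a b : L => a ≤ b) (C : Set L) ∧
    C.card ≤ m).biUnion fun C =>
      (C.finsuppAntidiag (m - C.card)).image fun r => r + Finsupp.indicator C fun _ _ => 1

variable {L}

lemma support_add_indicator [DecidableEq L] {C : Finset L} {r : L →₀ ℕ} (hr : r.support ⊆ C) :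
    (r + Finsupp.indicator C fun _ _ => 1).support = C := by
  ext x
  by_cases hx : x ∈ C
  · simp [hx, Finsupp.indicator_apply]
  · simp [hx, Finsupp.indicator_apply, Finsupp.notMem_support_iff.1 (fun h => hx (hr h))]

lemma sum_indicator [DecidableEq L] (C : Finset L) :
    ∑ x, (Finsupp.indicator C fun _ _ => 1 : L →₀ ℕ) x = C.card := by
  simp [Finsupp.indicator_apply, Finset.sum_ite_mem]

lemma mem_chainExps {m : ℕ} (hm : 1 ≤ m) {e : L →₀ ℕ} :
    e ∈ chainExps L m ↔ ∑ x, e x = m ∧ IsChain (fun a b : L => a ≤ b) (e.support : Set L) := by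
  classical
  simp only [chainExps, mem_biUnion, mem_filter, mem_univ, true_and, mem_image, mem_finsuppAntidiag]
  constructor
  · rintro ⟨C, ⟨-, hC, hcard⟩, r, ⟨hsum, hr⟩, rfl⟩
    refine ⟨?_, by rwa [support_add_indicator hr]⟩
    have : ∑ x, r x = m - C.card := by
      rw [← hsum]
      exact (sum_subset (subset_univ C) fun x _ hx => by
        simpa using fun h : x ∈ r.support => hx (hr h)).symm
    simp only [Finsupp.add_apply, sum_add_distrib, this, sum_indicator]
    omega
  · rintro ⟨hsum, he⟩
    refine ⟨e.support, ⟨?_, he, ?_⟩, e - Finsupp.indicator e.support (fun _ _ => (1 : ℕ)), ⟨?_, ?_⟩, ?_⟩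
    · rw [Finsupp.support_nonempty_iff]
      rintro rfl
      simp at hsum
      omega
    · rw [← hsum, ← sum_subset (subset_univ e.support) fun x _ hx => by simpa using hx]
      simpa using card_nsmul_le_sum e.support (fun x => e x) 1
        fun x hx => Nat.one_le_iff_ne_zero.2 (by simpa using hx)
    · simp only [Finsupp.coe_tsub, Pi.sub_apply]
      rw [sum_tsub_distrib _ fun x hx => by
        simpa [Finsupp.indicator_apply, hx] using Nat.one_le_iff_ne_zero.2 (by simpa using hx)]
      congr 1
      · rw [← hsum]; exact sum_subset (subset_univ _) fun x _ hx => by simpa using hx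
      · refine (sum_congr rfl fun x hx => ?_).trans (card_eq_sum_ones _).symm
        simp [Finsupp.indicator_apply, hx]
    · exact Finsupp.support_tsub
    · ext x
      by_cases hx : e x = 0
      · simp [Finsupp.indicator_apply, hx]
      · simp [Finsupp.indicator_apply, hx]; omega

lemma card_chainExps {m : ℕ} (hm : 1 ≤ m) :
    (chainExps L m).card =
      ∑ᶠ C : {C : Finset L // C.Nonempty ∧ IsChain (fun a b : L => a ≤ b) (C : Set L)},
        Nat.choose (m - 1) (C.1.card - 1) := by
  classical
  rw [finsum_eq_sum_of_fintype, ← Finset.sum_subtype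
    ((univ : Finset (Finset L)).filter fun C : Finset L => C.Nonempty ∧ IsChain (fun a b : L => a ≤ b) (C : Set L))
    (by simp) (fun C => Nat.choose (m - 1) (C.card - 1)), chainExps, card_biUnion]
  · rw [← sum_filter_add_sum_filter_not
      ((univ : Finset (Finset L)).filter fun C : Finset L => C.Nonempty ∧ IsChain (fun a b : L => a ≤ b) (C : Set L))
      fun C => C.card ≤ m]
    rw [sum_eq_zero (s := filter (fun C : Finset L => ¬ C.card ≤ m) _) fun C hC => ?_, add_zero, filter_filter]
    · refine sum_congr (filter_congr fun C _ => by tauto) fun C hC => ?_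
      simp only [mem_filter, mem_univ, true_and] at hC
      rw [card_image_of_injective _ (add_left_injective _), card_finsuppAntidiag_nat_eq_choose]
      have h1 := hC.1.1.card_pos
      rw [show C.card + (m - C.card) - 1 = m - 1 by omega]
      exact Nat.choose_symm_of_eq_add (by omega)
    · simp only [mem_filter] at hC
      exact Nat.choose_eq_zero_of_lt (by omega)
  · intro C hC C' hC' hne
    simp only [Function.onFun, disjoint_left, mem_image, mem_finsuppAntidiag]
    rintro _ ⟨r, hr, rfl⟩ ⟨r', hr', h⟩
    exact hne (by rw [← support_add_indicator hr.2, ← h, support_add_indicator hr'.2])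

theorem finrank_eq {m : ℕ} (hm : 1 ≤ m) :
    Module.finrank K ((homogeneousSubmodule L K m).map (Ideal.Quotient.mkₐ K (sr K L)).toLinearMap) =
      ∑ᶠ C : {C : Finset L // C.Nonempty ∧ IsChain (fun a b : L => a ≤ b) (C : Set L)},
        Nat.choose (m - 1) (C.1.card - 1) := by
  classical
  rw [← card_chainExps hm]
  set π := (Ideal.Quotient.mkₐ K (sr K L)).toLinearMap with hπ
  let g : {e // e ∈ chainExps L m} → MvPolynomial L K ⧸ sr K L := fun e => π (monomial e.1 1)
  have hdeg : ∀ e : L →₀ ℕ, e.degree = ∑ x, e x := fun e => by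
    rw [Finsupp.degree_apply]; exact sum_subset (subset_univ _) fun x _ hx => by simpa using hx
  have hli : LinearIndependent K g := by
    rw [Fintype.linearIndependent_iff]
    intro c hc e
    have hmem : ∑ i, monomial i.1 (c i) ∈ sr K L := by
      rw [← Ideal.Quotient.eq_zero_iff_mem, ← hc, map_sum]
      refine sum_congr rfl fun i _ => ?_
      simp only [g, ← map_smul, smul_monomial, smul_eq_mul, mul_one]
      rfl
    have := coeff_eq_zero_of_mem_sr hmem ((mem_chainExps hm).1 e.2).2
    rw [coeff_sum, sum_eq_single e (fun i _ hie => by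
      rw [coeff_monomial, if_neg fun h => hie (Subtype.ext h)]) (by simp), coeff_monomial, if_pos rfl] at this
    exact this
  have hspan : Submodule.span K (Set.range g) = (homogeneousSubmodule L K m).map π := by
    refine le_antisymm ?_ ?_
    · rw [Submodule.span_le]
      rintro _ ⟨e, rfl⟩
      refine Submodule.mem_map_of_mem ?_
      rw [mem_homogeneousSubmodule]
      exact isHomogeneous_monomial _ (by rw [hdeg]; exact ((mem_chainExps hm).1 e.2).1)
    · rintro _ ⟨f, hf, rfl⟩
      rw [f.as_sum, map_sum]
      refine Submodule.sum_mem _ fun e he => ?_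
      by_cases hch : IsChain (fun a b : L => a ≤ b) (e.support : Set L)
      · have hmem : e ∈ chainExps L m := (mem_chainExps hm).2 ⟨by
          have := (mem_homogeneousSubmodule _ _).1 hf (mem_support_iff.1 he)
          rw [← hdeg, Finsupp.degree_eq_weight_one]; exact this, hch⟩
        have : monomial e (coeff e f) = coeff e f • monomial e (1 : K) := by
          simp [smul_monomial]
        rw [this, map_smul]
        exact Submodule.smul_mem _ _ (Submodule.subset_span ⟨⟨e, hmem⟩, rfl⟩)
      · rw [show π (monomial e (coeff e f)) = 0 from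
          Ideal.Quotient.eq_zero_iff_mem.2 (monomial_mem_sr _ hch)]
        exact Submodule.zero_mem _
  rw [← hspan, finrank_span_eq_card hli, Fintype.card_coe]

end Groth.Agent.Lib.Grass.SRHilb
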