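import Groth.Agent.Lib.Grass.Basis
import Mathlib.Data.Fin.Tuple.Basic

/-!
# The semigroup of leading exponents of the Schubert coordinate ring
-/

set_option linter.unusedSectionVars false

namespace Groth.Agent.Lib.Grass.Semigroup

open W4bk4grassmannian MvPolynomial Finset Minors Cell Straighten Basis

universe u

variable {d n : ℕ}

/-- Number of entries `≥ i` in column `t`. -/
def tailN (e : Var d n →₀ ℕ) (t : Fin d) (i : ℕ) : ℕ :=
  ∑ i' : Fin n, if i ≤ i'.val then e (toLex (t, i')) else 0

/-- The exponents of semistandard tableaux under `τ`. -/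
structure IsSST (τ : Idx d n) (e : Var d n →₀ ℕ) : Prop where
  col : ∀ t t', tailN e t 0 = tailN e t' 0
  step : ∀ t t' : Fin d, t.val + 1 = t'.val → ∀ i, tailN e t i ≤ tailN e t' (i + 1)
  supp : ∀ t i, τ.1 t < i → e (toLex (t, i)) = 0

lemma tailN_chainExp {m : ℕ} (c : Fin m → Idx d n) (t : Fin d) (i : ℕ) :
    tailN (chainExp c) t i = (univ.filter fun k => i ≤ ((c k).1 t).val).card := by
  simp only [tailN, chainExp_apply, Finset.card_filter]
  have : ∀ x : Fin n, (if i ≤ x.val then ∑ k, (if (c k).1 t = x then 1 else 0) else 0) =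
      ∑ k, (if i ≤ x.val then (if (c k).1 t = x then 1 else 0) else 0) := fun x => by
    split_ifs <;> simp
  rw [Finset.sum_congr rfl fun x _ => this x, Finset.sum_comm]
  refine Finset.sum_congr rfl fun k _ => ?_
  rw [Finset.sum_eq_single ((c k).1 t) (fun b _ hb => by simp [Ne.symm hb]) (by simp)]
  simp

lemma tailN_add (a b : Var d n →₀ ℕ) (t : Fin d) (i : ℕ) :
    tailN (a + b) t i = tailN a t i + tailN b t i := by
  simp only [tailN, ← Finset.sum_add_distrib]
  exact Finset.sum_congr rfl fun i' _ => by split_ifs <;> simp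

lemma tailN_nsmul (N : ℕ) (a : Var d n →₀ ℕ) (t : Fin d) (i : ℕ) :
    tailN (N • a) t i = N * tailN a t i := by
  simp only [tailN, Finset.mul_sum]
  exact Finset.sum_congr rfl fun i' _ => by split_ifs <;> simp

lemma isSST_chainExp {m : ℕ} {τ : Idx d n} {c : Fin m → Idx d n} (h : ∀ k, c k ≤ τ) :
    IsSST τ (chainExp c) := by
  refine ⟨fun t t' => by simp [tailN_chainExp], fun t t' ht i => ?_, fun t i hi => ?_⟩
  · rw [tailN_chainExp, tailN_chainExp]
    refine Finset.card_le_card fun k hk => ?_
    simp only [mem_filter, mem_univ, true_and] at hk ⊢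
    have h2 : (c k).1 t < (c k).1 t' := (c k).2 (by rw [Fin.lt_def]; omega)
    rw [Fin.lt_def] at h2; omega
  · rw [chainExp_apply, card_eq_zero, filter_eq_empty_iff]
    intro k _ hk
    exact not_le.2 hi (hk ▸ h k t)

lemma tailN_antitone (e : Var d n →₀ ℕ) (t : Fin d) {i j : ℕ} (h : i ≤ j) :
    tailN e t j ≤ tailN e t i :=
  Finset.sum_le_sum fun i' _ => by split_ifs <;> omega

lemma eq_of_tailN {e e' : Var d n →₀ ℕ} (h : ∀ t i, tailN e t i = tailN e' t i) : e = e' := by
  ext v
  obtain ⟨⟨t, i⟩, rfl⟩ := toLex.surjective v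
  have key : ∀ e : Var d n →₀ ℕ, tailN e t i = e (toLex (t, i)) + tailN e t (i.val + 1) := by
    intro e
    simp only [tailN]
    rw [← Finset.add_sum_erase univ (fun i' : Fin n => if i.val ≤ i'.val then e (toLex (t, i')) else 0)
      (mem_univ i), ← Finset.add_sum_erase univ
        (fun i' : Fin n => if i.val + 1 ≤ i'.val then e (toLex (t, i')) else 0) (mem_univ i)]
    rw [if_pos le_rfl, if_neg (by omega), zero_add]
    congr 1
    refine Finset.sum_congr rfl fun i' hi' => ?_
    have : i'.val ≠ i.val := fun hh => (Finset.ne_of_mem_erase hi') (Fin.ext hh)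
    split_ifs <;> omega
  have h1 := key e
  have h2 := key e'
  rw [h, h] at h1
  omega

/-- Every semistandard exponent comes from a chain. -/
theorem exists_chain (hd : 0 < d) {τ : Idx d n} {e : Var d n →₀ ℕ} (he : IsSST τ e) :
    ∃ (m : ℕ) (c : Fin m → Idx d n), Antitone c ∧ (∀ k, c k ≤ τ) ∧ chainExp c = e := by
  classical
  set t₀ : Fin d := ⟨0, hd⟩
  set m := tailN e t₀ 0
  have hn : 0 < n := lt_of_le_of_lt (Nat.zero_le _) (τ.1 t₀).isLt
  have hzero : ∀ t i, n ≤ i → tailN e t i = 0 := fun t i hi =>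
    Finset.sum_eq_zero fun i' _ => if_neg (by have := i'.isLt; omega)
  let f : Fin m → Fin d → ℕ := fun k t => Nat.findGreatest (fun i => k.val < tailN e t i) n
  have hf_spec : ∀ k t, k.val < tailN e t (f k t) := fun k t =>
    Nat.findGreatest_spec (P := fun i => k.val < tailN e t i) (Nat.zero_le n) (by
      rw [he.col t t₀]; exact k.isLt)
  have hf_lt : ∀ k t, f k t < n := fun k t => by
    by_contra hc
    have := hf_spec k t
    rw [hzero t _ (not_lt.1 hc)] at this
    exact Nat.not_lt_zero _ this
  have hf_iff : ∀ k t i, i ≤ f k t ↔ k.val < tailN e t i := fun k t i => by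
    refine ⟨fun h => (hf_spec k t).trans_le (tailN_antitone e t h), fun h => ?_⟩
    refine Nat.le_findGreatest ?_ h
    by_contra hc
    rw [hzero t i (by omega)] at h
    exact Nat.not_lt_zero _ h
  have hmono : ∀ k, StrictMono fun t : Fin d => (⟨f k t, hf_lt k t⟩ : Fin n) := by
    intro k
    have hd' : ∃ d', d = d' + 1 := ⟨d - 1, by omega⟩
    obtain ⟨d', rfl⟩ := hd'
    refine Fin.strictMono_iff_lt_succ.2 fun t => ?_
    rw [Fin.lt_def]
    have := (hf_iff k t.succ (f k t.castSucc + 1)).2
      ((hf_spec k t.castSucc).trans_le (he.step _ _ (by simp) _))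
    show f k t.castSucc < f k t.succ
    omega
  refine ⟨m, fun k => ⟨fun t => ⟨f k t, hf_lt k t⟩, hmono k⟩, fun a b hab t => ?_, fun k t => ?_,
    eq_of_tailN fun t i => ?_⟩
  · show f b t ≤ f a t
    exact (hf_iff a t _).2 (lt_of_le_of_lt hab (hf_spec b t))
  · show f k t ≤ (τ.1 t).val
    by_contra hc
    have h0 : tailN e t (f k t) = 0 := Finset.sum_eq_zero fun i' _ => by
      split_ifs with h
      · exact he.supp t i' (by rw [Fin.lt_def]; omega)
      · rfl
    have := hf_spec k t
    rw [h0] at this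
    exact Nat.not_lt_zero _ this
  · rw [tailN_chainExp]
    have hle : tailN e t i ≤ m := (tailN_antitone e t (Nat.zero_le i)).trans (he.col t t₀).le
    have : (univ.filter fun k : Fin m => i ≤ f k t) = univ.filter fun k : Fin m => k.val < tailN e t i :=
      Finset.filter_congr fun k _ => hf_iff k t i
    simp only
    rw [this, Fin.card_filter_val_lt, min_eq_right hle]

variable {K : Type u} [CommRing K] [IsDomain K]

/-- Every element of the coordinate ring is a combination of standard monomials. -/
lemma exists_std_sum (τ : Idx d n) (f : PlRing K d n) :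
    ∃ (g : (Σ m : ℕ, {c : Fin m → Idx d n // Antitone c ∧ ∀ k, c k ≤ τ}) →₀ K),
      cellMap K τ f = ∑ x ∈ g.support, g x • cellMap K τ (chainMon K x.2.1) := by
  have hspan : Ideal.Quotient.mk (plIdeal K τ) f ∈ stdSpan (plIdeal K τ) (fun φ => φ ≤ τ) := by
    rw [stdSpan_eq_top (I := plIdeal K τ) (P := fun φ => φ ≤ τ)
      (fun i j r h => Ideal.subset_span (Or.inl ⟨i, j, r, h, rfl⟩))
      (fun φ hφ => Ideal.subset_span (Or.inr ⟨φ, hφ, rfl⟩))]
    trivial
  rw [stdSpan, Finsupp.mem_span_range_iff_exists_finsupp] at hspan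
  obtain ⟨g, hg⟩ := hspan
  refine ⟨g, ?_⟩
  have hsub : f - ∑ x ∈ g.support, g x • chainMon K x.2.1 ∈ plIdeal K τ := by
    rw [← Ideal.Quotient.eq_zero_iff_mem, map_sub, mk_linearCombination, ← hg, sub_eq_zero]
    rfl
  have := plIdeal_le_ker τ hsub
  rw [RingHom.mem_ker, map_sub, sub_eq_zero, map_sum] at this
  simpa only [map_smul] using this

/-- The leading exponent of a nonzero element of the coordinate ring is semistandard. -/
theorem exists_chain_degree (hd : 0 < d) (τ : Idx d n) {f : PlRing K d n} (hf : cellMap K τ f ≠ 0) :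
    ∃ (m : ℕ) (c : Fin m → Idx d n), Antitone c ∧ (∀ k, c k ≤ τ) ∧
      chainExp c = ord.degree (cellMap K τ f) := by
  classical
  obtain ⟨g, hg⟩ := exists_std_sum τ f
  set h := fun x : (Σ m : ℕ, {c : Fin m → Idx d n // Antitone c ∧ ∀ k, c k ≤ τ}) =>
    cellMap K τ (chainMon K x.2.1)
  have hne : g.support.Nonempty := by
    rw [Finset.nonempty_iff_ne_empty]
    intro he
    rw [hg, he] at hf
    simp at hf
  obtain ⟨j, hj, hmax⟩ := Finset.exists_max_image g.support (fun x => ord.toSyn (ord.degree (h x))) hne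
  have hdeg : ∀ x, ord.degree (h x) = chainExp x.2.1 := fun x => degree_chainMon x.2.2.2
  refine ⟨j.1, j.2.1, j.2.2.1, j.2.2.2, ?_⟩
  rw [← hdeg]
  refine ord.toSyn.injective (le_antisymm ?_ ?_)
  · refine MonomialOrder.le_degree ?_
    rw [mem_support_iff, hg, coeff_sum, Finset.sum_eq_single j]
    · rw [coeff_smul, smul_eq_mul]
      exact mul_ne_zero (Finsupp.mem_support_iff.1 hj)
        (ord.coeff_degree_ne_zero_iff.2 (cellMap_chainMon_ne_zero j.2.2.2))
    · intro k hk hkj
      rw [coeff_smul, ord.coeff_eq_zero_of_lt, smul_zero]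
      refine lt_of_le_of_ne (hmax k hk) fun e => hkj ?_
      have e' := ord.toSyn.injective e
      rw [hdeg, hdeg] at e'
      have := chainExp_injective hd k.2.2.1 j.2.2.1 e'
      obtain ⟨m, c, hc⟩ := k
      obtain ⟨m', c', hc'⟩ := j
      simp only [Sigma.mk.injEq] at this
      obtain ⟨rfl, hh⟩ := this
      obtain rfl := eq_of_heq hh
      rfl
    · exact fun h => absurd hj h
  · rw [hg, MonomialOrder.degree_le_iff]
    intro e he
    rw [mem_support_iff, coeff_sum] at he
    obtain ⟨k, hk, hne'⟩ := Finset.exists_ne_zero_of_sum_ne_zero he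
    rw [coeff_smul] at hne'
    refine le_trans (MonomialOrder.le_degree ?_) (hmax k hk)
    rw [mem_support_iff]
    intro h0
    exact hne' (by rw [h0, smul_zero])

theorem isSST_degree (hd : 0 < d) (τ : Idx d n) {f : PlRing K d n} (hf : cellMap K τ f ≠ 0) :
    IsSST τ (ord.degree (cellMap K τ f)) := by
  obtain ⟨m, c, -, hle, he⟩ := exists_chain_degree hd τ hf
  exact he ▸ isSST_chainExp hle

/-- Subtracting the standard monomial with the same leading exponent lowers the degree. -/
lemma reduce (τ : Idx d n) {g : CRing K d n} (hg : g ≠ 0) {m : ℕ} {c : Fin m → Idx d n}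
    (hle : ∀ k, c k ≤ τ) (he : chainExp c = ord.degree g) :
    g - ord.leadingCoeff g • cellMap K τ (chainMon K c) = 0 ∨
      ord.toSyn (ord.degree (g - ord.leadingCoeff g • cellMap K τ (chainMon K c))) <
        ord.toSyn (ord.degree g) := by
  set p := cellMap K τ (chainMon K c) with hp
  set g' := g - ord.leadingCoeff g • p with hg'
  rcases eq_or_ne g' 0 with h | h
  · exact Or.inl h
  refine Or.inr (lt_of_le_of_ne ?_ fun heq => ?_)
  · rw [MonomialOrder.degree_le_iff]
    intro e hmem
    rw [mem_support_iff, hg', coeff_sub, coeff_smul] at hmem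
    by_cases h1 : coeff e g = 0
    · rw [h1, zero_sub, neg_ne_zero] at hmem
      have hep : e ∈ p.support := mem_support_iff.2 fun h2 => hmem (by rw [h2, smul_zero])
      exact (MonomialOrder.le_degree hep).trans (by rw [hp, degree_chainMon hle, he])
    · exact MonomialOrder.le_degree (mem_support_iff.2 h1)
  · have e1 : ord.degree g' = ord.degree g := ord.toSyn.injective heq
    have e2 : coeff (ord.degree g) p = 1 := by
      rw [← he, ← degree_chainMon (K := K) hle]
      exact leadingCoeff_chainMon hle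
    have e3 := ord.coeff_degree_ne_zero_iff.2 h
    rw [e1, hg', coeff_sub, coeff_smul, e2, smul_eq_mul, mul_one] at e3
    exact e3 (sub_self _)

/-- An element all whose successive leading exponents are semistandard is in the coordinate ring. -/
theorem mem_range_of_induct (hd : 0 < d) (τ : Idx d n) (Q : CRing K d n → Prop)
    (hQ : ∀ g, Q g → g ≠ 0 → IsSST τ (ord.degree g))
    (hsub : ∀ g (a : K) (f : PlRing K d n), Q g → Q (g - a • cellMap K τ f))
    {g : CRing K d n} (hg : Q g) : g ∈ Set.range (cellMap K τ) := by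
  suffices H : ∀ (N : ord.syn) (g : CRing K d n), ord.toSyn (ord.degree g) = N → Q g →
      g ∈ Set.range (cellMap K τ) from H _ g rfl hg
  intro N
  induction N using WellFoundedLT.induction with
  | _ N IH =>
    intro g hN hg
    rcases eq_or_ne g 0 with rfl | hne
    · exact ⟨0, map_zero _⟩
    obtain ⟨m, c, -, hle, he⟩ := exists_chain hd (hQ g hg hne)
    rcases reduce τ hne hle he with h | h
    · exact ⟨ord.leadingCoeff g • chainMon K c, by rw [map_smul, (sub_eq_zero.1 h).symm]⟩
    · obtain ⟨f, hf⟩ := IH _ (hN ▸ h) _ rfl (hsub g _ _ hg)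
      exact ⟨f + ord.leadingCoeff g • chainMon K c, by rw [map_add, map_smul, hf, sub_add_cancel]⟩

end Groth.Agent.Lib.Grass.Semigroup
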