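import Groth.Agent.Lib.Grass.Dim
import Mathlib.RingTheory.Ideal.UFD
import Mathlib.RingTheory.Localization.Away.Basic
import Mathlib.Algebra.MvPolynomial.Degrees
import Mathlib.RingTheory.Noetherian.Basic

/-!
# Factoriality of Schubert coordinate rings
-/

set_option linter.unusedSectionVars false

namespace Groth.Agent.Lib.Grass.UFD

open W4bk4grassmannian MvPolynomial Finset Minors Cell Straighten Basis Semigroup Invariant Ideals
open Groth.Agent.Lib.Grass.Dim

universe u

variable {d n : ℕ} {K : Type u} [Field K]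

lemma evalAt_cellN_eq_zero [Infinite K] (hd : 0 < d) (w : Idx d n) {f : PlRing K d n}
    (hf : f ∈ schubertVanishing K d n w) : evalAt (cellN (K := K) hd w) f = 0 := by
  refine MvPolynomial.funext fun y => ?_
  rw [map_zero, ← aeval_eq_eval]
  refine (evalAt_comp (aeval y) (cellN (K := K) hd w) f).trans (mem_schubertVanishing.1 hf _ fun φ hφ => ?_)
  obtain ⟨t, ht⟩ : ∃ t, w.1 t < φ.1 t := by
    by_contra hc
    simp only [not_exists, not_lt] at hc
    exact hφ hc
  rw [mdet, Matrix.det_apply]
  refine Finset.sum_eq_zero fun σ _ => ?_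
  obtain ⟨s, hs, hσs⟩ : ∃ s, s ≤ t ∧ t ≤ σ s := by
    by_contra hc
    simp only [not_exists, not_and, not_le] at hc
    have := Finset.card_le_card_of_injOn σ (s := Finset.Iic t) (t := Finset.Iio t)
      (fun s hs => by simpa using hc s (by simpa using hs)) σ.injective.injOn
    simp at this
  rw [Finset.prod_eq_zero (mem_univ s) ?_, smul_zero]
  have hgt : w.1 s < φ.1 (σ s) := (w.2.monotone hs).trans_lt (ht.trans_le (φ.2.monotone hσs))
  simp [cellN, hgt.ne', not_lt.2 hgt.le]

variable [Infinite K]

/-- The embedding in a polynomial ring through the open cell. -/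
noncomputable def cellEmb (hd : 0 < d) (w : Idx d n) :
    PlRing K d n ⧸ schubertVanishing K d n w →ₐ[K] MvPolynomial (NVar w) K :=
  Ideal.Quotient.liftₐ _ (evalAt (cellN hd w)) fun _ hf => evalAt_cellN_eq_zero hd w hf

lemma cellEmb_mk (hd : 0 < d) (w : Idx d n) (f : PlRing K d n) :
    cellEmb hd w (Ideal.Quotient.mk _ f) = evalAt (cellN hd w) f := rfl

lemma cellEmb_injective (hd : 0 < d) (w : Idx d n) : Function.Injective (cellEmb (K := K) hd w) := by
  rw [injective_iff_map_eq_zero]
  intro x hx
  obtain ⟨f, rfl⟩ := Ideal.Quotient.mk_surjective x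
  exact Ideal.Quotient.eq_zero_iff_mem.2 (ker_evalAt_cellN hd w hx)

lemma mdet_cellN_update (hd : 0 < d) (w : Idx d n) (t : Fin d) (i : Fin n) :
    mdet (cellN (K := K) hd w) (Function.update w.1 t i) =
      (if i = w.1 t then 1 else if h : i < w.1 t ∧ ∀ s, w.1 s ≠ i then X (some ⟨t, i, h⟩) else 0) *
        X none := by
  classical
  let base : Matrix (Fin n) (Fin d) (MvPolynomial (NVar w) K) := Matrix.of fun i t =>
    if i = w.1 t then 1 else if h : i < w.1 t ∧ ∀ s, w.1 s ≠ i then X (some ⟨t, i, h⟩) else 0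
  let D : Fin d → MvPolynomial (NVar w) K := fun t => if t = ⟨0, hd⟩ then X none else 1
  have hN : cellN (K := K) hd w = base * Matrix.diagonal D := by
    ext i t
    rw [Matrix.mul_diagonal]
    rfl
  have hb : base.submatrix w.1 id = Matrix.of fun s t => base (w.1 s) t := rfl
  rw [hN, mdet, Matrix.submatrix_mul base _ _ _ id Function.bijective_id, Matrix.submatrix_id_id,
    Matrix.det_mul, Matrix.det_diagonal]
  have hD : ∏ t, D t = X none := by
    rw [Finset.prod_eq_single (⟨0, hd⟩ : Fin d) (fun b _ hb => if_neg hb) (by simp)]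
    exact if_pos rfl
  rw [hD]
  congr 1
  have h1 : base.submatrix (Function.update w.1 t i) id =
      (1 : Matrix (Fin d) (Fin d) (MvPolynomial (NVar w) K)).updateRow t (base i) := by
    ext s c
    rw [Matrix.updateRow_apply]
    by_cases hs : s = t
    · subst hs; simp
    · simp only [if_neg hs, Matrix.submatrix_apply, id, Function.update_of_ne hs, base, Matrix.of_apply]
      by_cases hc : s = c
      · subst hc; simp
      · rw [Matrix.one_apply_ne hc, if_neg (fun e => hc (w.2.injective e)),
          dif_neg (fun h => h.2 s rfl)]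
  rw [h1]
  have h2 := Matrix.det_updateRow_sum (1 : Matrix (Fin d) (Fin d) (MvPolynomial (NVar w) K)) t (base i)
  have h3 : ∑ k, base i k • (1 : Matrix (Fin d) (Fin d) (MvPolynomial (NVar w) K)) k = base i := by
    funext c; simp [Finset.sum_apply, Matrix.one_apply]
  rw [h3, Matrix.det_one, smul_eq_mul, mul_one] at h2
  exact h2

lemma mdet_cellN_self (hd : 0 < d) (w : Idx d n) : mdet (cellN (K := K) hd w) w.1 = X none := by
  have := mdet_cellN_update (K := K) hd w ⟨0, hd⟩ (w.1 ⟨0, hd⟩)
  rwa [Function.update_eq_self, if_pos rfl, one_mul] at this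

lemma exists_pow_mul_mem (hd : 0 < d) (w : Idx d n) (q : MvPolynomial (NVar w) K) :
    ∃ (k : ℕ) (r : PlRing K d n), X none ^ k * q = evalAt (cellN hd w) r := by
  induction q using MvPolynomial.induction_on with
  | C a => exact ⟨0, C a, by simp [evalAt]⟩
  | add p q hp hq =>
    obtain ⟨k, r, hr⟩ := hp
    obtain ⟨l, s, hs⟩ := hq
    refine ⟨k + l, X w ^ l * r + X w ^ k * s, ?_⟩
    simp only [map_add, map_mul, map_pow, evalAt_X, mdet_cellN_self, ← hr, ← hs]
    ring
  | mul_X p v hp =>
    obtain ⟨k, r, hr⟩ := hp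
    match v with
    | none =>
      refine ⟨k, r * X w, ?_⟩
      simp only [map_mul, evalAt_X, mdet_cellN_self, ← hr]
      ring
    | some ⟨t, i, h⟩ =>
      refine ⟨k + 1, r * coord K d n (Function.update w.1 t i), ?_⟩
      simp only [map_mul, evalAt_coord, mdet_cellN_update, ← hr, if_neg h.1.ne, dif_pos h]
      ring

/-- The quotient becomes a localised polynomial ring after inverting the top coordinate. -/
theorem ufd_of_prime_top (hd : 0 < d) (w : Idx d n)
    (hp : Prime (Ideal.Quotient.mk (schubertVanishing K d n w) (X w))) :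
    UniqueFactorizationMonoid (PlRing K d n ⧸ schubertVanishing K d n w) := by
  set R := PlRing K d n ⧸ schubertVanishing K d n w
  have : (schubertVanishing K d n w).IsPrime := isPrime_schubert hd w
  let lam : MvPolynomial (NVar w) K := X none
  let S := Localization.Away lam
  let ψ : R →+* S := (algebraMap (MvPolynomial (NVar w) K) S).comp (cellEmb hd w).toRingHom
  letI : Algebra R S := ψ.toAlgebra
  set x : R := Ideal.Quotient.mk (schubertVanishing K d n w) (X w)
  have hx : cellEmb hd w x = lam := by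
    rw [cellEmb_mk, evalAt_X, mdet_cellN_self]
  have hlam : lam ≠ 0 := X_ne_zero none
  have hinj : Function.Injective (algebraMap (MvPolynomial (NVar w) K) S) :=
    IsLocalization.injective S (powers_le_nonZeroDivisors_of_noZeroDivisors hlam)
  have : IsLocalization.Away x S := by
    refine (isLocalization_iff _ _).2 ⟨?_, ?_, ?_⟩
    · rintro ⟨_, k, rfl⟩
      show IsUnit (algebraMap _ S (cellEmb hd w (x ^ k)))
      rw [map_pow, hx, map_pow]
      exact (IsLocalization.Away.algebraMap_isUnit lam).pow k
    · intro z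
      obtain ⟨k, q, hq⟩ := IsLocalization.Away.surj lam z
      obtain ⟨l, r, hr⟩ := exists_pow_mul_mem hd w q
      refine ⟨(Ideal.Quotient.mk _ r, ⟨x ^ (l + k), ⟨l + k, rfl⟩⟩), ?_⟩
      show z * algebraMap _ S (cellEmb hd w (x ^ (l + k))) =
        algebraMap _ S (cellEmb hd w (Ideal.Quotient.mk _ r))
      rw [map_pow, hx, cellEmb_mk, ← hr, pow_add, map_mul, map_pow, map_pow, map_mul, map_pow, ← hq]
      ring
    · intro a b h
      have : a = b := cellEmb_injective hd w (hinj h)
      exact ⟨1, by rw [this]⟩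
  have : UniqueFactorizationMonoid S :=
    UniqueFactorizationMonoid.of_isLocalization (Submonoid.powers lam) S
  exact (UniqueFactorizationMonoid.iff_of_isLocalizationAway_of_prime hp S).2 this

lemma tailN_zero_eq_zero {e : Var d n →₀ ℕ} (hcol : ∀ t, tailN e t 0 = 0) : e = 0 := by
  ext v
  obtain ⟨⟨t, i⟩, rfl⟩ := toLex.surjective v
  exact Nat.le_zero.1 ((hcol t) ▸ by
    simp only [tailN, Nat.zero_le, if_true]
    exact Finset.single_le_sum (fun i _ => Nat.zero_le (e (toLex (t, i)))) (mem_univ i))

theorem irreducible_top (hd : 0 < d) (w : Idx d n) :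
    Irreducible (Ideal.Quotient.mk (schubertVanishing K d n w) (X w)) := by
  have hker : schubertVanishing K d n w = RingHom.ker (cellMap K w) := schubertVanishing_eq_ker hd w
  refine ⟨fun h => ?_, fun a b hab => ?_⟩
  · obtain ⟨q, hq⟩ := h.exists_right_inv
    obtain ⟨q, rfl⟩ := Ideal.Quotient.mk_surjective q
    rw [← map_mul, ← map_one (Ideal.Quotient.mk (schubertVanishing K d n w)),
      Ideal.Quotient.mk_eq_mk_iff_sub_mem] at hq
    have := Bottom.constantCoeff_eq_zero hd hq
    simp at this
  obtain ⟨a, rfl⟩ := Ideal.Quotient.mk_surjective a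
  obtain ⟨b, rfl⟩ := Ideal.Quotient.mk_surjective b
  rw [← map_mul, Ideal.Quotient.mk_eq_mk_iff_sub_mem, hker, RingHom.mem_ker, map_sub, sub_eq_zero,
    map_mul, show cellMap K w (X w) = mdet (cellMat K w) w.1 from evalAt_X _ _] at hab
  have h0 : cellMap K w a * cellMap K w b ≠ 0 := hab ▸ mdet_cellMat_ne_zero le_rfl
  have hdeg := congrArg ord.degree hab
  rw [degree_mdet_cellMat w w le_rfl,
    MonomialOrder.degree_mul (left_ne_zero_of_mul h0) (right_ne_zero_of_mul h0)] at hdeg
  have hA := isSST_degree hd w (left_ne_zero_of_mul h0)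
  have hB := isSST_degree hd w (right_ne_zero_of_mul h0)
  have hsum : ∀ t, tailN (ord.degree (cellMap K w a)) t 0 + tailN (ord.degree (cellMap K w b)) t 0 = 1 := by
    intro t
    rw [← tailN_add, ← hdeg, tailN_diagExp, if_pos (Nat.zero_le _)]
  have key : ∀ f : PlRing K d n, cellMap K w f ≠ 0 →
      (∀ t, tailN (ord.degree (cellMap K w f)) t 0 = 0) →
      IsUnit (Ideal.Quotient.mk (schubertVanishing K d n w) f) := by
    intro f hf hz
    have he := ord.eq_C_of_degree_eq_zero (tailN_zero_eq_zero hz)
    set c := ord.leadingCoeff (cellMap K w f)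
    have hc : c ≠ 0 := ord.leadingCoeff_ne_zero_iff.2 hf
    have : Ideal.Quotient.mk (schubertVanishing K d n w) f =
        Ideal.Quotient.mk (schubertVanishing K d n w) (C c) := by
      rw [Ideal.Quotient.mk_eq_mk_iff_sub_mem, hker, RingHom.mem_ker, map_sub, he, sub_eq_zero]
      exact ((cellMap K w).commutes c).symm
    rw [this]
    exact ((isUnit_iff_ne_zero.2 hc).map C).map _
  by_cases hz : tailN (ord.degree (cellMap K w a)) ⟨0, hd⟩ 0 = 0
  · exact Or.inl (key a (left_ne_zero_of_mul h0) fun t => (hA.col t ⟨0, hd⟩).trans hz)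
  · refine Or.inr (key b (right_ne_zero_of_mul h0) fun t => (hB.col t ⟨0, hd⟩).trans ?_)
    have := hsum ⟨0, hd⟩
    omega

lemma codeg_lt {φ τ : Idx d n} (h : φ < τ) : codeg φ < codeg τ := by
  refine Finset.sum_lt_sum (fun t _ => Nat.sub_le_sub_right (h.le t) _) ?_
  obtain ⟨t, ht⟩ : ∃ t, φ.1 t < τ.1 t := by
    by_contra hc
    simp only [not_exists, not_lt] at hc
    exact h.ne (Subtype.ext (funext fun t => le_antisymm (h.le t) (hc t)))
  refine ⟨t, mem_univ _, ?_⟩
  have := le_apply φ t
  rw [Fin.lt_def] at ht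
  omega

theorem prime_top_iff (hd : 0 < d) (hdn : d ≤ n) (τ : Idx d n) :
    Prime (Ideal.Quotient.mk (schubertVanishing K d n τ) (X τ)) ↔ (divisors τ).Subsingleton := by
  set J := schubertVanishing K d n τ with hJ
  have hX0 : Ideal.Quotient.mk J (X τ) ≠ 0 := fun h =>
    (X_mem_schubert_iff hd).1 (Ideal.Quotient.eq_zero_iff_mem.1 h) le_rfl
  by_cases hτ : ∃ φ, φ < τ
  swap
  · simp only [not_exists] at hτ
    refine iff_of_true ?_ fun a ha => absurd ha.1 (hτ a)
    obtain rfl : bot hdn = τ := (bot_le hdn τ).eq_or_lt.resolve_right (hτ _)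
    exact Bottom.prime_bot hd hdn _
  have hmap : (Ideal.span {Ideal.Quotient.mk J (X τ)}).IsPrime ↔
      (⨅ φ ∈ divisors τ, schubertVanishing K d n φ).IsPrime := by
    rw [← schubert_sup_span hd τ hτ, ← Set.image_singleton, ← Ideal.map_span]
    constructor
    · intro h
      have h2 := Ideal.comap_isPrime (Ideal.Quotient.mk J) ((Ideal.span {X τ}).map (Ideal.Quotient.mk J))
      rwa [Ideal.comap_map_of_surjective _ Ideal.Quotient.mk_surjective,
        ← RingHom.ker_eq_comap_bot, Ideal.mk_ker, sup_comm] at h2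
    · intro h
      have : (Ideal.span {X τ}).map (Ideal.Quotient.mk J) =
          (J ⊔ Ideal.span {X τ}).map (Ideal.Quotient.mk J) := by
        rw [Ideal.map_sup, Ideal.map_quotient_self, bot_sup_eq]
      rw [this]
      exact Ideal.map_isPrime_of_surjective Ideal.Quotient.mk_surjective (by rw [Ideal.mk_ker]; exact le_sup_left)
  rw [← Ideal.span_singleton_prime hX0, hmap]
  obtain ⟨φ₀, hφ₀⟩ := hτ
  obtain ⟨φ, hφ, -⟩ := exists_divisor hφ₀
  constructor
  · intro hp
    have hsub : ∀ a ∈ divisors τ, (⨅ φ ∈ divisors τ, schubertVanishing K d n φ) ≤ schubertVanishing K d n a :=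
      fun a ha => iInf₂_le a ha
    classical
    set s : Finset (Idx d n) := univ.filter fun a => a ∈ divisors τ
    have hinf : s.inf (schubertVanishing K d n) ≤ ⨅ φ ∈ divisors τ, schubertVanishing K d n φ :=
      le_iInf₂ fun a ha => Finset.inf_le (by simp [s, ha])
    obtain ⟨c, hc, hle⟩ := hp.inf_le'.1 hinf
    simp only [s, mem_filter, mem_univ, true_and] at hc
    have hall : ∀ a ∈ divisors τ, a = c := fun a ha => by
      have hac : a ≤ c := (schubert_le_iff hd).1 (hle.trans (hsub a ha))
      rcases hac.eq_or_lt with h | h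
      · exact h
      · have := codeg_lt h
        have h1 := ha.2
        have h2 := hc.2
        omega
    exact fun a ha b hb => (hall a ha).trans (hall b hb).symm
  · intro hsub
    have : (⨅ a ∈ divisors τ, schubertVanishing K d n a) = schubertVanishing K d n φ :=
      le_antisymm (iInf₂_le φ hφ) (le_iInf₂ fun a ha => by rw [hsub ha hφ])
    rw [this]
    exact isPrime_schubert hd φ

lemma exists_divisor_at (w : Idx d n) (t : Fin d) (h : t.val < (w.1 t).val)
    (h' : ∀ t' : Fin d, t'.val + 1 = t.val → (w.1 t').val + 1 < (w.1 t).val) :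
    ∃ φ ∈ divisors w, (φ.1 t).val + 1 = (w.1 t).val ∧ ∀ t', t' ≠ t → φ.1 t' = w.1 t' := by
  classical
  set v : Fin n := ⟨(w.1 t).val - 1, by omega⟩ with hv
  have hmono : StrictMono (Function.update w.1 t v) := by
    intro a b hab
    by_cases ha : a = t <;> by_cases hb : b = t
    · subst ha; subst hb; exact absurd hab (lt_irrefl _)
    · subst ha
      rw [Function.update_self, Function.update_of_ne hb, Fin.lt_def, hv]
      have h2 : w.1 a < w.1 b := w.2 hab
      rw [Fin.lt_def] at h2
      show (w.1 a).val - 1 < _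
      omega
    · subst hb
      rw [Function.update_self, Function.update_of_ne ha, Fin.lt_def, hv]
      show (w.1 a).val < (w.1 b).val - 1
      rw [Fin.lt_def] at hab
      have h3 := h' ⟨b.val - 1, by omega⟩ (by simp; omega)
      have h4 : (w.1 a).val ≤ (w.1 ⟨b.val - 1, by omega⟩).val :=
        w.2.monotone (show a.val ≤ b.val - 1 by omega)
      omega
    · rw [Function.update_of_ne ha, Function.update_of_ne hb]
      exact w.2 hab
  refine ⟨⟨_, hmono⟩, ⟨lt_of_le_of_ne (fun s => ?_) fun e => ?_, ?_⟩, ?_, fun s hs => ?_⟩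
  · show Function.update w.1 t v s ≤ w.1 s
    by_cases hs : s = t
    · subst hs; rw [Function.update_self, Fin.le_def]; show (w.1 s).val - 1 ≤ _; omega
    · rw [Function.update_of_ne hs]
  · have := congrFun (congrArg Subtype.val e) t
    simp only [Function.update_self, hv, Fin.ext_iff] at this
    omega
  · unfold codeg
    rw [← Finset.add_sum_erase univ _ (mem_univ t),
      ← Finset.add_sum_erase univ (fun t => (w.1 t).val - t.val) (mem_univ t)]
    rw [Finset.sum_congr rfl (fun s hs => by rw [Function.update_of_ne (ne_of_mem_erase hs)] :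
      ∀ s ∈ univ.erase t, ((Function.update w.1 t v) s).val - s.val = (w.1 s).val - s.val)]
    simp only [Function.update_self, hv]
    omega
  · simp only [Function.update_self, hv]
    omega
  · exact Function.update_of_ne hs _ _

lemma divisor_exists_pos {φ w : Idx d n} (h : φ ∈ divisors w) :
    ∃ t, (φ.1 t).val + 1 = (w.1 t).val ∧ ∀ t', t' ≠ t → φ.1 t' = w.1 t' := by
  classical
  obtain ⟨hlt, hc⟩ := h
  obtain ⟨t, ht⟩ : ∃ t, φ.1 t < w.1 t := by
    by_contra hh
    simp only [not_exists, not_lt] at hh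
    exact hlt.ne (Subtype.ext (funext fun t => le_antisymm (hlt.le t) (hh t)))
  rw [Fin.lt_def] at ht
  unfold codeg at hc
  rw [← Finset.add_sum_erase univ _ (mem_univ t),
    ← Finset.add_sum_erase univ (fun t => (w.1 t).val - t.val) (mem_univ t)] at hc
  have h1 : ∀ s ∈ univ.erase t, (φ.1 s).val - s.val ≤ (w.1 s).val - s.val := fun s _ =>
    Nat.sub_le_sub_right (hlt.le s) _
  have h2 := Finset.sum_le_sum h1
  have h3 := le_apply φ t
  refine ⟨t, by omega, fun s hs => ?_⟩
  have h4 := (Finset.sum_eq_sum_iff_of_le h1).1 (by omega) s (mem_erase.2 ⟨hs, mem_univ _⟩)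
  have h5 := le_apply φ s
  have h6 := le_apply w s
  exact Fin.ext (by omega)

theorem divisors_subsingleton_iff (τ : Idx d n) :
    (divisors τ).Subsingleton ↔
      ∃ s : ℕ, (∀ t : Fin d, t.val < s → (τ.1 t).val = t.val) ∧
        ∀ t t' : Fin d, s ≤ t.val → t.val + 1 = t'.val → (τ.1 t).val + 1 = (τ.1 t').val := by
  classical
  constructor
  · intro hsub
    by_cases hne : (univ.filter fun t : Fin d => t.val < (τ.1 t).val).Nonempty
    swap
    · refine ⟨d, fun t _ => ?_, fun t t' h _ => absurd h (not_le.2 t.isLt)⟩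
      by_contra hc
      exact hne ⟨t, by simp; have := le_apply τ t; omega⟩
    set t₀ := (univ.filter fun t : Fin d => t.val < (τ.1 t).val).min' hne
    have ht₀ : t₀.val < (τ.1 t₀).val := by
      simpa using (univ.filter fun t : Fin d => t.val < (τ.1 t).val).min'_mem hne
    have hbefore : ∀ t < t₀, (τ.1 t).val = t.val := fun t ht => by
      by_contra hc
      refine not_le.2 ht ((univ.filter fun t : Fin d => t.val < (τ.1 t).val).min'_le t ?_)
      simp; have := le_apply τ t; omega
    refine ⟨t₀.val, fun t ht => hbefore t ht, fun t t' hs htt => ?_⟩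
    have hlt : τ.1 t < τ.1 t' := τ.2 (show t.val < t'.val by omega)
    rw [Fin.lt_def] at hlt
    by_contra hc
    obtain ⟨φ, hφ, hφ1, hφ2⟩ := exists_divisor_at τ t₀ ht₀ fun s hs' => by
      rw [hbefore s (show s.val < t₀.val by omega)]; omega
    have h1 := le_apply τ t
    obtain ⟨ψ, hψ, hψ1, hψ2⟩ := exists_divisor_at τ t' (by omega) fun s hs' => by
      obtain rfl : s = t := Fin.ext (by omega)
      omega
    have e := hsub hφ hψ
    subst e
    have : t₀ ≠ t' := fun e => by rw [e] at hs; omega
    rw [hψ2 t₀ this] at hφ1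
    omega
  · rintro ⟨s, hs1, hs2⟩
    have key : ∀ φ ∈ divisors τ, ∃ t : Fin d, t.val = s ∧ (φ.1 t).val + 1 = (τ.1 t).val ∧
        ∀ t', t' ≠ t → φ.1 t' = τ.1 t' := by
      intro φ hφ
      obtain ⟨t, ht1, ht2⟩ := divisor_exists_pos hφ
      refine ⟨t, ?_, ht1, ht2⟩
      rcases lt_trichotomy t.val s with h | h | h
      · have := hs1 t h
        have := le_apply φ t
        omega
      · exact h
      · set t' : Fin d := ⟨t.val - 1, by omega⟩
        have h1 := hs2 t' t (by simp [t']; omega) (by simp [t']; omega)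
        have hlt : φ.1 t' < φ.1 t := φ.2 (show t.val - 1 < t.val by omega)
        rw [ht2 t' (fun e => by have := congrArg Fin.val e; simp [t'] at this; omega), Fin.lt_def] at hlt
        omega
    intro a ha b hb
    obtain ⟨t, ht, ha1, ha2⟩ := key a ha
    obtain ⟨t', ht', hb1, hb2⟩ := key b hb
    obtain rfl : t = t' := Fin.ext (by omega)
    refine Subtype.ext (funext fun x => ?_)
    by_cases hx : x = t
    · subst hx; exact Fin.ext (by omega)
    · rw [ha2 x hx, hb2 x hx]

end Groth.Agent.Lib.Grass.UFD
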